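import Mathlib.RingTheory.Unramified.LocalStructure
import Mathlib.RingTheory.Unramified.Field
import Mathlib.RingTheory.Etale.Basic
import Mathlib.RingTheory.Smooth.Flat
import Mathlib.RingTheory.Smooth.Locus
import Mathlib.RingTheory.Flat.TorsionFree
import Mathlib.RingTheory.KrullDimension.Zero
import Mathlib.RingTheory.Ideal.MinimalPrime.Noetherian
import Mathlib.RingTheory.Localization.BaseChange
import Mathlib.Algebra.MvPolynomial.Nilpotent

set_option autoImplicit false
universe u v

namespace Groth.Agent.Lib.Helper25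

open TensorProduct

/-- In a reduced ring, an element killed by an ideal that is contained in no minimal prime
is zero. -/
theorem eq_zero_of_forall_minimalPrimes {R : Type*} [CommRing R] [IsReduced R] (I : Ideal R)
    (hI : ∀ p ∈ minimalPrimes R, ¬ I ≤ p) (x : R) (hx : ∀ r ∈ I, r * x = 0) : x = 0 := by
  have h1 : x ∈ sInf (minimalPrimes R) := by
    rw [Submodule.mem_sInf]
    intro p hp
    obtain ⟨r, hrI, hrp⟩ := SetLike.not_le_iff_exists.mp (hI p hp)
    have : r * x ∈ p := by rw [hx r hrI]; exact p.zero_mem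
    exact (hp.1.1.mem_or_mem this).resolve_left hrp
  have h2 : sInf (minimalPrimes R) = nilradical R := by
    rw [minimalPrimes, Ideal.sInf_minimalPrimes, nilradical]
    rfl
  rw [h2, nilradical_eq_zero] at h1
  exact h1

/-- An étale algebra over a reduced Noetherian ring is reduced. -/
theorem isReduced_of_etale_of_isNoetherianRing (R T : Type*) [CommRing R] [CommRing T]
    [Algebra R T] [Algebra.Etale R T] [IsReduced R] [IsNoetherianRing R] : IsReduced T := by
  constructor
  intro t ht
  have key : ∀ p ∈ minimalPrimes R, ∃ r : R, r ∉ p ∧ r • t = 0 := by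
    intro p hp
    haveI : p.IsPrime := hp.1.1
    have : Ring.KrullDimLE 0 (Localization.AtPrime p) := .of_isLocalization _ hp _
    let : Field (Localization.AtPrime p) := Ring.KrullDimLE.isField_of_isReduced.toField
    have : IsReduced (Localization.AtPrime p ⊗[R] T) :=
      Algebra.FormallyUnramified.isReduced_of_field (Localization.AtPrime p)
        (Localization.AtPrime p ⊗[R] T)
    have h0 : (1 : Localization.AtPrime p) ⊗ₜ[R] t = 0 := by
      have hn : IsNilpotent ((1 : Localization.AtPrime p) ⊗ₜ[R] t) := by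
        obtain ⟨n, hn⟩ := ht
        exact ⟨n, by rw [Algebra.TensorProduct.tmul_pow, one_pow, hn, tmul_zero]⟩
      exact hn.eq_zero
    obtain ⟨⟨r, hr⟩, hrt⟩ := (IsLocalizedModule.eq_zero_iff p.primeCompl
      (TensorProduct.mk R (Localization.AtPrime p) T 1)).mp h0
    exact ⟨r, hr, hrt⟩
  have hI : ∀ p ∈ minimalPrimes R, ¬ Ideal.torsionOf R T t ≤ p := by
    intro p hp hle
    obtain ⟨r, hrp, hrt⟩ := key p hp
    exact hrp (hle ((Ideal.mem_torsionOf_iff _ _).mpr hrt))
  have hnot : ¬ ((Ideal.torsionOf R T t : Set R) ⊆ ⋃ p ∈ minimalPrimes R, (p : Set R)) := by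
    intro hsub
    obtain ⟨p, hp, hle⟩ := (Ideal.subset_union_prime_finite
      (minimalPrimes.finite_of_isNoetherianRing R) (f := id) ⊥ ⊥
      (fun p hp _ _ => hp.1.1)).mp hsub
    exact hI p hp hle
  obtain ⟨r, hrI, hr⟩ := Set.not_subset.mp hnot
  have hr' : ∀ p ∈ minimalPrimes R, r ∉ p := by
    intro p hp hrp
    exact hr (Set.mem_biUnion hp hrp)
  have hreg : r ∈ nonZeroDivisors R := by
    rw [mem_nonZeroDivisors_iff_right]
    intro x hx
    refine eq_zero_of_forall_minimalPrimes (Ideal.span {r}) ?_ x ?_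
    · intro p hp hle
      exact hr' p hp (hle (Ideal.mem_span_singleton_self r))
    · intro s hs
      obtain ⟨c, rfl⟩ := Ideal.mem_span_singleton'.mp hs
      rw [mul_assoc, mul_comm r x, hx, mul_zero]
  have hsm : IsSMulRegular T r := Module.Flat.isSMulRegular_of_nonZeroDivisors hreg
  have h1 : r • t = r • (0 : T) := by
    rw [smul_zero]; exact (Ideal.mem_torsionOf_iff _ _).mp hrI
  exact hsm h1

/-- A smooth algebra over a reduced Noetherian ring is reduced. -/
theorem isReduced_of_smooth_of_isNoetherianRing (R S : Type*) [CommRing R] [CommRing S]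
    [Algebra R S] [Algebra.Smooth R S] [IsReduced R] [IsNoetherianRing R] : IsReduced S := by
  constructor
  intro s hs
  by_contra hne
  have hI : Ideal.torsionOf S S s ≠ ⊤ := by
    intro h
    have h1 : (1 : S) ∈ Ideal.torsionOf S S s := h ▸ Submodule.mem_top
    rw [Ideal.mem_torsionOf_iff, one_smul] at h1
    exact hne h1
  obtain ⟨m, hm, hle⟩ := Ideal.exists_le_maximal _ hI
  haveI : m.IsPrime := hm.isPrime
  have hsm : Algebra.IsSmoothAt R m := by
    have h1 := Algebra.smoothLocus_eq_univ (R := R) (A := S)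
    have h2 : (⟨m, inferInstance⟩ : PrimeSpectrum S) ∈ Algebra.smoothLocus R S := by
      rw [h1]; trivial
    exact h2
  obtain ⟨f, hfm, n, alg, tower, hstd⟩ :=
    Algebra.IsSmoothAt.exists_isStandardEtale_mvPolynomial (R := R) (p := m)
  letI := alg
  have : IsReduced (Localization.Away f) :=
    isReduced_of_etale_of_isNoetherianRing (MvPolynomial (Fin n) R) (Localization.Away f)
  have h0 : algebraMap S (Localization.Away f) s = 0 := (hs.map _).eq_zero
  obtain ⟨⟨c, k, rfl⟩, hc⟩ := (IsLocalization.map_eq_zero_iff (Submonoid.powers f) _ s).mp h0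
  have h3 : f ^ k ∈ m := hle ((Ideal.mem_torsionOf_iff _ _).mpr hc)
  exact hfm (hm.isPrime.mem_of_pow_mem k h3)

/-- Base change of a smooth algebra over a Noetherian ring to a reduced ring is reduced. -/
theorem isReduced_tensor_of_smooth_of_isNoetherianRing (A₀ R B₀ : Type*) [CommRing A₀]
    [CommRing R] [CommRing B₀] [Algebra A₀ R] [Algebra A₀ B₀] [IsNoetherianRing A₀]
    [Algebra.Smooth A₀ B₀] [IsReduced R] : IsReduced (R ⊗[A₀] B₀) := by
  classical
  constructor
  intro s hs
  obtain ⟨F, hF⟩ := TensorProduct.exists_finset s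
  let A₁ : Subalgebra A₀ R := Algebra.adjoin A₀ ((F.image Prod.fst : Finset R) : Set R)
  have hmem : ∀ x ∈ F, x.1 ∈ A₁ := fun x hx =>
    Algebra.subset_adjoin (Finset.mem_coe.mpr (Finset.mem_image_of_mem _ hx))
  let s₁ : A₁ ⊗[A₀] B₀ := ∑ x ∈ F.attach, (⟨x.1.1, hmem x.1 x.2⟩ : A₁) ⊗ₜ[A₀] x.1.2
  let φ : A₁ ⊗[A₀] B₀ →ₐ[A₀] R ⊗[A₀] B₀ := Algebra.TensorProduct.map A₁.val (AlgHom.id A₀ B₀)
  have hφs : φ s₁ = s := by
    rw [hF, map_sum, ← Finset.sum_attach F]
    refine Finset.sum_congr rfl fun x _ => ?_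
    rfl
  have hφinj : Function.Injective φ := by
    have h1 : Function.Injective (LinearMap.rTensor B₀ A₁.val.toLinearMap) :=
      Module.Flat.rTensor_preserves_injective_linearMap _ Subtype.val_injective
    exact h1
  have hfg : A₁.FG := Subalgebra.fg_adjoin_finset _
  have : Algebra.FiniteType A₀ A₁ := (Subalgebra.fg_iff_finiteType A₁).mp hfg
  have : IsNoetherianRing A₁ := Algebra.FiniteType.isNoetherianRing A₀ A₁
  have : IsReduced A₁ := isReduced_of_injective A₁.val Subtype.val_injective
  have : IsReduced (A₁ ⊗[A₀] B₀) := isReduced_of_smooth_of_isNoetherianRing A₁ (A₁ ⊗[A₀] B₀)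
  have hs₁ : IsNilpotent s₁ := by
    obtain ⟨n, hn⟩ := hs
    refine ⟨n, hφinj ?_⟩
    rw [map_pow, hφs, hn, map_zero]
  rw [← hφs, hs₁.eq_zero, map_zero]

/-- Reducedness ascends along smooth ring maps. -/
theorem isReduced_of_smooth (R S : Type u) [CommRing R] [CommRing S]
    [Algebra R S] [Algebra.Smooth R S] [IsReduced R] : IsReduced S := by
  obtain ⟨A₀, B₀, _, _, _, _, _, -, hft, _, ⟨e⟩⟩ := Algebra.Smooth.exists_finiteType ℤ R S
  have : IsNoetherianRing A₀ := Algebra.FiniteType.isNoetherianRing ℤ A₀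
  have : IsReduced (R ⊗[A₀] B₀) := isReduced_tensor_of_smooth_of_isNoetherianRing A₀ R B₀
  exact isReduced_of_injective e e.injective

end Groth.Agent.Lib.Helper25
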