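import Groth.Agent.Lib.Helper25.KFlat
import Mathlib.Algebra.Category.ModuleCat.ChangeOfRings

set_option autoImplicit false
universe u

namespace Groth.Agent.Lib.Helper25.KFlat

open CategoryTheory CategoryTheory.Limits MonoidalCategory HomologicalComplex TensorProduct
open Groth.Agent.Lib.Helper25.TensorCx ChangeOfRings

variable {R R' : Type u} [CommRing R] [CommRing R'] (φ : R →+* R')

section Summand

variable (M : ModuleCat.{u} R') (N : ModuleCat.{u} R)

/-- The element `s ⊗ k` of the extension of scalars. -/
noncomputable def etm (s : R') (k : N) : (ModuleCat.extendScalars φ).obj N := s ⊗ₜ[R,φ] k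

theorem etm_add (s : R') (k k' : N) : etm φ N s (k + k') = etm φ N s k + etm φ N s k' :=
  TensorProduct.tmul_add _ _ _

theorem etm_add_left (s s' : R') (k : N) : etm φ N (s + s') k = etm φ N s k + etm φ N s' k :=
  TensorProduct.add_tmul _ _ _

theorem smul_etm (s s' : R') (k : N) : s • etm φ N s' k = etm φ N (s * s') k := rfl

theorem etm_smul (r : R) (s : R') (k : N) : etm φ N s (r • k) = etm φ N (φ r * s) k :=
  (TensorProduct.smul_tmul (R := R)
    (M := (ModuleCat.restrictScalars φ).obj (ModuleCat.of R' R')) r s k).symm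

theorem etm_induction {motive : (ModuleCat.extendScalars φ).obj N → Prop}
    (zero : motive 0) (add : ∀ x y, motive x → motive y → motive (x + y))
    (tm' : ∀ s k, motive (etm φ N s k)) (x : (ModuleCat.extendScalars φ).obj N) : motive x := by
  induction x using TensorProduct.induction_on with
  | zero => exact zero
  | tmul s k => exact tm' s k
  | add a b ha hb => exact add _ _ ha hb

/-- `m ⊗ n ↦ m ⊗ (1 ⊗ n)`. -/
noncomputable def psi :
    TensorProduct R ((ModuleCat.restrictScalars φ).obj M) N →+
      TensorProduct R' M ((ModuleCat.extendScalars φ).obj N) :=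
  TensorProduct.liftAddHom
    (AddMonoidHom.mk' (fun l : (ModuleCat.restrictScalars φ).obj M =>
      AddMonoidHom.mk' (fun k : N => (show M from l) ⊗ₜ[R'] (etm φ N 1 k))
        (fun k k' => by rw [etm_add, TensorProduct.tmul_add]))
      (fun l l' => by
        ext k
        exact TensorProduct.add_tmul _ _ _))
    (by
      intro r l k
      change ((φ r • (show M from l)) ⊗ₜ[R'] (etm φ N 1 k)) =
        (show M from l) ⊗ₜ[R'] (etm φ N 1 (r • k))
      rw [TensorProduct.smul_tmul, smul_etm, etm_smul])

theorem psi_tmul (l : M) (k : N) :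
    psi φ M N ((show (ModuleCat.restrictScalars φ).obj M from l) ⊗ₜ[R] k) =
      l ⊗ₜ[R'] (etm φ N 1 k) := rfl

/-- For fixed `l`, the map `s ⊗ k ↦ (s • l) ⊗ k`. -/
noncomputable def gaux (l : M) :
    (ModuleCat.extendScalars φ).obj N →+ TensorProduct R ((ModuleCat.restrictScalars φ).obj M) N :=
  TensorProduct.liftAddHom (R := R)
    (M := (ModuleCat.restrictScalars φ).obj (ModuleCat.of R' R'))
    (AddMonoidHom.mk' (fun s : (ModuleCat.restrictScalars φ).obj (ModuleCat.of R' R') =>
      AddMonoidHom.mk' (fun k : N =>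
        (show (ModuleCat.restrictScalars φ).obj M from ((show R' from s) • l)) ⊗ₜ[R] k)
        (fun k k' => TensorProduct.tmul_add _ _ _))
      (fun s s' => by
        ext k
        change (show (ModuleCat.restrictScalars φ).obj M from
          (((show R' from s) + (show R' from s')) • l)) ⊗ₜ[R] k = _
        rw [add_smul]
        exact TensorProduct.add_tmul _ _ _))
    (by
      intro r s k
      change (show (ModuleCat.restrictScalars φ).obj M from ((φ r * (show R' from s)) • l)) ⊗ₜ[R] k =
        (show (ModuleCat.restrictScalars φ).obj M from ((show R' from s) • l)) ⊗ₜ[R] (r • k)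
      rw [mul_smul]
      exact TensorProduct.smul_tmul r
        (show (ModuleCat.restrictScalars φ).obj M from ((show R' from s) • l)) k)

theorem gaux_etm (l : M) (s : R') (k : N) :
    gaux φ M N l (etm φ N s k) =
      (show (ModuleCat.restrictScalars φ).obj M from (s • l)) ⊗ₜ[R] k := rfl

/-- `m ⊗ (s ⊗ n) ↦ (s • m) ⊗ n`. -/
noncomputable def gmap :
    TensorProduct R' M ((ModuleCat.extendScalars φ).obj N) →+
      TensorProduct R ((ModuleCat.restrictScalars φ).obj M) N :=
  TensorProduct.liftAddHom
    (AddMonoidHom.mk' (fun l : M => gaux φ M N l)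
      (fun l l' => by
        ext e
        induction e using etm_induction φ N with
        | zero => simp only [map_zero]
        | add x y hx hy => simp only [map_add, hx, hy]
        | tm' s k =>
          rw [AddMonoidHom.add_apply, gaux_etm, gaux_etm, gaux_etm, smul_add]
          exact TensorProduct.add_tmul _ _ _))
    (by
      intro r l e
      change gaux φ M N (r • l) e = gaux φ M N l (r • e)
      induction e using etm_induction φ N with
      | zero => simp only [smul_zero, map_zero]
      | add x y hx hy => simp only [smul_add, map_add, hx, hy]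
      | tm' s k =>
        rw [smul_etm, gaux_etm, gaux_etm, mul_comm, mul_smul])

theorem gmap_tmul (l : M) (s : R') (k : N) :
    gmap φ M N (l ⊗ₜ[R'] etm φ N s k) =
      (show (ModuleCat.restrictScalars φ).obj M from (s • l)) ⊗ₜ[R] k := rfl

theorem gmap_psi (t : TensorProduct R ((ModuleCat.restrictScalars φ).obj M) N) :
    gmap φ M N (psi φ M N t) = t := by
  induction t using TensorProduct.induction_on with
  | zero => simp only [map_zero]
  | tmul l k =>
    change gmap φ M N ((show M from l) ⊗ₜ[R'] etm φ N 1 k) = _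
    rw [gmap_tmul, one_smul]
  | add a b ha hb => simp only [map_add, ha, hb]

theorem psi_gmap (t : TensorProduct R' M ((ModuleCat.extendScalars φ).obj N)) :
    psi φ M N (gmap φ M N t) = t := by
  induction t using TensorProduct.induction_on with
  | zero => simp only [map_zero]
  | tmul l e =>
    induction e using etm_induction φ N with
    | zero => simp only [TensorProduct.tmul_zero, map_zero]
    | add x y hx hy => simp only [TensorProduct.tmul_add, map_add, hx, hy]
    | tm' s k =>
      rw [gmap_tmul, psi_tmul, TensorProduct.smul_tmul, smul_etm, mul_one]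
  | add a b ha hb => simp only [map_add, ha, hb]

theorem psi_bijective : Function.Bijective (psi φ M N) :=
  ⟨Function.LeftInverse.injective (gmap_psi φ M N),
    Function.RightInverse.surjective (psi_gmap φ M N)⟩

end Summand

section Complex

variable (L' : Cx R') (K : Cx R)

/-- Termwise extension of scalars. -/
noncomputable abbrev extCx : Cx R' :=
  ((ModuleCat.extendScalars φ).mapHomologicalComplex (ComplexShape.up ℤ)).obj K

/-- Termwise restriction of scalars. -/
noncomputable abbrev resCx : Cx R :=
  ((ModuleCat.restrictScalars φ).mapHomologicalComplex (ComplexShape.up ℤ)).obj L'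

/-- The comparison map in degree `n`. -/
noncomputable def Psi (n : ℤ) :
    (resCx φ L' ⊗ K : Cx R).X n →+ (L' ⊗ extCx φ K : Cx R').X n :=
  ((dsIso L' (extCx φ K) n).inv.hom.toAddMonoidHom).comp
    ((DirectSum.map (fun i : Idx n => psi φ (L'.X i.1.1) (K.X i.1.2))).comp
      (dsIso (resCx φ L') K n).hom.hom.toAddMonoidHom)

theorem Psi_bijective (n : ℤ) : Function.Bijective (Psi φ L' K n) := by
  have h1 := dsIso_inv_bijective L' (extCx φ K) n
  have h2 := dsIso_hom_bijective (resCx φ L') K n
  have h3 : Function.Bijective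
      (DirectSum.map (fun i : Idx n => psi φ (L'.X i.1.1) (K.X i.1.2))) :=
    ⟨(DirectSum.map_injective _).2 fun i => (psi_bijective φ _ _).1,
      (DirectSum.map_surjective _).2 fun i => (psi_bijective φ _ _).2⟩
  exact h1.comp (h3.comp h2)

theorem Psi_inc (p q n : ℤ) (h : p + q = n)
    (t : TensorProduct R ((ModuleCat.restrictScalars φ).obj (L'.X p)) (K.X q)) :
    Psi φ L' K n (inc (resCx φ L') K p q n h t) =
      inc L' (extCx φ K) p q n h (psi φ (L'.X p) (K.X q) t) := by
  change (dsIso L' (extCx φ K) n).inv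
    (DirectSum.map (fun i : Idx n => psi φ (L'.X i.1.1) (K.X i.1.2))
      ((dsIso (resCx φ L') K n).hom (inc (resCx φ L') K p q n h t))) = _
  rw [dsIso_hom_inc]
  change (dsIso L' (extCx φ K) n).inv
    (DirectSum.map (fun i : Idx n => psi φ (L'.X i.1.1) (K.X i.1.2))
      (DirectSum.of _ (mkIdx p q n h) t)) = _
  rw [DirectSum.map_of]
  exact dsIso_inv_of L' (extCx φ K) p q n h _

theorem Psi_tm (p q n : ℤ) (h : p + q = n) (l : L'.X p) (k : K.X q) :
    Psi φ L' K n (tm (resCx φ L') K p q n h l k) =
      tm L' (extCx φ K) p q n h l (etm φ (K.X q) 1 k) :=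
  Psi_inc φ L' K p q n h _

theorem Psi_d (n n' : ℤ) (hn : n + 1 = n') (x : (resCx φ L' ⊗ K : Cx R).X n) :
    (L' ⊗ extCx φ K : Cx R').d n n' (Psi φ L' K n x) =
      Psi φ L' K n' ((resCx φ L' ⊗ K : Cx R).d n n' x) := by
  induction x using tm_induction (resCx φ L') K with
  | zero => simp only [map_zero]
  | add x y hx hy => simp only [map_add, hx, hy]
  | tm' p q h l k =>
    rw [Psi_tm, d_tm L' (extCx φ K) p q n n' h hn, d_tm (resCx φ L') K p q n n' h hn, map_add,
      Psi_tm]
    congr 1
    rw [map_zsmul_unit, Psi_tm]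
    rfl

theorem acyclic_resCx (hL : Acyclic L') : Acyclic (resCx φ L') := by
  rw [acyclic_iff] at hL ⊢
  intro n₀ n₁ n₂ h01 h12 z hz
  obtain ⟨w, hw⟩ := hL n₀ n₁ n₂ h01 h12 z hz
  exact ⟨w, hw⟩

theorem isKFlat_extCx (hK : IsKFlat K) : IsKFlat (extCx φ K) := by
  intro L' hL'
  have hac := hK (resCx φ L') (acyclic_resCx φ L' hL')
  rw [acyclic_iff] at hac ⊢
  intro n₀ n₁ n₂ h01 h12 z' hz'
  obtain ⟨z, rfl⟩ := (Psi_bijective φ L' K n₁).2 z'
  have hz : (resCx φ L' ⊗ K : Cx R).d n₁ n₂ z = 0 := by
    apply (Psi_bijective φ L' K n₂).1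
    rw [← Psi_d φ L' K n₁ n₂ h12, hz', map_zero]
  obtain ⟨w, rfl⟩ := hac n₀ n₁ n₂ h01 h12 z hz
  exact ⟨Psi φ L' K n₀ w, Psi_d φ L' K n₀ n₁ h01 w⟩

end Complex

end Groth.Agent.Lib.Helper25.KFlat
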