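import Groth.Agent.Lib.Helper25.KFlatQis
import Mathlib.Algebra.Homology.HomotopyCategory.MappingCocone
import Mathlib.Algebra.Homology.HomotopyCategory.Triangulated
import Mathlib.CategoryTheory.Localization.Triangulated
import Mathlib.Algebra.Category.ModuleCat.Biproducts

set_option autoImplicit false
universe u

namespace Groth.Agent.Lib.Helper25.KFlat

open CategoryTheory CategoryTheory.Limits MonoidalCategory HomologicalComplex CochainComplex
  CategoryTheory.Pretriangulated
open Groth.Agent.Lib.Helper25.TensorCx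

variable {R : Type u} [CommRing R]

/-- Two out of three for K-flatness in distinguished triangles of the homotopy category. -/
theorem kflat_distTriang
    (T : Pretriangulated.Triangle (HomotopyCategory (ModuleCat.{u} R) (ComplexShape.up ℤ)))
    (hT : T ∈ Pretriangulated.distinguishedTriangles) :
    (IsKFlat T.obj₁.as → IsKFlat T.obj₂.as → IsKFlat T.obj₃.as) ∧
    (IsKFlat T.obj₁.as → IsKFlat T.obj₃.as → IsKFlat T.obj₂.as) ∧
    (IsKFlat T.obj₂.as → IsKFlat T.obj₃.as → IsKFlat T.obj₁.as) := by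
  obtain ⟨S, σ, ⟨e⟩⟩ :=
    (HomotopyCategory.distinguished_iff_iso_trianglehOfDegreewiseSplit T).1 hT
  have e₁ : HomotopyEquiv T.obj₁.as S.X₁ :=
    HomotopyCategory.homotopyEquivOfIso (Triangle.π₁.mapIso e)
  have e₂ : HomotopyEquiv T.obj₂.as S.X₂ :=
    HomotopyCategory.homotopyEquivOfIso (Triangle.π₂.mapIso e)
  have e₃ : HomotopyEquiv T.obj₃.as S.X₃ :=
    HomotopyCategory.homotopyEquivOfIso (Triangle.π₃.mapIso e)
  have h23 := kflat_two_of_three_of_splitting S σ
  refine ⟨fun h1 h2 => ?_, fun h1 h3 => ?_, fun h2 h3 => ?_⟩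
  · exact isKFlat_of_homotopyEquiv e₃.symm
      (h23.1 (isKFlat_of_homotopyEquiv e₁ h1) (isKFlat_of_homotopyEquiv e₂ h2))
  · exact isKFlat_of_homotopyEquiv e₂.symm
      (h23.2.1 (isKFlat_of_homotopyEquiv e₁ h1) (isKFlat_of_homotopyEquiv e₃ h3))
  · exact isKFlat_of_homotopyEquiv e₁.symm
      (h23.2.2 (isKFlat_of_homotopyEquiv e₂ h2) (isKFlat_of_homotopyEquiv e₃ h3))

/-- The mapping cone of a morphism between K-flat complexes is K-flat. -/
theorem isKFlat_mappingCone {K L : Cx R} (g : K ⟶ L) (hK : IsKFlat K) (hL : IsKFlat L) :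
    IsKFlat (mappingCone g) :=
  (kflat_distTriang _ (HomotopyCategory.mappingCone_triangleh_distinguished g)).1 hK hL

/-- The terms of a mapping cone of complexes with flat terms are flat. -/
theorem flat_mappingCone {K L : Cx R} (g : K ⟶ L) (hK : ∀ i, Module.Flat R (K.X i))
    (hL : ∀ i, Module.Flat R (L.X i)) (i : ℤ) : Module.Flat R ((mappingCone g).X i) := by
  have e1 : (mappingCone g).X i ≅ K.X (i + 1) ⊞ L.X i :=
    HomologicalComplex.homotopyCofiber.XIsoBiprod g i (i + 1) rfl
  have e2 : (K.X (i + 1) ⊞ L.X i : ModuleCat.{u} R) ≅ ModuleCat.of R (K.X (i + 1) × L.X i) :=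
    ModuleCat.biprodIsoProd _ _
  have := hK (i + 1)
  have := hL i
  have : Module.Flat R (K.X (i + 1) × L.X i) := FlatColim.flat_prod _ _
  exact Module.Flat.of_linearEquiv (e1 ≪≫ e2).toLinearEquiv

/-- The mapping cocone triangle is distinguished in the homotopy category. -/
theorem mappingCocone_triangleh_distinguished {K L : Cx R} (φ : K ⟶ L) :
    (HomotopyCategory.quotient (ModuleCat.{u} R) (ComplexShape.up ℤ)).mapTriangle.obj
      (mappingCocone.triangle φ) ∈ distTriang _ := by
  rw [rotate_distinguished_triangle]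
  exact isomorphic_distinguished _ (HomotopyCategory.mappingCone_triangleh_distinguished φ) _
    ((HomotopyCategory.quotient _ _).mapTriangleRotateIso.app _ ≪≫
      (HomotopyCategory.quotient _ _).mapTriangle.mapIso (mappingCocone.rotateTriangleIso φ))

/-- Factorization of a morphism from a K-flat complex through a K-flat complex
quasi-isomorphic to the target. -/
theorem exists_kflat_factorization {K L : Cx R} (a : K ⟶ L) (hK : IsKFlat K) :
    ∃ (N : Cx R) (b : K ⟶ N) (c : N ⟶ L), IsKFlat N ∧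
      ((∀ i, Module.Flat R (K.X i)) → ∀ i, Module.Flat R (N.X i)) ∧ QuasiIso c ∧
      Nonempty (Homotopy a (b ≫ c)) := by
  obtain ⟨M', r, hM', hM'flat, hr, -⟩ := KFlatRes.exists_kflat_resolution (mappingCocone a)
  let g : M' ⟶ K := r ≫ mappingCocone.fst a
  let Qh := HomotopyCategory.quotient (ModuleCat.{u} R) (ComplexShape.up ℤ)
  let T₁ := mappingCone.triangleh g
  have hT₁ : T₁ ∈ distTriang _ := HomotopyCategory.mappingCone_triangleh_distinguished g
  let T₂ := Qh.mapTriangle.obj (mappingCocone.triangle a)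
  have hT₂ : T₂ ∈ distTriang _ := mappingCocone_triangleh_distinguished a
  let W := (HomotopyCategory.subcategoryAcyclic (ModuleCat.{u} R)).trW
  have hWr : W (Qh.map r) := by
    have h1 := (HomotopyCategory.quotient_map_mem_quasiIso_iff r).2
      ((HomologicalComplex.mem_quasiIso_iff r).2 hr)
    rwa [HomotopyCategory.quasiIso_eq_trW_subcategoryAcyclic] at h1
  have hW1 : W (𝟙 (Qh.obj K)) := W.id_mem _
  have comm : T₁.mor₁ ≫ 𝟙 (Qh.obj K) = Qh.map r ≫ T₂.mor₁ :=
    (Category.comp_id _).trans (Qh.map_comp r (mappingCocone.fst a))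
  obtain ⟨c', hc', hc2, -⟩ := MorphismProperty.compatible_with_triangulation (W := W) T₁ T₂ hT₁ hT₂
    (Qh.map r) (𝟙 (Qh.obj K)) hWr hW1 comm
  obtain ⟨c, rfl⟩ := Qh.map_surjective c'
  refine ⟨mappingCone g, mappingCone.inr g, c, isKFlat_mappingCone g hM' hK,
    fun hKflat => flat_mappingCone g hM'flat hKflat, ?_, ?_⟩
  · have h1 : HomotopyCategory.quasiIso (ModuleCat.{u} R) (ComplexShape.up ℤ) (Qh.map c) := by
      rw [HomotopyCategory.quasiIso_eq_trW_subcategoryAcyclic]
      exact hc'
    exact (HomologicalComplex.mem_quasiIso_iff c).1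
      ((HomotopyCategory.quotient_map_mem_quasiIso_iff c).1 h1)
  · have h2 : Qh.map a = Qh.map (mappingCone.inr g ≫ c) := by
      rw [Qh.map_comp]
      exact ((Category.id_comp _).symm.trans hc2.symm)
    exact ⟨HomotopyCategory.homotopyOfEq _ _ h2⟩

end Groth.Agent.Lib.Helper25.KFlat
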