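import Mathlib.Algebra.Category.ModuleCat.FilteredColimits
import Mathlib.RingTheory.Flat.EquationalCriterion
import Mathlib.CategoryTheory.Limits.ConcreteCategory.Basic
import Mathlib.LinearAlgebra.TensorProduct.Prod

set_option autoImplicit false
universe u

namespace Groth.Agent.Lib.Helper25.FlatColim

open CategoryTheory CategoryTheory.Limits

variable {R : Type u} [CommRing R] {J : Type u} [SmallCategory J] [IsFiltered J]
  (G : J ⥤ ModuleCat.{u} R) (c : Cocone G) (hc : IsColimit c)

include hc

theorem exists_rep (x : c.pt) : ∃ (j : J) (y : G.obj j), c.ι.app j y = x :=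
  Concrete.isColimit_exists_rep G hc x

theorem exists_map_eq_zero (j : J) (y : G.obj j) (hy : c.ι.app j y = 0) :
    ∃ (j' : J) (φ : j ⟶ j'), G.map φ y = 0 := by
  have h0 : c.ι.app j y = c.ι.app j (0 : G.obj j) := by rw [hy, map_zero]
  obtain ⟨k, f, g, hfg⟩ := Concrete.isColimit_exists_of_rep_eq G hc y (0 : G.obj j) h0
  refine ⟨k, f, ?_⟩
  rw [hfg, map_zero]

theorem exists_rep_fin {l : ℕ} (x : Fin l → c.pt) :
    ∃ (j : J) (y : Fin l → G.obj j), ∀ i, c.ι.app j (y i) = x i := by
  induction l with
  | zero =>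
    obtain ⟨j⟩ := IsFiltered.nonempty (C := J)
    exact ⟨j, fun i => i.elim0, fun i => i.elim0⟩
  | succ l ih =>
    obtain ⟨j₁, y₁, h₁⟩ := ih (fun i => x i.succ)
    obtain ⟨j₀, y₀, h₀⟩ := exists_rep G c hc (x 0)
    refine ⟨IsFiltered.max j₀ j₁, Fin.cons (G.map (IsFiltered.leftToMax j₀ j₁) y₀)
      (fun i => G.map (IsFiltered.rightToMax j₀ j₁) (y₁ i)), ?_⟩
    intro i
    refine Fin.cases ?_ (fun i => ?_) i
    · rw [Fin.cons_zero, ← ModuleCat.comp_apply, c.w, h₀]
    · rw [Fin.cons_succ, ← ModuleCat.comp_apply, c.w, h₁]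

/-- A filtered colimit of flat modules is flat. -/
theorem flat_of_isColimit (hG : ∀ j, Module.Flat R (G.obj j)) : Module.Flat R c.pt := by
  rw [Module.Flat.iff_forall_isTrivialRelation]
  intro l f x hx
  obtain ⟨j, y, hy⟩ := exists_rep_fin G c hc x
  have h1 : c.ι.app j (∑ i, f i • y i) = 0 := by
    rw [map_sum, ← hx]
    refine Finset.sum_congr rfl fun i _ => ?_
    rw [map_smul, hy]
  obtain ⟨j', φ, hφ⟩ := exists_map_eq_zero G c hc j _ h1
  have h2 : ∑ i, f i • (G.map φ (y i)) = 0 := by
    rw [← hφ, map_sum]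
    refine Finset.sum_congr rfl fun i _ => ?_
    rw [map_smul]
  have := hG j'
  obtain ⟨k, a, z, hz, ha⟩ := Module.Flat.isTrivialRelation_of_sum_smul_eq_zero h2
  refine ⟨k, a, fun t => c.ι.app j' (z t), fun i => ?_, ha⟩
  have hzi : G.map φ (y i) = ∑ t, a i t • z t := hz i
  rw [← hy i, ← c.w φ, ModuleCat.comp_apply, hzi, map_sum]
  refine Finset.sum_congr rfl fun t _ => ?_
  rw [map_smul]

omit hc in
/-- A binary product of flat modules is flat. -/
theorem flat_prod (M N : Type u) [AddCommGroup M] [AddCommGroup N] [Module R M] [Module R N]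
    [Module.Flat R M] [Module.Flat R N] : Module.Flat R (M × N) := by
  rw [Module.Flat.iff_lTensor_preserves_injective_linearMap]
  intro A B _ _ _ _ f hf
  have hnat : ∀ x, TensorProduct.prodLeft R R M N B (f.lTensor (M × N) x) =
      LinearMap.prodMap (f.lTensor M) (f.lTensor N) (TensorProduct.prodLeft R R M N A x) := by
    intro x
    induction x using TensorProduct.induction_on with
    | zero => rw [map_zero, map_zero, map_zero, map_zero]
    | tmul m a =>
      obtain ⟨m, n⟩ := m
      simp
    | add x y hx hy =>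
      rw [map_add, map_add, hx, hy, map_add, map_add]
  intro x y hxy
  apply (TensorProduct.prodLeft R R M N A).injective
  have h := congrArg (TensorProduct.prodLeft R R M N B) hxy
  rw [hnat, hnat] at h
  exact Prod.ext
    (Module.Flat.lTensor_preserves_injective_linearMap f hf (congrArg Prod.fst h))
    (Module.Flat.lTensor_preserves_injective_linearMap f hf (congrArg Prod.snd h))

end Groth.Agent.Lib.Helper25.FlatColim
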