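import Groth.Agent.Lib.Helper25.KFlatFP
import Mathlib.Algebra.Homology.QuasiIso

set_option autoImplicit false
universe u

namespace Groth.Agent.Lib.Helper25.QisLift

open CategoryTheory CategoryTheory.Limits HomologicalComplex
open Groth.Agent.Lib.Helper25.TensorCx Groth.Agent.Lib.Helper25.KFlat
open Groth.Agent.Lib.Helper25.KFlatFP

variable {R : Type u} [CommRing R]

/-- The kernel subcomplex of a morphism. -/
noncomputable def kerCx {K M : Cx R} (g : K ⟶ M) : Cx R :=
  subCx K (fun p => LinearMap.ker (g.f p).hom) (by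
    intro p q x hx
    rw [LinearMap.mem_ker] at hx ⊢
    have := hom_comm_apply g p q x
    erw [← this, hx, map_zero])

/-- The inclusion of the kernel subcomplex. -/
noncomputable def kerι {K M : Cx R} (g : K ⟶ M) : kerCx g ⟶ K :=
  subCxι K (fun p => LinearMap.ker (g.f p).hom) _

/-- The short complex `ker g → K → M`. -/
noncomputable def kerSC {K M : Cx R} (g : K ⟶ M) : ShortComplex (Cx R) :=
  ShortComplex.mk (kerι g) g (by
    ext q x
    exact x.2)

theorem kerSC_shortExact {K M : Cx R} (g : K ⟶ M)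
    (hsurj : ∀ q, Function.Surjective (g.f q).hom) : (kerSC g).ShortExact := by
  apply shortExact_of_degreewise_shortExact
  intro q
  refine ShortComplex.ShortExact.mk' ?_ ?_ ?_
  · rw [ShortComplex.moduleCat_exact_iff]
    intro x hx
    exact ⟨⟨x, hx⟩, rfl⟩
  · apply (ModuleCat.mono_iff_injective _).2
    intro x y hxy
    exact Subtype.ext hxy
  · exact (ModuleCat.epi_iff_surjective _).2 (hsurj q)

/-- A short exact sequence with acyclic kernel has a quasi-isomorphism as its second map. -/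
theorem quasiIso_g_of_acyclic (S : ShortComplex (Cx R)) (hS : S.ShortExact)
    (h1 : KFlat.Acyclic S.X₁) : QuasiIso S.g := by
  rw [quasiIso_iff]
  intro i
  rw [quasiIsoAt_iff_isIso_homologyMap]
  have hmono : Mono (homologyMap S.g i) :=
    (hS.homology_exact₂ i).mono_g ((h1 i).eq_of_src _ _)
  have hepi : Epi (homologyMap S.g i) :=
    (hS.homology_exact₃ i (i + 1) rfl).epi_f ((h1 (i + 1)).eq_of_tgt _ _)
  exact isIso_of_mono_of_epi _

/-- A degreewise surjective morphism whose kernel is acyclic (elementwise) is a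
quasi-isomorphism. -/
theorem quasiIso_of_surjective_of_lift {K M : Cx R} (g : K ⟶ M)
    (hsurj : ∀ q, Function.Surjective (g.f q).hom)
    (hlift : ∀ (q₀ q₁ q₂ : ℤ) (_ : q₀ + 1 = q₁) (_ : q₁ + 1 = q₂) (x : K.X q₁),
      (K.d q₁ q₂).hom x = 0 → (g.f q₁).hom x = 0 →
        ∃ w : K.X q₀, (K.d q₀ q₁).hom w = x ∧ (g.f q₀).hom w = 0) : QuasiIso g := by
  refine quasiIso_g_of_acyclic (kerSC g) (kerSC_shortExact g hsurj) ?_
  rw [KFlat.acyclic_iff]
  intro q₀ q₁ q₂ h01 h12 x hx
  obtain ⟨w, hw, hgw⟩ := hlift q₀ q₁ q₂ h01 h12 x.1 (congrArg Subtype.val hx) x.2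
  exact ⟨⟨w, hgw⟩, Subtype.ext hw⟩

end Groth.Agent.Lib.Helper25.QisLift
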