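import Groth.Agent.Lib.Helper25.KFlatZeroD
import Groth.Agent.Lib.Helper25.FlatColim
import Groth.Agent.Lib.Helper25.QisLift
import Mathlib.CategoryTheory.Functor.OfSequence

set_option autoImplicit false
universe u

namespace Groth.Agent.Lib.Helper25.KFlatRes

open CategoryTheory CategoryTheory.Limits MonoidalCategory HomologicalComplex TensorProduct
open Groth.Agent.Lib.Helper25.TensorCx Groth.Agent.Lib.Helper25.KFlat

variable {R : Type u} [CommRing R]

section Ext

variable (F : Cx R) (G : ℤ → Type u) [∀ q, AddCommGroup (G q)] [∀ q, Module R (G q)]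
  (φ : ∀ q, G q →ₗ[R] F.X (q + 1))

/-- The differential of the extension. -/
def extD (q : ℤ) : (F.X q × G q) →ₗ[R] (F.X (q + 1) × G (q + 1)) :=
  LinearMap.prod ((F.d q (q + 1)).hom ∘ₗ LinearMap.fst R _ _ + φ q ∘ₗ LinearMap.snd R _ _) 0

theorem extD_apply (q : ℤ) (x : F.X q) (g : G q) :
    extD F G φ q (x, g) = ((F.d q (q + 1)).hom x + φ q g, 0) := rfl

/-- The extension of `F` by a graded module `G` with zero differential along `φ`. -/
noncomputable def extCx (hφ : ∀ q (g : G q), (F.d (q + 1) (q + 1 + 1)).hom (φ q g) = 0) : Cx R :=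
  CochainComplex.of (fun q => ModuleCat.of R (F.X q × G q))
    (fun q => ModuleCat.ofHom (extD F G φ q)) (by
      intro q
      apply ModuleCat.hom_ext
      apply LinearMap.ext
      rintro ⟨x, g⟩
      change extD F G φ (q + 1) (extD F G φ q (x, g)) = 0
      rw [extD_apply, extD_apply, map_add, hφ, map_zero, add_zero]
      have := d_d_apply F q (q + 1) (q + 1 + 1) x
      erw [this]
      rw [add_zero]
      rfl)

variable (hφ : ∀ q (g : G q), (F.d (q + 1) (q + 1 + 1)).hom (φ q g) = 0)

theorem extCx_d (q : ℤ) (y : F.X q × G q) :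
    (extCx F G φ hφ).d q (q + 1) y = extD F G φ q y := by
  change (CochainComplex.of.d (fun q => ModuleCat.of R (F.X q × G q))
    (fun q => ModuleCat.ofHom (extD F G φ q)) q (q + 1)).hom y = _
  rw [CochainComplex.of_d]
  rfl

/-- The graded module with zero differential. -/
noncomputable def zeroD : Cx R :=
  CochainComplex.of (fun q => ModuleCat.of R (G q)) (fun q => 0) (by intro q; simp)

theorem zeroD_d (i j : ℤ) : (zeroD (R := R) G).d i j = 0 := by
  by_cases h : i + 1 = j
  · subst h
    change CochainComplex.of.d (fun q => ModuleCat.of R (G q)) (fun q => 0) i (i + 1) = 0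
    rw [CochainComplex.of_d]
  · exact (zeroD (R := R) G).shape i j h

/-- The inclusion of `F` into the extension. -/
noncomputable def extι : F ⟶ extCx F G φ hφ where
  f q := ModuleCat.ofHom (LinearMap.inl R (F.X q) (G q))
  comm' i j hij := by
    have hij' : i + 1 = j := hij
    subst hij'
    ext x
    change (extCx F G φ hφ).d i (i + 1) ((x, 0) : F.X i × G i) = ((F.d i (i + 1)).hom x, 0)
    rw [extCx_d, extD_apply, map_zero, add_zero]

/-- The projection of the extension onto the graded module. -/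
noncomputable def extπ : extCx F G φ hφ ⟶ zeroD (R := R) G where
  f q := ModuleCat.ofHom (LinearMap.snd R (F.X q) (G q))
  comm' i j hij := by
    have hij' : i + 1 = j := hij
    subst hij'
    ext y
    rw [zeroD_d]
    change (0 : G (i + 1)) = ((extCx F G φ hφ).d i (i + 1) y).2
    rw [extCx_d]
    rfl

/-- The short complex `F → ext → G`. -/
noncomputable def extSC : ShortComplex (Cx R) :=
  ShortComplex.mk (extι F G φ hφ) (extπ F G φ hφ) (by
    ext q x
    rfl)

theorem extSC_shortExact : (extSC F G φ hφ).ShortExact := by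
  apply shortExact_of_degreewise_shortExact
  intro q
  refine ShortComplex.ShortExact.mk' ?_ ?_ ?_
  · rw [ShortComplex.moduleCat_exact_iff]
    rintro ⟨x, g⟩ hx
    have hg : g = 0 := hx
    subst hg
    exact ⟨x, rfl⟩
  · apply (ModuleCat.mono_iff_injective _).2
    intro x y hxy
    exact congrArg Prod.fst hxy
  · apply (ModuleCat.epi_iff_surjective _).2
    intro g
    exact ⟨((0 : F.X q), g), rfl⟩

theorem isKFlat_extCx (hF : IsKFlat F) (hG : ∀ q, Module.Flat R (G q)) :
    IsKFlat (extCx F G φ hφ) := by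
  have h3 : IsKFlat (zeroD (R := R) G) := isKFlat_of_d_eq_zero _ (zeroD_d G) hG
  exact (kflat_two_of_three (extSC F G φ hφ) (extSC_shortExact F G φ hφ) hG).2.1 hF h3

theorem flat_extCx (hF : ∀ q, Module.Flat R (F.X q)) (hG : ∀ q, Module.Flat R (G q)) (q : ℤ) :
    Module.Flat R ((extCx F G φ hφ).X q) := by
  have := hF q
  have := hG q
  change Module.Flat R (F.X q × G q)
  exact FlatColim.flat_prod _ _

variable {M : Cx R} (f : F ⟶ M) (ψ : ∀ q, G q →ₗ[R] M.X q)
  (hψ : ∀ q (g : G q), (M.d q (q + 1)).hom (ψ q g) = (f.f (q + 1)).hom (φ q g))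

/-- The map from the extension induced by `f` and `ψ`. -/
noncomputable def extDesc : extCx F G φ hφ ⟶ M where
  f q := ModuleCat.ofHom (LinearMap.coprod (f.f q).hom (ψ q))
  comm' i j hij := by
    have hij' : i + 1 = j := hij
    subst hij'
    apply ModuleCat.hom_ext
    apply LinearMap.ext
    rintro ⟨x, g⟩
    change (M.d i (i + 1)).hom ((f.f i).hom x + ψ i g) =
      LinearMap.coprod (f.f (i + 1)).hom (ψ (i + 1)) ((extCx F G φ hφ).d i (i + 1) (x, g))
    rw [extCx_d, extD_apply, LinearMap.coprod_apply, map_zero, add_zero, map_add, map_add, hψ]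
    congr 1
    exact hom_comm_apply f i (i + 1) x

theorem extι_extDesc : extι F G φ hφ ≫ extDesc F G φ hφ f ψ hψ = f := by
  ext q x
  change (f.f q).hom x + ψ q 0 = (f.f q).hom x
  rw [map_zero, add_zero]

theorem extDesc_apply (q : ℤ) (x : F.X q) (g : G q) :
    (extDesc F G φ hφ f ψ hψ).f q ((x, g) : F.X q × G q) = (f.f q).hom x + ψ q g := rfl

end Ext

section Attach

variable {M : Cx R} (F : Cx R) (f : F ⟶ M)

/-- The cells to attach in degree `q`: a cycle `z` of degree `q + 1` in `F` together with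
`m` of degree `q` in `M` whose boundary is the image of `z`. -/
def Cell (q : ℤ) : Type u :=
  { zm : F.X (q + 1) × M.X q // (F.d (q + 1) (q + 1 + 1)).hom zm.1 = 0 ∧
      (f.f (q + 1)).hom zm.1 = (M.d q (q + 1)).hom zm.2 }

/-- The attaching map. -/
noncomputable def cellφ (q : ℤ) : (Cell F f q →₀ R) →ₗ[R] F.X (q + 1) :=
  Finsupp.linearCombination R (fun i : Cell F f q => i.1.1)

/-- The map to `M` on the cells. -/
noncomputable def cellψ (q : ℤ) : (Cell F f q →₀ R) →ₗ[R] M.X q :=
  Finsupp.linearCombination R (fun i : Cell F f q => i.1.2)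

theorem cellφ_d (q : ℤ) (g : Cell F f q →₀ R) :
    (F.d (q + 1) (q + 1 + 1)).hom (cellφ F f q g) = 0 := by
  have : (F.d (q + 1) (q + 1 + 1)).hom ∘ₗ cellφ F f q = 0 := by
    apply Finsupp.lhom_ext
    intro i r
    simp only [cellφ, LinearMap.comp_apply, Finsupp.linearCombination_single, map_smul,
      LinearMap.zero_apply]
    rw [i.2.1, smul_zero]
  exact LinearMap.congr_fun this g

theorem cellψ_d (q : ℤ) (g : Cell F f q →₀ R) :
    (M.d q (q + 1)).hom (cellψ F f q g) = (f.f (q + 1)).hom (cellφ F f q g) := by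
  have : (M.d q (q + 1)).hom ∘ₗ cellψ F f q = (f.f (q + 1)).hom ∘ₗ cellφ F f q := by
    apply Finsupp.lhom_ext
    intro i r
    simp only [cellφ, cellψ, LinearMap.comp_apply, Finsupp.linearCombination_single, map_smul]
    rw [i.2.2]
  exact LinearMap.congr_fun this g

/-- Attach all cells. -/
noncomputable def attach : Cx R :=
  extCx F (fun q => Cell F f q →₀ R) (cellφ F f) (cellφ_d F f)

/-- The inclusion into the complex with cells attached. -/
noncomputable def attachι : F ⟶ attach F f :=
  extι F (fun q => Cell F f q →₀ R) (cellφ F f) (cellφ_d F f)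

/-- The map from the complex with cells attached. -/
noncomputable def attachDesc : attach F f ⟶ M :=
  extDesc F (fun q => Cell F f q →₀ R) (cellφ F f) (cellφ_d F f) f (cellψ F f) (cellψ_d F f)

theorem attachι_attachDesc : attachι F f ≫ attachDesc F f = f :=
  extι_extDesc _ _ _ _ _ _ _

theorem isKFlat_attach (hF : IsKFlat F) : IsKFlat (attach F f) :=
  isKFlat_extCx F _ _ _ hF (fun _ => inferInstance)

theorem flat_attach (hF : ∀ q, Module.Flat R (F.X q)) (q : ℤ) :
    Module.Flat R ((attach F f).X q) :=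
  flat_extCx F _ _ _ hF (fun _ => inferInstance) q

/-- The key property of the attachment: cycles of `F` whose image is a boundary become boundaries,
compatibly with the map to `M`. -/
theorem attach_kill (q₀ q₁ q₂ : ℤ) (h01 : q₀ + 1 = q₁) (h12 : q₁ + 1 = q₂) (z : F.X q₁)
    (m : M.X q₀) (hz : (F.d q₁ q₂).hom z = 0) (hzm : (f.f q₁).hom z = (M.d q₀ q₁).hom m) :
    ∃ w : (attach F f).X q₀, ((attach F f).d q₀ q₁).hom w = ((attachι F f).f q₁).hom z ∧
      ((attachDesc F f).f q₀).hom w = m := by
  subst h01 h12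
  let i : Cell F f q₀ := ⟨(z, m), hz, hzm⟩
  refine ⟨((0 : F.X q₀), Finsupp.single i (1 : R)), ?_, ?_⟩
  · change (attach F f).d q₀ (q₀ + 1) _ = _
    unfold attach
    rw [extCx_d, extD_apply, map_zero, zero_add]
    change (cellφ F f q₀ (Finsupp.single i 1), (0 : Cell F f (q₀ + 1) →₀ R)) = (z, 0)
    rw [cellφ, Finsupp.linearCombination_single, one_smul]
  · change (f.f q₀).hom 0 + cellψ F f q₀ (Finsupp.single i 1) = m
    rw [map_zero, zero_add, cellψ, Finsupp.linearCombination_single, one_smul]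

end Attach

section Seq

variable (M : Cx R)

/-- A stage of the construction: a K-flat complex with flat terms mapping to `M`. -/
structure Stg where
  /-- the complex -/
  F : Cx R
  /-- the map to `M` -/
  f : F ⟶ M
  kflat : IsKFlat F
  flat : ∀ q, Module.Flat R (F.X q)

/-- The next stage. -/
noncomputable def Stg.next (s : Stg M) : Stg M :=
  ⟨attach s.F s.f, attachDesc s.F s.f, isKFlat_attach _ _ s.kflat, flat_attach _ _ s.flat⟩

/-- The initial stage. -/
noncomputable def Stg.zero : Stg M where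
  F := zeroD (R := R) (fun _ => PUnit.{u + 1})
  f := 0
  kflat := isKFlat_of_d_eq_zero _ (zeroD_d _) (fun _ => inferInstanceAs (Module.Flat R PUnit))
  flat := fun _ => inferInstanceAs (Module.Flat R PUnit)

/-- The stages. -/
noncomputable def stg : ℕ → Stg M
  | 0 => Stg.zero M
  | n + 1 => (stg n).next

/-- The transition maps. -/
noncomputable def seqMap (n : ℕ) : (stg M n).F ⟶ (stg M (n + 1)).F :=
  attachι (stg M n).F (stg M n).f

theorem seqMap_f (n : ℕ) : seqMap M n ≫ (stg M (n + 1)).f = (stg M n).f :=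
  attachι_attachDesc _ _

/-- The sequence as a functor. -/
noncomputable def seqF : ℕ ⥤ Cx R := Functor.ofSequence (seqMap M)

/-- The maps to `M` as a natural transformation. -/
noncomputable def seqα : seqF M ⟶ (Functor.const ℕ).obj M :=
  NatTrans.ofSequence (fun n => (stg M n).f) (by
    intro n
    refine (congrArg (fun ψ => ψ ≫ (stg M (n + 1)).f)
      (Functor.ofSequence_map_homOfLE_succ (seqMap M) n)).trans ?_
    exact (seqMap_f M n).trans (Category.comp_id _).symm)

/-- The projection `ULift ℕ ⥤ ℕ`. -/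
def downF : ULift.{u} ℕ ⥤ ℕ := Monotone.functor (f := ULift.down) (fun _ _ h => h)

/-- The diagram. -/
noncomputable def D : ULift.{u} ℕ ⥤ Cx R := downF ⋙ seqF M

/-- The cocone with point `M`. -/
noncomputable def cM : Cocone (D M) where
  pt := M
  ι := Functor.whiskerLeft downF (seqα M)

/-- The resolution. -/
noncomputable def res : Cx R := colimit (D M)

/-- The map from the resolution. -/
noncomputable def resπ : res M ⟶ M := colimit.desc (D M) (cM M)

theorem ι_resπ (j : ULift.{u} ℕ) : colimit.ι (D M) j ≫ resπ M = (stg M j.down).f :=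
  colimit.ι_desc _ _

theorem ι_resπ_apply (j : ULift.{u} ℕ) (q : ℤ) (x : ((D M).obj j).X q) :
    ((resπ M).f q).hom (((colimit.ι (D M) j).f q).hom x) = ((stg M j.down).f.f q).hom x := by
  have := congrArg (fun φ => (φ.f q).hom x) (ι_resπ M j)
  exact this

/-- The successor index. -/
def sj (j : ULift.{u} ℕ) : ULift.{u} ℕ := ⟨j.down + 1⟩

/-- The successor morphism. -/
def φj (j : ULift.{u} ℕ) : j ⟶ sj j := homOfLE (Nat.le_add_right j.down 1)

theorem D_map_φj (j : ULift.{u} ℕ) : (D M).map (φj j) = seqMap M j.down := by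
  change (Functor.ofSequence (seqMap M)).map (downF.map (φj j)) = _
  have : downF.map (φj j) = homOfLE (Nat.le_add_right j.down 1) := Subsingleton.elim _ _
  exact (congrArg (Functor.ofSequence (seqMap M)).map this).trans
    (Functor.ofSequence_map_homOfLE_succ (seqMap M) j.down)

theorem isKFlat_res : IsKFlat (res M) :=
  isKFlat_of_isColimit (D M) (colimit.cocone (D M)) (colimit.isColimit (D M))
    (fun j => (stg M j.down).kflat)

theorem flat_res (q : ℤ) : Module.Flat R ((res M).X q) := by
  have h := isColimitOfPreserves (eval (ModuleCat.{u} R) (ComplexShape.up ℤ) q)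
    (colimit.isColimit (D M))
  exact FlatColim.flat_of_isColimit (D M ⋙ eval (ModuleCat.{u} R) (ComplexShape.up ℤ) q) _ h
    (fun j => (stg M j.down).flat q)

theorem exists_map_eq_zero_eval (q : ℤ) (j : ULift.{u} ℕ) (y : ((D M).obj j).X q)
    (hy : ((colimit.ι (D M) j).f q).hom y = 0) :
    ∃ (j' : ULift.{u} ℕ) (φ : j ⟶ j'), (((D M).map φ).f q).hom y = 0 := by
  have h := isColimitOfPreserves (eval (ModuleCat.{u} R) (ComplexShape.up ℤ) q)
    (colimit.isColimit (D M))
  exact FlatColim.exists_map_eq_zero (D M ⋙ eval (ModuleCat.{u} R) (ComplexShape.up ℤ) q) _ h j y hy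

/-- The lifting property of the resolution. -/
theorem res_lift (q₀ q₁ q₂ : ℤ) (h01 : q₀ + 1 = q₁) (h12 : q₁ + 1 = q₂) (x : (res M).X q₁)
    (m : M.X q₀) (hx : ((res M).d q₁ q₂).hom x = 0)
    (hxm : ((resπ M).f q₁).hom x = (M.d q₀ q₁).hom m) :
    ∃ w : (res M).X q₀, ((res M).d q₀ q₁).hom w = x ∧ ((resπ M).f q₀).hom w = m := by
  obtain ⟨j, xj, rfl⟩ := exists_rep_eval (D M) (colimit.cocone (D M)) (colimit.isColimit (D M)) q₁ x
  change ((res M).d q₁ q₂).hom (((colimit.ι (D M) j).f q₁).hom xj) = 0 at hx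
  change ((resπ M).f q₁).hom (((colimit.ι (D M) j).f q₁).hom xj) = (M.d q₀ q₁).hom m at hxm
  change ∃ w : (res M).X q₀, ((res M).d q₀ q₁).hom w = ((colimit.ι (D M) j).f q₁).hom xj ∧
    ((resπ M).f q₀).hom w = m
  have h1 : ((colimit.ι (D M) j).f q₂).hom ((((D M).obj j).d q₁ q₂).hom xj) = 0 := by
    have := hom_comm_apply (colimit.ι (D M) j) q₁ q₂ xj
    exact this.symm.trans hx
  obtain ⟨j', φ, hφ⟩ := exists_map_eq_zero_eval M q₂ j _ h1
  set xj' : ((D M).obj j').X q₁ := (((D M).map φ).f q₁).hom xj with hxj'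
  have hcyc : (((D M).obj j').d q₁ q₂).hom xj' = 0 := by
    have := hom_comm_apply ((D M).map φ) q₁ q₂ xj
    exact this.trans hφ
  have hιx : ((colimit.ι (D M) j').f q₁).hom xj' = ((colimit.ι (D M) j).f q₁).hom xj := by
    have := congrArg (fun ψ => (ψ.f q₁).hom xj) (colimit.w (D M) φ)
    exact this
  have hf : ((stg M j'.down).f.f q₁).hom xj' = (M.d q₀ q₁).hom m := by
    rw [← ι_resπ_apply, hιx, hxm]
  obtain ⟨w, hw, hwm⟩ := attach_kill (stg M j'.down).F (stg M j'.down).f q₀ q₁ q₂ h01 h12 xj' m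
    hcyc hf
  refine ⟨((colimit.ι (D M) (sj j')).f q₀).hom w, ?_, ?_⟩
  · have h2 := hom_comm_apply (colimit.ι (D M) (sj j')) q₀ q₁ w
    refine h2.trans ?_
    have hw' : (((D M).obj (sj j')).d q₀ q₁).hom w = (((D M).map (φj j')).f q₁).hom xj' := by
      rw [D_map_φj]
      exact hw
    rw [hw', ← hιx]
    have := congrArg (fun ψ => (ψ.f q₁).hom xj') (colimit.w (D M) (φj j'))
    exact this
  · rw [ι_resπ_apply]
    exact hwm

theorem resπ_surjective (q : ℤ) : Function.Surjective ((resπ M).f q).hom := by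
  intro m
  -- first a cycle in stage one mapping to `d m`
  obtain ⟨w₁, hw₁, hw₁m⟩ := attach_kill (stg M 0).F (stg M 0).f (q + 1) (q + 1 + 1) (q + 1 + 1 + 1)
    rfl rfl 0 ((M.d q (q + 1)).hom m) (map_zero _) (by
      rw [map_zero]
      exact (d_d_apply M q (q + 1) (q + 1 + 1) m).symm)
  obtain ⟨w₂, _, hw₂m⟩ := attach_kill (stg M 1).F (stg M 1).f q (q + 1) (q + 1 + 1) rfl rfl w₁ m
    (by
      change ((attach (stg M 0).F (stg M 0).f).d (q + 1) (q + 1 + 1)).hom w₁ = 0
      rw [hw₁, map_zero])
    hw₁m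
  refine ⟨((colimit.ι (D M) ⟨2⟩).f q).hom w₂, ?_⟩
  rw [ι_resπ_apply]
  exact hw₂m

theorem quasiIso_resπ : QuasiIso (resπ M) := by
  apply QisLift.quasiIso_of_surjective_of_lift (resπ M) (resπ_surjective M)
  intro q₀ q₁ q₂ h01 h12 x hx hgx
  exact res_lift M q₀ q₁ q₂ h01 h12 x 0 hx (by rw [hgx, map_zero])

end Seq

/-- K-flat resolutions with flat terms by degreewise surjective quasi-isomorphisms. -/
theorem exists_kflat_resolution (M : Cx R) :
    ∃ (K : Cx R) (f : K ⟶ M), IsKFlat K ∧ (∀ i : ℤ, Module.Flat R (K.X i)) ∧ QuasiIso f ∧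
      ∀ i : ℤ, Function.Surjective (f.f i).hom :=
  ⟨res M, resπ M, isKFlat_res M, flat_res M, quasiIso_resπ M, resπ_surjective M⟩

end Groth.Agent.Lib.Helper25.KFlatRes
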