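import Groth.Agent.Lib.Helper25.KFlatZeroD

set_option autoImplicit false
universe u

namespace Groth.Agent.Lib.Helper25.TensorCx

open CategoryTheory CategoryTheory.Limits MonoidalCategory HomologicalComplex TensorProduct

variable {R : Type u} [CommRing R]

section Desc

variable (L K : Cx R)

/-- A linear map out of a degree of the tensor product, from its components. -/
noncomputable def desc {n : ℤ} {M : Type*} [AddCommGroup M] [Module R M]
    (g : ∀ i : Idx n, ((L.X i.1.1) ⊗[R] (K.X i.1.2)) →ₗ[R] M) : ((L ⊗ K : Cx R).X n) →ₗ[R] M :=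
  (DirectSum.toModule R (Idx n) M g) ∘ₗ (dsIso L K n).hom.hom

theorem desc_inc {n : ℤ} {M : Type*} [AddCommGroup M] [Module R M]
    (g : ∀ i : Idx n, ((L.X i.1.1) ⊗[R] (K.X i.1.2)) →ₗ[R] M) (p q : ℤ) (h : p + q = n)
    (t : (L.X p) ⊗[R] (K.X q)) : desc L K g (inc L K p q n h t) = g (mkIdx p q n h) t := by
  change DirectSum.toModule R (Idx n) M g ((dsIso L K n).hom (inc L K p q n h t)) = _
  rw [dsIso_hom_inc]
  exact DirectSum.toModule_lof R (M := fun i : Idx n => (L.X i.1.1) ⊗[R] (K.X i.1.2))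
    (mkIdx p q n h) t

theorem desc_tm {n : ℤ} {M : Type*} [AddCommGroup M] [Module R M]
    (g : ∀ i : Idx n, ((L.X i.1.1) ⊗[R] (K.X i.1.2)) →ₗ[R] M) (p q : ℤ) (h : p + q = n)
    (l : L.X p) (k : K.X q) : desc L K g (tm L K p q n h l k) = g (mkIdx p q n h) (l ⊗ₜ[R] k) :=
  desc_inc L K g p q h (l ⊗ₜ[R] k)

end Desc

section Braid

variable (L K : Cx R)

theorem idx_swap {n : ℤ} (i : Idx n) : i.1.2 + i.1.1 = n := by
  have h : i.1.1 + i.1.2 = n := i.2
  omega

/-- The braiding in degree `n`, as a linear map. -/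
noncomputable def braidLin (n : ℤ) : ((L ⊗ K : Cx R).X n) →ₗ[R] ((K ⊗ L : Cx R).X n) :=
  desc L K (fun i => ((i.1.1 * i.1.2).negOnePow : ℤ) •
    (inc K L i.1.2 i.1.1 n (idx_swap i) ∘ₗ (TensorProduct.comm R (L.X i.1.1) (K.X i.1.2)).toLinearMap))

theorem braidLin_tm (p q n : ℤ) (h : p + q = n) (l : L.X p) (k : K.X q) :
    braidLin L K n (tm L K p q n h l k) =
      ((p * q).negOnePow : ℤˣ) • tm K L q p n (by omega) k l := by
  rw [braidLin, desc_tm]
  rfl

theorem braidLin_braidLin (n : ℤ) (x : (L ⊗ K : Cx R).X n) :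
    braidLin K L n (braidLin L K n x) = x := by
  induction x using tm_induction L K with
  | zero => rw [map_zero, map_zero]
  | add x y hx hy => rw [map_add, map_add, hx, hy]
  | tm' p q h l k =>
    rw [braidLin_tm, KFlat.units_smul_map, braidLin_tm, smul_smul, mul_comm q p,
      Int.units_mul_self, one_smul]

theorem braidLin_d (n n' : ℤ) (hn : n + 1 = n') (x : (L ⊗ K : Cx R).X n) :
    (K ⊗ L : Cx R).d n n' (braidLin L K n x) = braidLin L K n' ((L ⊗ K : Cx R).d n n' x) := by
  induction x using tm_induction L K with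
  | zero => rw [map_zero, map_zero, map_zero, map_zero]
  | add x y hx hy => rw [map_add, map_add, hx, hy, map_add, map_add]
  | tm' p q h l k =>
    rw [braidLin_tm, KFlat.units_smul_map, d_tm K L q p n n' (by omega) hn,
      d_tm L K p q n n' h hn, map_add, KFlat.units_smul_map, braidLin_tm, braidLin_tm,
      smul_add, smul_smul, smul_smul, add_comm]
    have e1 : ((p * q).negOnePow : ℤˣ) * q.negOnePow = ((p + 1) * q).negOnePow := by
      rw [← Int.negOnePow_add]
      congr 1
      ring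
    have e2 : (p.negOnePow : ℤˣ) * (p * (q + 1)).negOnePow = (p * q).negOnePow := by
      rw [← Int.negOnePow_add, Int.negOnePow_eq_iff]
      exact ⟨p, by ring⟩
    rw [e1, e2]

/-- The braiding isomorphism in degree `n`. -/
noncomputable def braidEquiv (n : ℤ) : ((L ⊗ K : Cx R).X n) ≃ₗ[R] ((K ⊗ L : Cx R).X n) :=
  LinearEquiv.ofLinearMap (braidLin L K n) (braidLin K L n)
    (LinearMap.ext (braidLin_braidLin K L n)) (LinearMap.ext (braidLin_braidLin L K n))

/-- The braiding isomorphism of the tensor product of complexes. -/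
noncomputable def braid : (L ⊗ K : Cx R) ≅ (K ⊗ L : Cx R) :=
  HomologicalComplex.Hom.isoOfComponents (fun n => (braidEquiv L K n).toModuleIso) (by
    intro i j hij
    have hij' : i + 1 = j := hij
    ext x
    change (K ⊗ L : Cx R).d i j (braidLin L K i x) = braidLin L K j ((L ⊗ K : Cx R).d i j x)
    exact braidLin_d L K i j hij' x)

theorem braid_hom_f_apply (n : ℤ) (x : (L ⊗ K : Cx R).X n) :
    (braid L K).hom.f n x = braidLin L K n x := rfl

end Braid

section Nat

variable {L L' K K' : Cx R}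

theorem braid_naturality (f : L ⟶ L') (g : K ⟶ K') :
    (f ⊗ₘ g) ≫ (braid L' K').hom = (braid L K).hom ≫ (g ⊗ₘ f) := by
  ext n : 1
  apply ModuleCat.hom_ext
  apply lin_ext
  intro p q h l k
  change (braid L' K').hom.f n ((f ⊗ₘ g).f n (tm L K p q n h l k)) =
    (g ⊗ₘ f).f n ((braid L K).hom.f n (tm L K p q n h l k))
  rw [tensorHom_tm, braid_hom_f_apply, braid_hom_f_apply, braidLin_tm, braidLin_tm,
    KFlat.units_smul_map, tensorHom_tm]

theorem braid_whiskerLeft (M : Cx R) (g : K ⟶ K') :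
    (M ◁ g) ≫ (braid M K').hom = (braid M K).hom ≫ (g ▷ M) := by
  have := braid_naturality (𝟙 M) g
  rwa [id_tensorHom, tensorHom_id] at this

theorem braid_whiskerRight (f : L ⟶ L') (M : Cx R) :
    (f ▷ M) ≫ (braid L' M).hom = (braid L M).hom ≫ (M ◁ f) := by
  have := braid_naturality f (𝟙 M)
  rwa [id_tensorHom, tensorHom_id] at this

end Nat

end Groth.Agent.Lib.Helper25.TensorCx
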