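import Groth.Agent.Lib.Helper25.KFlatHtpy
import Groth.Agent.Lib.Helper25.TensorBraid
import Groth.Agent.Lib.Helper25.KFlatRes
import Groth.Agent.Lib.Helper98.KoszulTensor
import Mathlib.Algebra.Homology.HomotopyCategory.Acyclic
import Mathlib.Algebra.Homology.Localization

set_option autoImplicit false
universe u

namespace Groth.Agent.Lib.Helper25.KFlat

open CategoryTheory CategoryTheory.Limits MonoidalCategory HomologicalComplex CochainComplex
open Groth.Agent.Lib.Helper25.TensorCx

variable {R : Type u} [CommRing R]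

theorem acyclic_iff_hAcyclic (K : Cx R) : Acyclic K ↔ HomologicalComplex.Acyclic K := by
  constructor
  · intro h i
    exact (K.exactAt_iff_isZero_homology i).2 (h i)
  · intro h i
    exact (K.exactAt_iff_isZero_homology i).1 (h i)

/-- A morphism is a quasi-isomorphism iff its mapping cone is acyclic. -/
theorem quasiIso_iff_acyclic_mappingCone {K L : Cx R} (f : K ⟶ L) :
    QuasiIso f ↔ Acyclic (mappingCone f) := by
  rw [acyclic_iff_hAcyclic]
  have h1 := HomotopyCategory.quotient_map_mem_quasiIso_iff f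
  rw [HomologicalComplex.mem_quasiIso_iff] at h1
  rw [← h1, HomotopyCategory.quasiIso_eq_trW_subcategoryAcyclic,
    ← HomotopyCategory.quotient_obj_mem_subcategoryAcyclic_iff_acyclic]
  exact (HomotopyCategory.subcategoryAcyclic (ModuleCat.{u} R)).trW_iff_of_distinguished _
    (HomotopyCategory.mappingCone_triangleh_distinguished f)

theorem acyclic_of_iso {K K' : Cx R} (e : K ≅ K') (h : Acyclic K) : Acyclic K' := fun i =>
  (h i).of_iso ((HomologicalComplex.homologyFunctor _ _ i).mapIso e).symm

/-- Tensoring on the right with a K-flat complex preserves quasi-isomorphisms. -/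
theorem quasiIso_whiskerRight_of_isKFlat (K : Cx R) (hK : IsKFlat K) {L₁ L₂ : Cx R} (f : L₁ ⟶ L₂)
    (hf : QuasiIso f) : QuasiIso (f ▷ K) := by
  rw [quasiIso_iff_acyclic_mappingCone] at hf ⊢
  exact acyclic_of_iso (Helper98.KoszulTensor.coneTensorIso f K) (hK _ hf)

/-- Tensoring on the left with a K-flat complex preserves quasi-isomorphisms. -/
theorem quasiIso_whiskerLeft_of_isKFlat (F : Cx R) (hF : IsKFlat F) {P Q : Cx R} (α : P ⟶ Q)
    (hα : QuasiIso α) : QuasiIso (F ◁ α) := by
  have h1 : QuasiIso (α ▷ F) := quasiIso_whiskerRight_of_isKFlat F hF α hα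
  have h2 : F ◁ α = (braid F P).hom ≫ (α ▷ F) ≫ (braid F Q).inv := by
    rw [← Category.assoc, ← braid_whiskerLeft, Category.assoc, Iso.hom_inv_id, Category.comp_id]
  rw [h2]
  infer_instance

/-- A complex is K-flat iff tensoring with it on the left preserves acyclicity. -/
theorem acyclic_tensor_left_of_isKFlat (F : Cx R) (hF : IsKFlat F) (A : Cx R) (hA : Acyclic A) :
    Acyclic (F ⊗ A : Cx R) :=
  acyclic_of_iso (braid A F) (hF A hA)

/-- A quasi-isomorphism between K-flat complexes stays a quasi-isomorphism after tensoring with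
any complex. -/
theorem quasiIso_whiskerLeft_of_quasiIso_of_isKFlat {P Q : Cx R} (α : P ⟶ Q) (hP : IsKFlat P)
    (hQ : IsKFlat Q) (hα : QuasiIso α) (L : Cx R) : QuasiIso (L ◁ α) := by
  obtain ⟨F, f, hF, -, hf, -⟩ := KFlatRes.exists_kflat_resolution L
  have h1 : QuasiIso (f ▷ P) := quasiIso_whiskerRight_of_isKFlat P hP f hf
  have h2 : QuasiIso (f ▷ Q) := quasiIso_whiskerRight_of_isKFlat Q hQ f hf
  have h3 : QuasiIso (F ◁ α) := quasiIso_whiskerLeft_of_isKFlat F hF α hα
  have h4 : QuasiIso ((f ▷ P) ≫ (L ◁ α)) := by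
    rw [← whisker_exchange]
    infer_instance
  exact quasiIso_of_comp_left (f ▷ P) (L ◁ α)

end Groth.Agent.Lib.Helper25.KFlat
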