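import Groth.Agent.Lib.Helper54.LDerivedKProj

/-!
# Descending right Kan extensions along a two-step localization

Let `q : C₀ ⥤ C₁` be a localization functor (e.g. complexes to the homotopy category),
`L₁ : C₁ ⥤ D` another functor (e.g. `Qh`), `L ≅ q ⋙ L₁` and `F ≅ q ⋙ F₁`.  If `(LF, α)` is a
right Kan extension of `F` along `L`, then `(LF, α₁)` is a right Kan extension of `F₁` along
`L₁`, where `α₁` is the descended natural transformation.

Combined with helper54's `bijective_map_counit_app`, this shows that the counit of a left derived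
functor on `C₀` is an isomorphism at objects `P` such that `Hom_{C₁}(q P, -)` inverts `W₁`.
-/

set_option autoImplicit false

open CategoryTheory

namespace Groth.Agent.Lib.Helper25.KanDescend

universe w v₀ v₁ v₂ v₃ u₀ u₁ u₂ u₃

variable {C₀ : Type u₀} [Category.{v₀} C₀] {C₁ : Type u₁} [Category.{w} C₁]
  {D : Type u₂} [Category.{v₂} D] {H : Type u₃} [Category.{v₃} H]

section Descend

variable (q : C₀ ⥤ C₁) (W₀ : MorphismProperty C₀) [q.IsLocalization W₀]
  {L₁ : C₁ ⥤ D} {L : C₀ ⥤ D} (eL : q ⋙ L₁ ≅ L)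
  {F₁ : C₁ ⥤ H} {F : C₀ ⥤ H} (eF : q ⋙ F₁ ≅ F)
  (LF : D ⥤ H) (α : L ⋙ LF ⟶ F)

/-- The transported natural transformation `L ⋙ G ⟶ F` of `β : L₁ ⋙ G ⟶ F₁`. -/
@[simps]
def up (G : D ⥤ H) (β : L₁ ⋙ G ⟶ F₁) : L ⋙ G ⟶ F where
  app X := G.map (eL.inv.app X) ≫ β.app (q.obj X) ≫ eF.hom.app X
  naturality X Y f := by
    have h1 := eL.inv.naturality f
    have h2 := β.naturality (q.map f)
    have h3 := eF.hom.naturality f
    dsimp at h1 h2 h3 ⊢
    rw [← G.map_comp_assoc, h1, G.map_comp_assoc, reassoc_of% h2, Category.assoc,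
      Category.assoc, h3]

include W₀ in
theorem isRightKanExtension_descend [LF.IsRightKanExtension α] (α₁ : L₁ ⋙ LF ⟶ F₁)
    (hα₁ : ∀ X : C₀, α₁.app (q.obj X) = LF.map (eL.hom.app X) ≫ α.app X ≫ eF.inv.app X) :
    LF.IsRightKanExtension α₁ := by
  have key : ∀ (G : D ⥤ H) (β : L₁ ⋙ G ⟶ F₁) (γ : G ⟶ LF),
      Functor.whiskerLeft L₁ γ ≫ α₁ = β ↔ Functor.whiskerLeft L γ ≫ α = up q eL eF G β := by
    intro G β γ
    constructor
    · intro h
      ext X
      have h1 := congrArg (fun τ => τ.app (q.obj X)) h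
      have h2 := γ.naturality (eL.inv.app X)
      simp only [NatTrans.comp_app, Functor.whiskerLeft_app, hα₁] at h1
      dsimp at h2
      simp only [NatTrans.comp_app, Functor.whiskerLeft_app, up_app]
      rw [← h1]
      simp only [Category.assoc]
      rw [reassoc_of% h2, ← LF.map_comp_assoc, Iso.inv_hom_id_app]
      simp
    · intro h
      apply Localization.natTrans_ext q W₀
      intro X
      have h1 := congrArg (fun τ => τ.app X) h
      have h2 := γ.naturality (eL.hom.app X)
      simp only [NatTrans.comp_app, Functor.whiskerLeft_app, up_app] at h1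
      dsimp at h2
      simp only [NatTrans.comp_app, Functor.whiskerLeft_app]
      rw [hα₁, ← reassoc_of% h2, reassoc_of% h1]
      rw [← G.map_comp_assoc, Iso.hom_inv_id_app]
      simp
  refine ⟨⟨Limits.IsTerminal.ofUniqueHom (fun G => CostructuredArrow.homMk
    (LF.liftOfIsRightKanExtension α G.left (up q eL eF G.left G.hom)) ?_) ?_⟩⟩
  · exact (key _ _ _).2 (LF.liftOfIsRightKanExtension_fac α _ _)
  · intro G m
    apply CostructuredArrow.hom_ext
    apply LF.hom_ext_of_isRightKanExtension α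
    have hm : Functor.whiskerLeft L₁ m.left ≫ α₁ = G.hom := CostructuredArrow.w m
    rw [(key _ _ _).1 hm]
    exact (LF.liftOfIsRightKanExtension_fac α _ _).symm

/-- The descended counit. -/
noncomputable def descendCounit : L₁ ⋙ LF ⟶ F₁ :=
  (Localization.fullyFaithfulWhiskeringLeft q W₀ H).preimage
    (show q ⋙ (L₁ ⋙ LF) ⟶ q ⋙ F₁ from
      (Functor.associator _ _ _).inv ≫ Functor.whiskerRight eL.hom LF ≫ α ≫ eF.inv)

theorem descendCounit_app (X : C₀) :
    (descendCounit q W₀ eL eF LF α).app (q.obj X) =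
      LF.map (eL.hom.app X) ≫ α.app X ≫ eF.inv.app X := by
  have h := (Localization.fullyFaithfulWhiskeringLeft q W₀ H).map_preimage
    (show q ⋙ (L₁ ⋙ LF) ⟶ q ⋙ F₁ from
      (Functor.associator _ _ _).inv ≫ Functor.whiskerRight eL.hom LF ≫ α ≫ eF.inv)
  have h1 := congrArg (fun τ => τ.app X) h
  simpa [descendCounit] using h1

instance isRightKanExtension_descendCounit [LF.IsRightKanExtension α] :
    LF.IsRightKanExtension (descendCounit q W₀ eL eF LF α) :=
  isRightKanExtension_descend q W₀ eL eF LF α _ (descendCounit_app q W₀ eL eF LF α)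

end Descend

section Bijective

variable (q : C₀ ⥤ C₁) (W₀ : MorphismProperty C₀) [q.IsLocalization W₀]
  {L₁ : C₁ ⥤ D} (W₁ : MorphismProperty C₁) [L₁.IsLocalization W₁]
  {L : C₀ ⥤ D} (eL : q ⋙ L₁ ≅ L)
  {F : C₀ ⥤ H} (hF : W₀.IsInvertedBy F)
  (LF : D ⥤ H) (α : L ⋙ LF ⟶ F) [LF.IsRightKanExtension α]
  {T : Type w ⥤ H} {Φ : H ⥤ Type w} (adj : T ⊣ Φ)

include W₀ W₁ hF adj eL in
/-- The counit of a right Kan extension (left derived functor) along `L ≅ q ⋙ L₁` of a functor
inverting `W₀` is `Φ`-bijective at objects `P` such that `Hom(q P, -)` inverts `W₁`. -/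
theorem bijective_map_counit_app (P : C₀)
    (hP : ∀ ⦃X Y : C₁⦄ (s : X ⟶ Y), W₁ s → Function.Bijective (fun g : q.obj P ⟶ X => g ≫ s)) :
    Function.Bijective (Φ.map (α.app P)) := by
  let F₁ : C₁ ⥤ H := Localization.lift F hF q
  let eF : q ⋙ F₁ ≅ F := Localization.fac F hF q
  let α₁ := descendCounit q W₀ eL eF LF α
  have : LF.IsLeftDerivedFunctor α₁ W₁ := ⟨inferInstance⟩
  have h := Groth.Agent.Lib.Helper54.LDerived.bijective_map_counit_app adj (q.obj P) L₁ W₁ LF α₁ hP
  rw [descendCounit_app] at h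
  simp only [Functor.map_comp] at h
  have h1 : Function.Bijective (Φ.map (LF.map (eL.hom.app P))) :=
    (isIso_iff_bijective _).1 inferInstance
  have h2 : Function.Bijective (Φ.map (eF.inv.app P)) :=
    (isIso_iff_bijective _).1 inferInstance
  have h3 : Function.Bijective ((Φ.map (LF.map (eL.hom.app P)) ≫ Φ.map (α.app P)) ≫
      Φ.map (eF.inv.app P)) := by
    simpa using h
  have h4 := (Function.Bijective.of_comp_iff' h2 _).1 h3
  exact (Function.Bijective.of_comp_iff _ h1).1 h4

end Bijective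

end Groth.Agent.Lib.Helper25.KanDescend
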