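import Groth.Agent.Lib.Helper25.LTenCompute
import Groth.Prelude.Def_DRing4
import Groth.Agent.Lib.Helper84.KProj

/-!
# The derived tensor product `DRing.LTensorCx A L` is computed by K-flat complexes

* `isIso_counit_app_of_isKProjective`, `isIso_counit_app_of_isKFlat` : the counit
  `(K ⊗^L L) ⟶ Q (K ⊗ L)` is an isomorphism for `K` K-projective or K-flat.
* `isoOfRes` : for any complex `X`, a K-flat resolution `f : F ⟶ L` of the fixed complex computes
  `X ⊗^L L ≅ Q (X ⊗ F)`.
-/

set_option autoImplicit false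
universe u

open CategoryTheory CategoryTheory.Limits MonoidalCategory DerivedCategory

namespace Groth.Agent.Lib.Helper25.LTensorCxCompute

attribute [local instance] HasDerivedCategory.standard

open Groth.Agent.Lib.Helper25.TensorCx Groth.Agent.Lib.Helper25.KFlat
open Groth.Agent.Lib.Helper25.LDerCx

variable {A : Type u} [CommRing A]

theorem tensorCxQ_inverts (L : Cx A) : (he A).IsInvertedBy (DRing.tensorCxQ A L) := by
  apply inverts_of_homotopy
  intro X Y f g h
  exact Q_map_eq_of_homotopy _ (whiskerRightHomotopy L h)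

/-- `f ▷ L` is a quasi-isomorphism when `f` is a quasi-isomorphism between K-flat complexes. -/
theorem quasiIso_whiskerRight_of_quasiIso_of_isKFlat {P P' : Cx A} (α : P ⟶ P') (hP : IsKFlat P)
    (hP' : IsKFlat P') (hα : QuasiIso α) (L : Cx A) : QuasiIso (α ▷ L) := by
  have h1 : QuasiIso (L ◁ α) := quasiIso_whiskerLeft_of_quasiIso_of_isKFlat α hP hP' hα L
  have h2 : α ▷ L = (braid P L).hom ≫ (L ◁ α) ≫ (braid P' L).inv := by
    rw [← Category.assoc, ← braid_whiskerRight, Category.assoc, Iso.hom_inv_id, Category.comp_id]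
  rw [h2]
  infer_instance

variable (L : Cx A) [DRing.HasLTensorCx A L]

/-- The counit `Q K ⊗^L L ⟶ Q (K ⊗ L)`. -/
noncomputable abbrev counit : Q ⋙ DRing.LTensorCx A L ⟶ DRing.tensorCxQ A L :=
  (DRing.tensorCxQ A L).totalLeftDerivedCounit Q (qis A)

theorem isIso_counit_app_of_isKProjective (P : Cx A) [CochainComplex.IsKProjective P] :
    IsIso ((counit L).app P) :=
  isIso_counit_app₁ (tensorCxQ_inverts L) (DRing.LTensorCx A L) (counit L) P

theorem isIso_counit_app_of_isKFlat (K : Cx A) (hK : IsKFlat K) : IsIso ((counit L).app K) := by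
  obtain ⟨P, π, hP, hπ, hPf, -, -⟩ := Groth.Agent.Lib.Helper15.KProjRes.exists_kprojective_resolution K
  have h1 : IsIso ((counit L).app P) := isIso_counit_app_of_isKProjective L P
  have nat := (counit L).naturality π
  have h2 : IsIso ((Q ⋙ DRing.LTensorCx A L).map π) := by
    have e1 : IsIso (Q.map π) := by rw [isIso_Q_map_iff_quasiIso]; exact hπ
    dsimp only [Functor.comp_map]
    infer_instance
  have h3 : IsIso ((DRing.tensorCxQ A L).map π) := by
    change IsIso (Q.map (π ▷ L))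
    rw [isIso_Q_map_iff_quasiIso]
    exact quasiIso_whiskerRight_of_quasiIso_of_isKFlat π hPf hK hπ L
  have h4 : IsIso ((Q ⋙ DRing.LTensorCx A L).map π ≫ (counit L).app K) := by
    rw [nat]
    infer_instance
  exact IsIso.of_isIso_comp_left ((Q ⋙ DRing.LTensorCx A L).map π) _

/-- `Q K ⊗^L L ≅ Q (K ⊗ L)` for K-flat `K`. -/
noncomputable def isoOfKFlat (K : Cx A) (hK : IsKFlat K) :
    (DRing.LTensorCx A L).obj (Q.obj K) ≅ Q.obj (K ⊗ L : Cx A) :=
  haveI := isIso_counit_app_of_isKFlat L K hK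
  asIso ((counit L).app K)

/-- For any complex `X` and any K-flat resolution `f : F ⟶ L` of the fixed complex,
`Q X ⊗^L L ≅ Q (X ⊗ F)`. -/
theorem nonempty_iso_of_res (X : Cx A) {F : Cx A} (hF : IsKFlat F) (f : F ⟶ L) (hf : QuasiIso f) :
    Nonempty ((DRing.LTensorCx A L).obj (Q.obj X) ≅ Q.obj (X ⊗ F : Cx A)) := by
  obtain ⟨P, π, hP, hπ, hPf, -, -⟩ := Groth.Agent.Lib.Helper15.KProjRes.exists_kprojective_resolution X
  have e1 : IsIso (Q.map π) := by rw [isIso_Q_map_iff_quasiIso]; exact hπ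
  have e2 : IsIso (Q.map (P ◁ f)) := by
    rw [isIso_Q_map_iff_quasiIso]
    exact quasiIso_whiskerLeft_of_isKFlat P hPf f hf
  have e3 : IsIso (Q.map (π ▷ F)) := by
    rw [isIso_Q_map_iff_quasiIso]
    exact quasiIso_whiskerRight_of_isKFlat F hF π hπ
  exact ⟨((DRing.LTensorCx A L).mapIso (asIso (Q.map π))).symm ≪≫ isoOfKFlat L P hPf ≪≫
    (asIso (Q.map (P ◁ f))).symm ≪≫ asIso (Q.map (π ▷ F))⟩

/-- The same with the resolution only given as an isomorphism in the derived category. -/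
theorem nonempty_iso_of_iso (X : Cx A) {F : Cx A} (hF : IsKFlat F) (e : Q.obj F ≅ Q.obj L) :
    Nonempty ((DRing.LTensorCx A L).obj (Q.obj X) ≅ Q.obj (X ⊗ F : Cx A)) := by
  obtain ⟨P, π, hP, hπ, hPf, -, -⟩ := Groth.Agent.Lib.Helper15.KProjRes.exists_kprojective_resolution F
  have e1 : IsIso (Q.map π) := by rw [isIso_Q_map_iff_quasiIso]; exact hπ
  obtain ⟨g, hg⟩ := Groth.Agent.Lib.Helper84.KProj.exists_Q_map_eq P L (Q.map π ≫ e.hom)
  have hgq : QuasiIso g := by
    rw [← isIso_Q_map_iff_quasiIso, hg]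
    infer_instance
  obtain ⟨i1⟩ := nonempty_iso_of_res L X hPf g hgq
  have e2 : IsIso (Q.map (X ◁ π)) := by
    rw [isIso_Q_map_iff_quasiIso]
    exact quasiIso_whiskerLeft_of_quasiIso_of_isKFlat π hPf hF hπ X
  exact ⟨i1 ≪≫ asIso (Q.map (X ◁ π))⟩

end Groth.Agent.Lib.Helper25.LTensorCxCompute
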