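import Groth.Agent.Lib.Helper25.TensorBraid
import Groth.Agent.Lib.Helper84.TensCx

/-!
# Tensoring with a module placed in degree zero

`singleTensorIso M F : (tens M).obj F ≅ M[0] ⊗ F` where `tens M` is helper84's termwise `M ⊗ -`.
-/

set_option autoImplicit false
universe u

namespace Groth.Agent.Lib.Helper25.SingleTensor

open CategoryTheory CategoryTheory.Limits MonoidalCategory HomologicalComplex TensorProduct
open Groth.Agent.Lib.Helper25.TensorCx

variable {R : Type u} [CommRing R]

/-- `M[0]` -/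
noncomputable abbrev sgl (M : ModuleCat.{u} R) : Cx R :=
  (HomologicalComplex.single (ModuleCat.{u} R) (ComplexShape.up ℤ) 0).obj M

variable (M : ModuleCat.{u} R) (F : Cx R)

theorem sgl_subsingleton (p : ℤ) (hp : p ≠ 0) : Subsingleton ((sgl M).X p) :=
  ModuleCat.isZero_iff_subsingleton.1 (isZero_single_obj_X (ComplexShape.up ℤ) 0 M p hp)

/-- `M ⊗ F^n → (M[0] ⊗ F)^n` -/
noncomputable def inS (n : ℤ) : (M ⊗[R] (F.X n)) →ₗ[R] ((sgl M ⊗ F : Cx R).X n) :=
  inc (sgl M) F 0 n n (zero_add n) ∘ₗ
    LinearMap.rTensor (F.X n) (singleObjXSelf (ComplexShape.up ℤ) 0 M).inv.hom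

/-- `(M[0] ⊗ F)^n → M ⊗ F^n` -/
noncomputable def outS (n : ℤ) : ((sgl M ⊗ F : Cx R).X n) →ₗ[R] (M ⊗[R] (F.X n)) :=
  LinearMap.rTensor (F.X n) (singleObjXSelf (ComplexShape.up ℤ) 0 M).hom.hom ∘ₗ
    comp (sgl M) F 0 n n (zero_add n)

theorem inS_tmul (n : ℤ) (m : M) (k : F.X n) :
    inS M F n (m ⊗ₜ[R] k) =
      tm (sgl M) F 0 n n (zero_add n) ((singleObjXSelf (ComplexShape.up ℤ) 0 M).inv m) k := rfl

theorem outS_inS (n : ℤ) (t : M ⊗[R] (F.X n)) : outS M F n (inS M F n t) = t := by
  induction t using TensorProduct.induction_on with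
  | zero => simp only [map_zero]
  | add x y hx hy => simp only [map_add, hx, hy]
  | tmul m k =>
    rw [inS_tmul]
    change LinearMap.rTensor (F.X n) (singleObjXSelf (ComplexShape.up ℤ) 0 M).hom.hom
      (comp (sgl M) F 0 n n (zero_add n) (tm (sgl M) F 0 n n (zero_add n) _ k)) = _
    rw [comp_tm_self, LinearMap.rTensor_tmul]
    congr 1

theorem inS_outS (n : ℤ) (x : (sgl M ⊗ F : Cx R).X n) : inS M F n (outS M F n x) = x := by
  induction x using tm_induction (sgl M) F with
  | zero => simp only [map_zero]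
  | add x y hx hy => simp only [map_add, hx, hy]
  | tm' p q h l k =>
    by_cases hp : p = 0
    · subst hp
      obtain rfl : q = n := by omega
      change inS M F q (LinearMap.rTensor (F.X q) (singleObjXSelf (ComplexShape.up ℤ) 0 M).hom.hom
        (comp (sgl M) F 0 q q (zero_add q) (tm (sgl M) F 0 q q h l k))) = _
      rw [comp_tm_self, LinearMap.rTensor_tmul, inS_tmul]
      congr 1
    · have := sgl_subsingleton M p hp
      rw [Subsingleton.elim l 0, tm_zero_left, map_zero, map_zero]

/-- the degreewise equivalence -/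
noncomputable def equivS (n : ℤ) : (M ⊗[R] (F.X n)) ≃ₗ[R] ((sgl M ⊗ F : Cx R).X n) :=
  LinearEquiv.ofLinear (inS M F n) (outS M F n)
    (LinearMap.ext (inS_outS M F n)) (LinearMap.ext (outS_inS M F n))

theorem inS_d (n n' : ℤ) (hn : n + 1 = n') (t : M ⊗[R] (F.X n)) :
    (sgl M ⊗ F : Cx R).d n n' (inS M F n t) =
      inS M F n' (LinearMap.lTensor M (F.d n n').hom t) := by
  induction t using TensorProduct.induction_on with
  | zero => simp only [map_zero]
  | add x y hx hy => simp only [map_add, hx, hy]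
  | tmul m k =>
    subst hn
    rw [inS_tmul, LinearMap.lTensor_tmul, inS_tmul, d_tm (sgl M) F 0 n n (n + 1) (zero_add n) rfl]
    have h1 : ((sgl M).d 0 (0 + 1)) ((singleObjXSelf (ComplexShape.up ℤ) 0 M).inv m) = 0 := by
      have := sgl_subsingleton M (0 + 1) (by norm_num)
      exact Subsingleton.elim _ _
    rw [h1, tm_zero_left, zero_add, Int.negOnePow_zero, one_smul]

/-- `M ⊗ F^• ≅ M[0] ⊗ F` -/
noncomputable def singleTensorIso :
    (Groth.Agent.Lib.Helper84.TensCx.tens M).obj F ≅ (sgl M ⊗ F : Cx R) :=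
  HomologicalComplex.Hom.isoOfComponents (fun n => (equivS M F n).toModuleIso) (by
    intro i j hij
    ext t
    exact inS_d M F i j hij t)

end Groth.Agent.Lib.Helper25.SingleTensor
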