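import Groth.Agent.Lib.Helper25.KFlat
import Mathlib.Algebra.Category.ModuleCat.FilteredColimits
import Mathlib.Algebra.Homology.HomologicalComplexLimits
import Mathlib.CategoryTheory.Limits.ConcreteCategory.Basic

set_option autoImplicit false
universe u

namespace Groth.Agent.Lib.Helper25.KFlat

open CategoryTheory CategoryTheory.Limits MonoidalCategory HomologicalComplex
open Groth.Agent.Lib.Helper25.TensorCx

variable {R : Type u} [CommRing R]

theorem hom_comm_apply {K L : Cx R} (f : K ⟶ L) (i j : ℤ) (x : K.X i) :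
    L.d i j (f.f i x) = f.f j (K.d i j x) := by
  have := congrArg (fun φ => φ x) (congrArg ModuleCat.Hom.hom (f.comm i j))
  exact this

theorem whiskerLeft_comp_apply (L : Cx R) {K K' K'' : Cx R} (f : K ⟶ K') (g : K' ⟶ K'') (n : ℤ)
    (x : (L ⊗ K : Cx R).X n) :
    (L ◁ (f ≫ g)).f n x = (L ◁ g).f n ((L ◁ f).f n x) := by
  rw [MonoidalCategory.whiskerLeft_comp]
  rfl

section Filtered

variable {J : Type u} [SmallCategory J] [IsFiltered J] (F : J ⥤ Cx R) (c : Cocone F)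
  (hc : IsColimit c) (L : Cx R)

include hc

theorem exists_rep_eval (q : ℤ) (k : c.pt.X q) :
    ∃ (j : J) (kj : (F.obj j).X q), (c.ι.app j).f q kj = k := by
  have h := isColimitOfPreserves (eval (ModuleCat.{u} R) (ComplexShape.up ℤ) q) hc
  exact Concrete.isColimit_exists_rep (F ⋙ eval (ModuleCat.{u} R) (ComplexShape.up ℤ) q) h k

theorem exists_rep_tensor (n : ℤ) (x : (L ⊗ c.pt : Cx R).X n) :
    ∃ (j : J) (xj : (L ⊗ F.obj j : Cx R).X n), (L ◁ c.ι.app j).f n xj = x := by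
  induction x using tm_induction L c.pt with
  | zero =>
    obtain ⟨j⟩ := IsFiltered.nonempty (C := J)
    exact ⟨j, 0, map_zero _⟩
  | add x y hx hy =>
    obtain ⟨j₁, x₁, rfl⟩ := hx
    obtain ⟨j₂, x₂, rfl⟩ := hy
    refine ⟨IsFiltered.max j₁ j₂, (L ◁ F.map (IsFiltered.leftToMax j₁ j₂)).f n x₁ +
      (L ◁ F.map (IsFiltered.rightToMax j₁ j₂)).f n x₂, ?_⟩
    rw [map_add, ← whiskerLeft_comp_apply, ← whiskerLeft_comp_apply, c.w, c.w]
  | tm' p q h l k =>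
    obtain ⟨j, kj, rfl⟩ := exists_rep_eval F c hc q k
    exact ⟨j, tm L (F.obj j) p q n h l kj, whiskerLeft_tm L (c.ι.app j) p q n h l kj⟩

theorem exists_map_eq_zero_summand (p q : ℤ) (j : J)
    (t : TensorProduct R (L.X p) ((F.obj j).X q))
    (ht : LinearMap.lTensor (L.X p) ((c.ι.app j).f q).hom t = 0) :
    ∃ (j' : J) (φ : j ⟶ j'), LinearMap.lTensor (L.X p) ((F.map φ).f q).hom t = 0 := by
  let G : Cx R ⥤ ModuleCat.{u} R :=
    eval (ModuleCat.{u} R) (ComplexShape.up ℤ) q ⋙ tensorLeft (L.X p)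
  have h := isColimitOfPreserves G hc
  have h0 : (G.mapCocone c).ι.app j t = (G.mapCocone c).ι.app j (0 : (F ⋙ G).obj j) := by
    change LinearMap.lTensor (L.X p) ((c.ι.app j).f q).hom t =
      LinearMap.lTensor (L.X p) ((c.ι.app j).f q).hom 0
    rw [ht, map_zero]
  obtain ⟨k, f, g, hfg⟩ := Concrete.isColimit_exists_of_rep_eq (F ⋙ G) h t
    (0 : (F ⋙ G).obj j) h0
  refine ⟨k, f, ?_⟩
  have : (F ⋙ G).map g (0 : (F ⋙ G).obj j) = 0 := map_zero _
  rw [this] at hfg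
  exact hfg

theorem exists_map_eq_zero_tensor (n : ℤ) (j : J) (x : (L ⊗ F.obj j : Cx R).X n)
    (hx : (L ◁ c.ι.app j).f n x = 0) :
    ∃ (j' : J) (φ : j ⟶ j'), (L ◁ F.map φ).f n x = 0 := by
  classical
  obtain ⟨s, hs⟩ := exists_finset_sum L (F.obj j) x
  have hcomp : ∀ i : Idx n, LinearMap.lTensor (L.X i.1.1) ((c.ι.app j).f i.1.2).hom
      (comp L (F.obj j) i.1.1 i.1.2 n i.2 x) = 0 := by
    intro i
    rw [← comp_whiskerLeft, hx, map_zero]
  have key : ∀ s' : Finset (Idx n), ∃ (j' : J) (φ : j ⟶ j'), ∀ i ∈ s',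
      LinearMap.lTensor (L.X i.1.1) ((F.map φ).f i.1.2).hom
        (comp L (F.obj j) i.1.1 i.1.2 n i.2 x) = 0 := by
    intro s'
    induction s' using Finset.induction_on with
    | empty => exact ⟨j, 𝟙 j, by simp⟩
    | insert i₀ s'' _ ih =>
      obtain ⟨j₁, φ₁, h₁⟩ := ih
      obtain ⟨j₂, φ₂, h₂⟩ := exists_map_eq_zero_summand F c hc L i₀.1.1 i₀.1.2 j _ (hcomp i₀)
      obtain ⟨j', ψ₁, ψ₂, hψ⟩ := IsFiltered.span φ₁ φ₂
      refine ⟨j', φ₁ ≫ ψ₁, ?_⟩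
      intro i hi
      rw [Finset.mem_insert] at hi
      rcases hi with rfl | hi
      · rw [hψ, F.map_comp]
        change LinearMap.lTensor _ (((F.map φ₂).f i.1.2 ≫ (F.map ψ₂).f i.1.2)).hom _ = 0
        rw [ModuleCat.hom_comp, LinearMap.lTensor_comp, LinearMap.comp_apply, h₂, map_zero]
      · rw [F.map_comp]
        change LinearMap.lTensor _ (((F.map φ₁).f i.1.2 ≫ (F.map ψ₁).f i.1.2)).hom _ = 0
        rw [ModuleCat.hom_comp, LinearMap.lTensor_comp, LinearMap.comp_apply, h₁ i hi, map_zero]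
  obtain ⟨j', φ, hφ⟩ := key s
  refine ⟨j', φ, ?_⟩
  rw [hs, map_sum]
  apply Finset.sum_eq_zero
  intro i hi
  rw [whiskerLeft_inc, hφ i hi, map_zero]

theorem acyclic_tensor_colimit (hF : ∀ j : J, IsKFlat (F.obj j)) (hL : Acyclic L) :
    Acyclic (L ⊗ c.pt : Cx R) := by
  rw [acyclic_iff]
  intro n₀ n₁ n₂ h01 h12 z hz
  obtain ⟨j, zj, rfl⟩ := exists_rep_tensor F c hc L n₁ z
  have h1 : (L ◁ c.ι.app j).f n₂ ((L ⊗ F.obj j : Cx R).d n₁ n₂ zj) = 0 :=
    (hom_comm_apply (L ◁ c.ι.app j) n₁ n₂ zj).symm.trans hz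
  obtain ⟨j', φ, hφ⟩ := exists_map_eq_zero_tensor F c hc L n₂ j _ h1
  have h2 : (L ⊗ F.obj j' : Cx R).d n₁ n₂ ((L ◁ F.map φ).f n₁ zj) = 0 :=
    (hom_comm_apply (L ◁ F.map φ) n₁ n₂ zj).trans hφ
  obtain ⟨w, hw⟩ := (acyclic_iff _).1 (hF j' L hL) n₀ n₁ n₂ h01 h12 _ h2
  refine ⟨(L ◁ c.ι.app j').f n₀ w, ?_⟩
  refine (hom_comm_apply (L ◁ c.ι.app j') n₀ n₁ w).trans ?_
  rw [hw, ← whiskerLeft_comp_apply, c.w]

theorem isKFlat_of_isColimit (hF : ∀ j : J, IsKFlat (F.obj j)) : IsKFlat c.pt :=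
  fun L hL => acyclic_tensor_colimit F c hc L hF hL

end Filtered

end Groth.Agent.Lib.Helper25.KFlat
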