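import Groth.Agent.Lib.Helper25.KFlat
import Groth.Agent.Lib.Helper25.KFlatColim
import Mathlib.Algebra.Colimit.TensorProduct
import Mathlib.RingTheory.TensorProduct.Finite
import Mathlib.Algebra.Module.FinitePresentation
import Mathlib.LinearAlgebra.TensorProduct.RightExactness

set_option autoImplicit false
universe u

namespace Groth.Agent.Lib.Helper25.KFlatFP

open CategoryTheory CategoryTheory.Limits MonoidalCategory HomologicalComplex TensorProduct
open Groth.Agent.Lib.Helper25.TensorCx Groth.Agent.Lib.Helper25.KFlat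

variable {R : Type u} [CommRing R]

/-- The rows `M ⊗ K^•` are exact. -/
def RowExact (K : Cx R) (M : Type u) [AddCommGroup M] [Module R M] : Prop :=
  ∀ (q₀ q₁ q₂ : ℤ) (_ : q₀ + 1 = q₁) (_ : q₁ + 1 = q₂) (t : M ⊗[R] (K.X q₁)),
    LinearMap.lTensor M (K.d q₁ q₂).hom t = 0 →
      ∃ s : M ⊗[R] (K.X q₀), LinearMap.lTensor M (K.d q₀ q₁).hom s = t

theorem lTensor_rTensor_comm {M M' A B : Type*} [AddCommGroup M] [Module R M] [AddCommGroup M']
    [Module R M'] [AddCommGroup A] [Module R A] [AddCommGroup B] [Module R B]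
    (g : M →ₗ[R] M') (f : A →ₗ[R] B) (x : M ⊗[R] A) :
    LinearMap.lTensor M' f (LinearMap.rTensor A g x) = LinearMap.rTensor B g (LinearMap.lTensor M f x) := by
  rw [← LinearMap.comp_apply, ← LinearMap.comp_apply, LinearMap.lTensor_comp_rTensor,
    LinearMap.rTensor_comp_lTensor]

/-- From finitely presented to finitely generated modules. -/
theorem rowExact_of_finite (K : Cx R)
    (hfp : ∀ (M : Type u) [AddCommGroup M] [Module R M], Module.FinitePresentation R M →
      RowExact K M)
    (M : Type u) [AddCommGroup M] [Module R M] [Module.Finite R M] : RowExact K M := by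
  intro q₀ q₁ q₂ h01 h12 t ht
  obtain ⟨n, f, hf⟩ := Module.Finite.exists_fin' R M
  obtain ⟨t', rfl⟩ := LinearMap.rTensor_surjective (K.X q₁) hf t
  rw [lTensor_rTensor_comm] at ht
  have hex : Function.Exact (LinearMap.ker f).subtype f := by
    intro x
    constructor
    · intro hx
      exact ⟨⟨x, hx⟩, rfl⟩
    · rintro ⟨y, rfl⟩
      exact y.2
  obtain ⟨v, hv⟩ := (rTensor_exact (K.X q₂) hex hf _).1 ht
  obtain ⟨r, nn, kk, rfl⟩ := TensorProduct.exists_sum_tmul_eq v
  let N'' : Submodule R (Fin n → R) := Submodule.span R (Set.range fun i => ((nn i : LinearMap.ker f) : Fin n → R))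
  have hN''fg : N''.FG := Submodule.fg_span (Set.finite_range _)
  have hle : N'' ≤ LinearMap.ker f := by
    rw [Submodule.span_le]
    rintro _ ⟨i, rfl⟩
    exact (nn i).2
  have hfpM' : Module.FinitePresentation R ((Fin n → R) ⧸ N'') :=
    Module.finitePresentation_of_surjective N''.mkQ (Submodule.mkQ_surjective _)
      (by rw [Submodule.ker_mkQ]; exact hN''fg)
  have ht'' : LinearMap.lTensor ((Fin n → R) ⧸ N'') (K.d q₁ q₂).hom
      (LinearMap.rTensor (K.X q₁) N''.mkQ t') = 0 := by
    rw [lTensor_rTensor_comm, ← hv, map_sum, map_sum]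
    apply Finset.sum_eq_zero
    intro i _
    rw [LinearMap.rTensor_tmul, LinearMap.rTensor_tmul]
    have : N''.mkQ ((LinearMap.ker f).subtype (nn i)) = 0 := by
      rw [Submodule.mkQ_apply, Submodule.Quotient.mk_eq_zero]
      exact Submodule.subset_span ⟨i, rfl⟩
    rw [this, TensorProduct.zero_tmul]
  obtain ⟨s'', hs''⟩ := hfp _ hfpM' q₀ q₁ q₂ h01 h12 _ ht''
  refine ⟨LinearMap.rTensor (K.X q₀) (N''.liftQ f hle) s'', ?_⟩
  rw [lTensor_rTensor_comm, hs'', ← LinearMap.rTensor_comp_apply]
  congr 2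

/-- From finitely generated to all modules. -/
theorem rowExact_of_all (K : Cx R)
    (hfg : ∀ (M : Type u) [AddCommGroup M] [Module R M], Module.Finite R M → RowExact K M)
    (M : Type u) [AddCommGroup M] [Module R M] : RowExact K M := by
  intro q₀ q₁ q₂ h01 h12 t ht
  obtain ⟨J, hJ, y, rfl⟩ := Submodule.exists_fg_le_eq_rTensor_subtype t
  rw [lTensor_rTensor_comm] at ht
  have ht0 : LinearMap.rTensor (K.X q₂) J.subtype (LinearMap.lTensor J (K.d q₁ q₂).hom y) =
      LinearMap.rTensor (K.X q₂) J.subtype 0 := by rw [ht, map_zero]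
  obtain ⟨J', hJ', hle, heq⟩ := hJ.exists_rTensor_fg_inclusion_eq ht0
  rw [map_zero, ← lTensor_rTensor_comm] at heq
  have hfin : Module.Finite R J' := Module.Finite.iff_fg.2 hJ'
  obtain ⟨s', hs'⟩ := hfg J' hfin q₀ q₁ q₂ h01 h12 _ heq
  refine ⟨LinearMap.rTensor (K.X q₀) J'.subtype s', ?_⟩
  rw [lTensor_rTensor_comm, hs', ← LinearMap.rTensor_comp_apply]
  rfl

theorem map_units_smul' {M N : Type*} [AddCommGroup M] [AddCommGroup N] [Module R M] [Module R N]
    (f : M →ₗ[R] N) (u : ℤˣ) (x : M) : f (u • x) = u • f x := by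
  rw [Units.smul_def, Units.smul_def, map_zsmul]

/-- Mirror staircase lemma: if `L` is bounded above and all rows `L^p ⊗ K^•` are exact, then the
total tensor complex is acyclic. -/
theorem acyclic_tensor_of_boundedAbove_left (L K : Cx R) (b : ℤ)
    (hb : ∀ p, b < p → IsZero (L.X p)) (hrow : ∀ p : ℤ, RowExact K (L.X p)) :
    KFlat.Acyclic (L ⊗ K : Cx R) := by
  rw [KFlat.acyclic_iff]
  intro n₀ n₁ n₂ h01 h12
  have key : ∀ (k : ℕ) (a : ℤ), b + 1 ≤ a + k → ∀ z : (L ⊗ K : Cx R).X n₁,
      (L ⊗ K : Cx R).d n₁ n₂ z = 0 →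
      (∀ (p q : ℤ) (h : p + q = n₁), p < a → comp L K p q n₁ h z = 0) →
      ∃ w : (L ⊗ K : Cx R).X n₀, (L ⊗ K : Cx R).d n₀ n₁ w = z := by
    intro k
    induction k with
    | zero =>
      intro a ha z _ hsupp
      refine ⟨0, ?_⟩
      rw [map_zero]
      symm
      apply ext_comp
      intro p q h
      rw [map_zero]
      by_cases hp : p < a
      · exact hsupp p q h hp
      · have hz : IsZero (L.X p) := hb p (by omega)
        have := ModuleCat.subsingleton_of_isZero hz
        exact tensor_eq_zero_of_subsingleton_left _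
    | succ k ih =>
      intro a ha z hz hsupp
      obtain ⟨q, hq⟩ : ∃ q, a + q = n₁ := ⟨n₁ - a, by omega⟩
      have ht : LinearMap.lTensor (L.X a) (K.d q (q + 1)).hom (comp L K a q n₁ hq z) = 0 := by
        have h1 := comp_d L K (a - 1) a q (q + 1) n₁ n₂ (by omega) rfl h12 (by omega) z
        rw [hz, map_zero, hsupp (a - 1) (q + 1) (by omega) (by omega), map_zero, zero_add] at h1
        exact (smul_eq_zero_iff_eq _).1 h1.symm
      obtain ⟨w₀, hw₀⟩ := hrow a (q - 1) q (q + 1) (by omega) rfl _ ht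
      have hcyc : (L ⊗ K : Cx R).d n₁ n₂
          (z - (a.negOnePow : ℤˣ) • (L ⊗ K : Cx R).d n₀ n₁ (inc L K a (q - 1) n₀ (by omega) w₀)) = 0 := by
        rw [map_sub, hz, map_units_smul', d_d_apply, smul_zero, sub_zero]
      obtain ⟨w', hw'⟩ := ih (a + 1) (by omega) _ hcyc (by
        intro p' q' h' hp'
        rw [map_sub, map_units_smul']
        rw [comp_d L K (p' - 1) p' (q' - 1) q' n₀ n₁ (by omega) (by omega) h01 h']
        rw [comp_inc_ne L K (p' - 1) q' a (q - 1) n₀ (by omega) (by omega) (by omega)]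
        rw [map_zero, zero_add]
        by_cases hpa : p' = a
        · subst hpa
          have hqq : q' = q := by omega
          subst hqq
          rw [comp_inc_self, hw₀, smul_smul, Int.units_mul_self, one_smul, sub_self]
        · rw [comp_inc_ne L K p' (q' - 1) a (q - 1) n₀ (by omega) (by omega) (by omega)]
          rw [map_zero, smul_zero, smul_zero, sub_zero]
          exact hsupp p' q' h' (by omega))
      refine ⟨w' + (a.negOnePow : ℤˣ) • inc L K a (q - 1) n₀ (by omega) w₀, ?_⟩
      rw [map_add, hw', map_units_smul']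
      abel
  intro z hz
  obtain ⟨s, hs⟩ := exists_finset_sum L K z
  obtain ⟨a, ha⟩ := (s.image (fun i : Idx n₁ => i.1.1)).bddBelow
  have hsupp : ∀ (p q : ℤ) (h : p + q = n₁), p < a → comp L K p q n₁ h z = 0 := by
    intro p q h hp
    have hnm : mkIdx p q n₁ h ∉ s := by
      intro hmem
      have := ha (Finset.mem_coe.2 (Finset.mem_image_of_mem (fun i : Idx n₁ => i.1.1) hmem))
      change a ≤ p at this
      omega
    rw [hs, comp_sum_inc, if_neg hnm]
    rfl
  exact key (b + 1 - a).toNat a (by have := Int.self_le_toNat (b + 1 - a); omega) z hz hsupp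

/-- The subcomplex given by a family of submodules stable under the differential. -/
noncomputable def subCx (L : Cx R) (S : ∀ p : ℤ, Submodule R (L.X p))
    (hS : ∀ (p q : ℤ) (x : L.X p), x ∈ S p → (L.d p q).hom x ∈ S q) : Cx R where
  X p := ModuleCat.of R (S p)
  d p q := ModuleCat.ofHom ((L.d p q).hom.restrict (hS p q))
  shape p q hpq := by
    ext x
    change (L.d p q).hom x.1 = 0
    rw [L.shape p q hpq]
    rfl
  d_comp_d' p q r _ _ := by
    ext x
    exact d_d_apply L p q r x.1

/-- The inclusion of a subcomplex. -/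
noncomputable def subCxι (L : Cx R) (S : ∀ p : ℤ, Submodule R (L.X p))
    (hS : ∀ (p q : ℤ) (x : L.X p), x ∈ S p → (L.d p q).hom x ∈ S q) : subCx L S hS ⟶ L where
  f p := ModuleCat.ofHom (S p).subtype
  comm' p q _ := by
    ext x
    rfl

/-- The submodules defining the canonical truncation. -/
noncomputable def trS (L : Cx R) (N : ℤ) (p : ℤ) : Submodule R (L.X p) :=
  if p < N then ⊤ else if p = N then LinearMap.ker (L.d p (p + 1)).hom else ⊥

theorem trS_stable (L : Cx R) (N : ℤ) (p q : ℤ) (x : L.X p) (hx : x ∈ trS L N p) :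
    (L.d p q).hom x ∈ trS L N q := by
  by_cases hpq : p + 1 = q
  · subst hpq
    unfold trS at hx ⊢
    by_cases h1 : p + 1 < N
    · rw [if_pos h1]
      trivial
    · rw [if_neg h1]
      by_cases h2 : p + 1 = N
      · rw [if_pos h2]
        exact d_d_apply L p (p + 1) (p + 1 + 1) x
      · rw [if_neg h2]
        have h3 : ¬ p < N := by omega
        rw [if_neg h3] at hx
        by_cases h4 : p = N
        · rw [if_pos h4] at hx
          rw [Submodule.mem_bot]
          exact hx
        · rw [if_neg h4, Submodule.mem_bot] at hx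
          rw [hx, map_zero]
          exact Submodule.zero_mem _
  · have : L.d p q = 0 := L.shape p q hpq
    rw [this]
    exact Submodule.zero_mem _

theorem rTensor_bijective_of_bijective {A B C : Type*} [AddCommGroup A] [AddCommGroup B]
    [AddCommGroup C] [Module R A] [Module R B] [Module R C] (f : A →ₗ[R] B)
    (hf : Function.Bijective f) : Function.Bijective (LinearMap.rTensor C f) := by
  have := (LinearEquiv.rTensor C (LinearEquiv.ofBijective f hf)).bijective
  exact this

/-- If all rows `M ⊗ K^•` are exact then `L ⊗ K` is acyclic for every complex `L`. -/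
theorem acyclic_tensor_of_rowExact (K : Cx R)
    (hrow : ∀ (M : Type u) [AddCommGroup M] [Module R M], RowExact K M) (L : Cx R) :
    KFlat.Acyclic (L ⊗ K : Cx R) := by
  classical
  rw [KFlat.acyclic_iff]
  intro n₀ n₁ n₂ h01 h12 z hz
  obtain ⟨s, hs⟩ := exists_finset_sum L K z
  obtain ⟨c, hc⟩ := (s.image (fun i : Idx n₁ => i.1.1)).bddAbove
  have hcs : ∀ i ∈ s, i.1.1 ≤ c := fun i hi =>
    hc (Finset.mem_coe.2 (Finset.mem_image_of_mem (fun i : Idx n₁ => i.1.1) hi))
  set N : ℤ := c + 2 with hN
  set L' : Cx R := subCx L (trS L N) (trS_stable L N) with hL'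
  set ι : L' ⟶ L := subCxι L (trS L N) (trS_stable L N) with hι
  have hbij : ∀ p : ℤ, p < N → Function.Bijective (ι.f p).hom := by
    intro p hp
    change Function.Bijective (trS L N p).subtype
    have htop : trS L N p = ⊤ := by
      unfold trS
      rw [if_pos hp]
    constructor
    · exact Submodule.injective_subtype _
    · intro x
      exact ⟨⟨x, by rw [htop]; trivial⟩, rfl⟩
  have hb : ∀ p, N < p → IsZero (L'.X p) := by
    intro p hp
    have hbot : trS L N p = ⊥ := by
      unfold trS
      rw [if_neg (by omega), if_neg (by omega)]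
    have : Subsingleton (L'.X p) := by
      change Subsingleton (trS L N p)
      rw [hbot]
      infer_instance
    exact ModuleCat.isZero_of_subsingleton _
  -- the lift of `z`
  have hg : ∀ i : Idx n₁, ∃ t : TensorProduct R (L'.X i.1.1) (K.X i.1.2),
      i ∈ s → LinearMap.rTensor (K.X i.1.2) (ι.f i.1.1).hom t =
        comp L K i.1.1 i.1.2 n₁ i.2 z := by
    intro i
    by_cases hi : i ∈ s
    · obtain ⟨t, ht⟩ := (rTensor_bijective_of_bijective (C := K.X i.1.2) (ι.f i.1.1).hom
        (hbij i.1.1 (by have := hcs i hi; omega))).2 (comp L K i.1.1 i.1.2 n₁ i.2 z)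
      exact ⟨t, fun _ => ht⟩
    · exact ⟨0, fun h => absurd h hi⟩
  choose g hg using hg
  set z' : (L' ⊗ K : Cx R).X n₁ := ∑ i ∈ s, inc L' K i.1.1 i.1.2 n₁ i.2 (g i) with hz'
  have hιz : (ι ▷ K).f n₁ z' = z := by
    rw [hz', map_sum]
    conv_rhs => rw [hs]
    refine Finset.sum_congr rfl fun i hi => ?_
    rw [whiskerRight_inc, hg i hi]
  have hsupp' : ∀ (p q : ℤ) (h : p + q = n₁), c < p → comp L' K p q n₁ h z' = 0 := by
    intro p q h hp
    have hnm : mkIdx p q n₁ h ∉ s := by
      intro hmem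
      have := hcs _ hmem
      change p ≤ c at this
      omega
    rw [hz', comp_sum_inc, if_neg hnm]
    rfl
  have hdz' : (L' ⊗ K : Cx R).d n₁ n₂ z' = 0 := by
    apply ext_comp
    intro p q h
    rw [map_zero]
    by_cases hp : p < N
    · apply (rTensor_bijective_of_bijective (C := K.X q) (ι.f p).hom (hbij p hp)).1
      rw [map_zero, ← TensorCx.comp_whiskerRight, ← hom_comm_apply, hιz, hz, map_zero]
    · rw [comp_d L' K (p - 1) p (q - 1) q n₁ n₂ (by omega) (by omega) h12 h]
      rw [hsupp' (p - 1) q (by omega) (by omega), hsupp' p (q - 1) (by omega) (by omega)]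
      rw [map_zero, map_zero, smul_zero, add_zero]
  obtain ⟨w', hw'⟩ := (KFlat.acyclic_iff _).1
    (acyclic_tensor_of_boundedAbove_left L' K N hb (fun p => hrow (L'.X p))) n₀ n₁ n₂ h01 h12 z' hdz'
  refine ⟨(ι ▷ K).f n₀ w', ?_⟩
  rw [hom_comm_apply, hw', hιz]

end Groth.Agent.Lib.Helper25.KFlatFP
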