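import Groth.Prelude.Def_DTen4
import Groth.Agent.Lib.Helper15.LBCAdj
import Groth.Agent.Lib.Helper15.LBCKFlat

set_option autoImplicit false
universe u
open CategoryTheory CategoryTheory.Limits MonoidalCategory
attribute [local instance] HasDerivedCategory.standard

namespace Groth.Agent.Lib.Helper25.BaseCmp

open DerivedCategory Groth.Agent.Lib.Helper15 Groth.Agent.Lib.Helper15.QhAdj

theorem aux {C : Type*} [Category C] {X₁ X₂ X₃ X₄ : C} (a : X₁ ≅ X₄) (b : X₁ ⟶ X₂) [IsIso b]
    (c : X₂ ≅ X₃) (d : X₃ ≅ X₄) (m : X₄ ⟶ X₄) (hm : m = 𝟙 X₄)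
    (h : a.hom = b ≫ c.hom ≫ d.hom ≫ m) : d.hom ≫ a.inv ≫ b = c.inv := by
  subst hm
  rw [Category.comp_id] at h
  rw [← cancel_epi c.hom, Iso.hom_inv_id, ← cancel_epi b, Category.comp_id]
  rw [← Category.assoc, ← Category.assoc, ← Category.assoc, Category.assoc b, ← h,
    Iso.hom_inv_id, Category.id_comp]

variable {R A : Type u} [CommRing R] [CommRing A] (φ : R →+* A)

theorem factorsh_inv_app (M : DRing.Cx A) :
    (quotientCompQhIso (ModuleCat.{u} R)).inv.app ((DTen.resCx φ).obj M) ≫
      (ModuleCat.restrictScalars.{u} φ).mapDerivedCategoryFactorsh.inv.app ((quot A).obj M) ≫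
        (DRing.restrictD φ).map ((quotientCompQhIso (ModuleCat.{u} A)).hom.app M) =
      (DTen.resFactors φ).inv.app M := by
  have h4 := (ModuleCat.restrictScalars.{u} φ).mapDerivedCategoryFactorsh_hom_app M
  have hm : Qh.map (((ModuleCat.restrictScalars.{u} φ).mapHomotopyCategoryFactors
      (ComplexShape.up ℤ)).inv.app M) = 𝟙 _ := by
    exact Qh.map_id _
  exact aux ((ModuleCat.restrictScalars.{u} φ).mapDerivedCategoryFactorsh.app ((quot A).obj M))
    ((DRing.restrictD φ).map ((quotientCompQhIso (ModuleCat.{u} A)).hom.app M))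
    ((ModuleCat.restrictScalars.{u} φ).mapDerivedCategoryFactors.app M)
    ((quotientCompQhIso (ModuleCat.{u} R)).symm.app ((DTen.resCx φ).obj M))
    (Qh.map (((ModuleCat.restrictScalars.{u} φ).mapHomotopyCategoryFactors
      (ComplexShape.up ℤ)).inv.app M)) hm h4


theorem adj_unit_eq : (LBCAdj.adj φ).unit =
    (LBCAdj.adjK φ).derivedη (W R) (LBCAdj.α φ) (LBCAdj.β φ) := rfl

theorem adjK_unit_app (K : DRing.Cx R) :
    (LBCAdj.adjK φ).unit.app ((quot R).obj K) = (quot R).map ((DTen.unitCx φ).app K) := rfl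

/-- the unit of helper15's adjunction against the canonical map -/
theorem unit_lbcMap (K : DRing.Cx R) :
    (LBCAdj.adj φ).unit.app (Q.obj K) ≫ (DRing.restrictD φ).map (LDerived.lbcMap φ K) =
      Q.map ((DTen.unitCx φ).app K) ≫ (DTen.resFactors φ).inv.app ((DTen.extCx φ).obj K) := by
  have h1 := (LBCAdj.adj φ).unit.naturality ((quotientCompQhIso (ModuleCat.{u} R)).inv.app K)
  have h2 := Adjunction.derivedη_fac_app (LBCAdj.adjK φ) (W R) (LBCAdj.α φ) (LBCAdj.β φ)
    ((quot R).obj K)
  rw [← adj_unit_eq, adjK_unit_app] at h2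
  have h3 := quotientCompQhIso_inv_naturality (C := ModuleCat.{u} R) ((DTen.unitCx φ).app K)
  have h5 := factorsh_inv_app φ ((DTen.extCx φ).obj K)
  dsimp at h1
  unfold LDerived.lbcMap
  rw [Functor.map_comp, Functor.map_comp, ← reassoc_of% h1, reassoc_of% h2]
  exact (Category.assoc _ _ _).symm.trans
    ((congrArg (fun t => t ≫ ((LBCAdj.β φ).app ((LBCAdj.extK φ).obj ((quot R).obj K)) ≫
      (DRing.restrictD φ).map ((quotientCompQhIso (ModuleCat.{u} A)).hom.app
        (LDerived.extCx φ K)))) h3.symm).trans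
      ((Category.assoc _ _ _).trans (congrArg (fun t => Q.map ((DTen.unitCx φ).app K) ≫ t) h5)))


/-- `DTen.baseCmp` is helper15's canonical map `lbcMap` up to the uniqueness isomorphism of left
adjoints of restriction. -/
theorem baseCmp_app_eq [DTen.HasLBase φ] (K : DRing.Cx R) :
    (DTen.baseCmp φ).app K =
      ((DTen.baseAdj φ).leftAdjointUniq (LBCAdj.adj φ)).hom.app (Q.obj K) ≫
        LDerived.lbcMap φ K := by
  apply ((DTen.baseAdj φ).homEquiv _ _).injective
  rw [Adjunction.homEquiv_unit, Adjunction.homEquiv_unit, DTen.baseCmp_fac, Functor.map_comp,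
    Adjunction.unit_leftAdjointUniq_hom_app_assoc, unit_lbcMap]
  rfl

/-- Derived base change (the left adjoint of restriction) is computed termwise on K-flat
complexes. -/
theorem isIso_baseCmp_app_of_isKFlat [DTen.HasLBase φ] (K : DRing.Cx R)
    (hK : DRing.IsKFlat R K) : IsIso ((DTen.baseCmp φ).app K) := by
  rw [baseCmp_app_eq]
  have := LBCKFlat.isIso_lbcMap_of_isKFlat φ K hK
  infer_instance

/-- Derived base change (the left adjoint of restriction) is computed termwise on K-projective
complexes. -/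
theorem isIso_baseCmp_app_of_isKProjective [DTen.HasLBase φ] (K : DRing.Cx R)
    [CochainComplex.IsKProjective K] : IsIso ((DTen.baseCmp φ).app K) := by
  rw [baseCmp_app_eq]
  infer_instance

end Groth.Agent.Lib.Helper25.BaseCmp
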