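import Groth.Agent.Lib.Helper25.LTenCompute
import Groth.Agent.Lib.Helper25.BaseCmp
import Groth.Prelude.Def_DTen6

/-!
# The mixed derived tensor product `DTen.LTenMix` and `DTen.split`
-/

set_option autoImplicit false
universe u

open CategoryTheory CategoryTheory.Limits MonoidalCategory DerivedCategory

namespace Groth.Agent.Lib.Helper25.LTenMixCompute

attribute [local instance] HasDerivedCategory.standard

open Groth.Agent.Lib.Helper25.TensorCx Groth.Agent.Lib.Helper25.KFlat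
open Groth.Agent.Lib.Helper25.LDerCx Groth.Agent.Lib.Helper25.LTenCompute

variable {R A : Type u} [CommRing R] [CommRing A] (φ : R →+* A)

theorem mix₂_inverts : ((he R).prod (he A)).IsInvertedBy (DTen.mix₂ φ) := by
  apply inverts_of_homotopy₂
  intro X Y X' Y' f g f' g' h h'
  exact Q_map_eq_of_homotopy _
    (tensorHomotopy ((ModuleCat.extendScalars.{u, u, u} φ).mapHomotopy h) h')

theorem isIso_εMix_app_of_isKProjective [DTen.HasLTenMix φ] (P : Cx R) (P' : Cx A)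
    [CochainComplex.IsKProjective P] [CochainComplex.IsKProjective P'] :
    IsIso ((DTen.εMix φ).app (P, P')) :=
  isIso_counit_app₂ (mix₂_inverts φ) (DTen.LTenMix φ) (DTen.εMix φ) P P'

/-- The counit of the mixed derived tensor product is an isomorphism at `(K, L)` when `K` is
K-flat. -/
theorem isIso_εMix_app_of_isKFlat_left [DTen.HasLTenMix φ] (K : Cx R) (L : Cx A)
    (hK : IsKFlat K) : IsIso ((DTen.εMix φ).app (K, L)) := by
  obtain ⟨P, π, hP, hπ, hPf, -, -⟩ := Groth.Agent.Lib.Helper15.KProjRes.exists_kprojective_resolution K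
  obtain ⟨P', π', hP', hπ', hPf', -, -⟩ :=
    Groth.Agent.Lib.Helper15.KProjRes.exists_kprojective_resolution L
  have h1 : IsIso ((DTen.εMix φ).app (P, P')) := isIso_εMix_app_of_isKProjective φ P P'
  have nat := (DTen.εMix φ).naturality (Prod.mkHom π π' : (P, P') ⟶ (K, L))
  have h2 : IsIso ((DTen.QMix R A ⋙ DTen.LTenMix φ).map (Prod.mkHom π π' : (P, P') ⟶ (K, L))) := by
    have : IsIso ((DTen.QMix R A).map (Prod.mkHom π π' : (P, P') ⟶ (K, L))) := by
      have e1 : IsIso (Q.map π) := by rw [isIso_Q_map_iff_quasiIso]; exact hπ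
      have e2 : IsIso (Q.map π') := by rw [isIso_Q_map_iff_quasiIso]; exact hπ'
      exact (isIso_prod_iff
        (f := (DTen.QMix R A).map (Prod.mkHom π π' : (P, P') ⟶ (K, L)))).2 ⟨e1, e2⟩
    dsimp only [Functor.comp_map]
    infer_instance
  have h3 : IsIso ((DTen.mix₂ φ).map (Prod.mkHom π π' : (P, P') ⟶ (K, L))) := by
    change IsIso (Q.map (((DTen.extCx φ).map π ▷ P') ≫ ((DTen.extCx φ).obj K ◁ π')))
    rw [isIso_Q_map_iff_quasiIso]
    have q0 : QuasiIso ((DTen.extCx φ).map π) :=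
      Groth.Agent.Lib.Helper15.LBCKFlat.quasiIso_extCx_map φ π hPf hK hπ
    have q1 : QuasiIso ((DTen.extCx φ).map π ▷ P') :=
      quasiIso_whiskerRight_of_isKFlat P' hPf' _ q0
    have q2 : QuasiIso ((DTen.extCx φ).obj K ◁ π') :=
      quasiIso_whiskerLeft_of_isKFlat _ (isKFlat_extCx φ K hK) π' hπ'
    infer_instance
  have h4 : IsIso ((DTen.QMix R A ⋙ DTen.LTenMix φ).map (Prod.mkHom π π' : (P, P') ⟶ (K, L)) ≫
      (DTen.εMix φ).app (K, L)) := by
    rw [nat]
    infer_instance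
  exact IsIso.of_isIso_comp_left
    ((DTen.QMix R A ⋙ DTen.LTenMix φ).map (Prod.mkHom π π' : (P, P') ⟶ (K, L))) _

/-- `DTen.split` is an isomorphism. -/
theorem isIso_split_app [DTen.HasLTen A] [DTen.HasLBase φ] [DTen.HasLTenMix φ]
    (E : DerivedCategory (ModuleCat.{u} R)) (N : DerivedCategory (ModuleCat.{u} A)) :
    IsIso ((DTen.split φ).app (E, N)) := by
  obtain ⟨P, hP, hPf, ⟨eE⟩⟩ := exists_kproj_kflat E
  obtain ⟨P', hP', hPf', ⟨eN⟩⟩ := exists_kproj_kflat N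
  let e : (DTen.QMix R A).obj (P, P') ≅ (E, N) := Iso.prod eE eN
  rw [← NatTrans.isIso_app_iff_of_iso (DTen.split φ) e]
  have h3 : IsIso ((DTen.εMix φ).app (P, P')) := isIso_εMix_app_of_isKProjective φ P P'
  have hfac := DTen.split_fac φ (P, P')
  have hβ : IsIso ((DTen.splitβ φ).app (P, P')) := by
    have i1 : IsIso ((DTen.baseCmp φ).app P) := BaseCmp.isIso_baseCmp_app_of_isKProjective φ P
    have i2 : IsIso ((DTen.ε A).app ((DTen.extCx φ).obj P, P')) :=
      isIso_ε_app _ P' (Or.inr hPf')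
    have i0 : IsIso (Prod.mkHom ((DTen.baseCmp φ).app P) (𝟙 (Q.obj P')) :
        ((DTen.LBase φ).obj (Q.obj P), Q.obj P') ⟶ (Q.obj ((DTen.extCx φ).obj P), Q.obj P')) :=
      (isIso_prod_iff (f := (Prod.mkHom ((DTen.baseCmp φ).app P) (𝟙 (Q.obj P')) :
        ((DTen.LBase φ).obj (Q.obj P), Q.obj P') ⟶
          (Q.obj ((DTen.extCx φ).obj P), Q.obj P')))).2 ⟨i1, inferInstance⟩
    have i3 : IsIso ((DTen.LTen₂ A).map (Prod.mkHom ((DTen.baseCmp φ).app P) (𝟙 (Q.obj P')) :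
        ((DTen.LBase φ).obj (Q.obj P), Q.obj P') ⟶
          (Q.obj ((DTen.extCx φ).obj P), Q.obj P'))) := inferInstance
    exact @IsIso.comp_isIso _ _ _ _ _ _ _ i3 i2
  rw [← hfac] at hβ
  exact IsIso.of_isIso_comp_right _ ((DTen.εMix φ).app (P, P'))

section Triple

variable {A' B' C' : Type u} [CommRing A'] [CommRing B'] [CommRing C'] (φ' : A' →+* B')
  (ψ' : B' →+* C')

theorem mix₃_inverts :
    ((he A').prod ((he B').prod (he C'))).IsInvertedBy (DTen.mix₃ φ' ψ') := by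
  apply inverts_of_homotopy₃
  intro X Y X' Y' X'' Y'' f g f' g' f'' g'' h h' h''
  exact Q_map_eq_of_homotopy _
    (tensorHomotopy ((ModuleCat.extendScalars.{u, u, u} ψ').mapHomotopy
      (tensorHomotopy ((ModuleCat.extendScalars.{u, u, u} φ').mapHomotopy h) h')) h'')

theorem isIso_εMix₃_app_of_isKProjective [DTen.HasLTenMix₃ φ' ψ'] (P : Cx A') (P' : Cx B')
    (P'' : Cx C') [CochainComplex.IsKProjective P] [CochainComplex.IsKProjective P']
    [CochainComplex.IsKProjective P''] :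
    IsIso ((DTen.εMix₃ φ' ψ').app (P, (P', P''))) :=
  isIso_counit_app₃ (mix₃_inverts φ' ψ') (DTen.LTenMix₃ φ' ψ') (DTen.εMix₃ φ' ψ') P P' P''

/-- Both legs into the jointly derived triple mixed tensor product are isomorphisms. -/
theorem isIso_leg₃ [DTen.HasLTenMix φ'] [DTen.HasLTenMix ψ'] [DTen.HasLTenMix (ψ'.comp φ')]
    [DTen.HasLTenMix₃ φ' ψ'] (E : DerivedCategory (ModuleCat.{u} A'))
    (F : DerivedCategory (ModuleCat.{u} B')) (G : DerivedCategory (ModuleCat.{u} C')) :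
    IsIso ((DTen.leg₃L φ' ψ').app (E, (F, G))) ∧ IsIso ((DTen.leg₃R φ' ψ').app (E, (F, G))) := by
  obtain ⟨P, hP, hPf, ⟨eE⟩⟩ := exists_kproj_kflat E
  obtain ⟨P', hP', hPf', ⟨eF⟩⟩ := exists_kproj_kflat F
  obtain ⟨P'', hP'', hPf'', ⟨eG⟩⟩ := exists_kproj_kflat G
  let e : (DTen.QMix₃ A' B' C').obj (P, (P', P'')) ≅ (E, (F, G)) := Iso.prod eE (Iso.prod eF eG)
  rw [← NatTrans.isIso_app_iff_of_iso (DTen.leg₃L φ' ψ') e,
    ← NatTrans.isIso_app_iff_of_iso (DTen.leg₃R φ' ψ') e]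
  have h3 : IsIso ((DTen.εMix₃ φ' ψ').app (P, (P', P''))) :=
    isIso_εMix₃_app_of_isKProjective φ' ψ' P P' P''
  constructor
  · have hfac := DTen.leg₃L_fac φ' ψ' (P, (P', P''))
    have hβ : IsIso ((DTen.β₃L φ' ψ').app (P, (P', P''))) := by
      have i1 : IsIso ((DTen.εMix φ').app (P, P')) := isIso_εMix_app_of_isKProjective φ' P P'
      have hfl : IsKFlat ((DTen.mixT φ').obj (P, P')) :=
        isKFlat_tensor (isKFlat_extCx φ' P hPf) hPf'
      have i2 : IsIso ((DTen.εMix ψ').app ((DTen.mixT φ').obj (P, P'), P'')) :=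
        isIso_εMix_app_of_isKFlat_left ψ' _ P'' hfl
      have i0 : IsIso (Prod.mkHom ((DTen.εMix φ').app (P, P')) (𝟙 (Q.obj P'')) :
          ((DTen.LTenMix φ').obj (Q.obj P, Q.obj P'), Q.obj P'') ⟶
            (Q.obj ((DTen.mixT φ').obj (P, P')), Q.obj P'')) :=
        (isIso_prod_iff (f := (Prod.mkHom ((DTen.εMix φ').app (P, P')) (𝟙 (Q.obj P'')) :
          ((DTen.LTenMix φ').obj (Q.obj P, Q.obj P'), Q.obj P'') ⟶
            (Q.obj ((DTen.mixT φ').obj (P, P')), Q.obj P'')))).2 ⟨i1, inferInstance⟩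
      have i3 : IsIso ((DTen.LTenMix ψ').map
          (Prod.mkHom ((DTen.εMix φ').app (P, P')) (𝟙 (Q.obj P'')) :
          ((DTen.LTenMix φ').obj (Q.obj P, Q.obj P'), Q.obj P'') ⟶
            (Q.obj ((DTen.mixT φ').obj (P, P')), Q.obj P''))) := inferInstance
      exact @IsIso.comp_isIso _ _ _ _ _ _ _ i3 i2
    rw [← hfac] at hβ
    exact IsIso.of_isIso_comp_right _ ((DTen.εMix₃ φ' ψ').app (P, (P', P'')))
  · have hfac := DTen.leg₃R_fac φ' ψ' (P, (P', P''))
    have hβ : IsIso ((DTen.β₃R φ' ψ').app (P, (P', P''))) := by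
      have i1 : IsIso ((DTen.εMix ψ').app (P', P'')) := isIso_εMix_app_of_isKProjective ψ' P' P''
      have i2 : IsIso ((DTen.εMix (ψ'.comp φ')).app (P, (DTen.mixT ψ').obj (P', P''))) :=
        isIso_εMix_app_of_isKFlat_left (ψ'.comp φ') P _ hPf
      have i0 : IsIso (Prod.mkHom (𝟙 (Q.obj P)) ((DTen.εMix ψ').app (P', P'')) :
          (Q.obj P, (DTen.LTenMix ψ').obj (Q.obj P', Q.obj P'')) ⟶
            (Q.obj P, Q.obj ((DTen.mixT ψ').obj (P', P'')))) :=
        (isIso_prod_iff (f := (Prod.mkHom (𝟙 (Q.obj P)) ((DTen.εMix ψ').app (P', P'')) :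
          (Q.obj P, (DTen.LTenMix ψ').obj (Q.obj P', Q.obj P'')) ⟶
            (Q.obj P, Q.obj ((DTen.mixT ψ').obj (P', P'')))))).2 ⟨inferInstance, i1⟩
      have i3 : IsIso ((DTen.LTenMix (ψ'.comp φ')).map
          (Prod.mkHom (𝟙 (Q.obj P)) ((DTen.εMix ψ').app (P', P'')) :
          (Q.obj P, (DTen.LTenMix ψ').obj (Q.obj P', Q.obj P'')) ⟶
            (Q.obj P, Q.obj ((DTen.mixT ψ').obj (P', P''))))) := inferInstance
      have i4 : IsIso (Q.map ((DTen.θ₃ φ' ψ').inv.app (P, (P', P'')))) := inferInstance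
      have i5 : IsIso ((DTen.εMix (ψ'.comp φ')).app (P, (DTen.mixT ψ').obj (P', P'')) ≫
          Q.map ((DTen.θ₃ φ' ψ').inv.app (P, (P', P'')))) := IsIso.comp_isIso
      exact @IsIso.comp_isIso _ _ _ _ _ _ _ i3 i5
    rw [← hfac] at hβ
    exact IsIso.of_isIso_comp_right _ ((DTen.εMix₃ φ' ψ').app (P, (P', P'')))

end Triple

end Groth.Agent.Lib.Helper25.LTenMixCompute
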