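import Groth.Agent.Lib.Helper25.QisElem

/-!
# Elementwise consequences of a quasi-isomorphism of complexes of modules
-/

set_option autoImplicit false
universe u

namespace Groth.Agent.Lib.Helper25.QisElem

open CategoryTheory CategoryTheory.Limits HomologicalComplex CochainComplex
open Groth.Agent.Lib.Helper25.TensorCx Groth.Agent.Lib.Helper25.KFlat

variable {R : Type u} [CommRing R] {X Y : Cx R} (g : X ⟶ Y)

theorem fst_d (i j k : ℤ) (hij : i + 1 = j) (hjk : j + 1 = k) (z : (mappingCone g).X i) :
    (mappingCone.fst g).1.v j k hjk ((mappingCone g).d i j z) =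
      - X.d j k ((mappingCone.fst g).1.v i j hij z) := by
  have e := ConcreteCategory.congr_hom (mappingCone.d_fst_v g i j k hij hjk) z
  simp only [ModuleCat.hom_comp, LinearMap.coe_comp, Function.comp_apply, ModuleCat.hom_neg,
    LinearMap.neg_apply] at e
  exact e

theorem snd_d (i j : ℤ) (hij : i + 1 = j) (z : (mappingCone g).X i) :
    (mappingCone.snd g).v j j (add_zero j) ((mappingCone g).d i j z) =
      g.f j ((mappingCone.fst g).1.v i j hij z) +
        Y.d i j ((mappingCone.snd g).v i i (add_zero i) z) := by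
  have e := ConcreteCategory.congr_hom (mappingCone.d_snd_v g i j hij) z
  simp only [ModuleCat.hom_comp, LinearMap.coe_comp, Function.comp_apply, ModuleCat.hom_add,
    LinearMap.add_apply] at e
  exact e

theorem fst_inl (p q : ℤ) (hpq : q + 1 = p) (x : X.X p) :
    (mappingCone.fst g).1.v q p hpq ((mappingCone.inl g).v p q (by omega) x) = x := by
  have e := ConcreteCategory.congr_hom (mappingCone.inl_v_fst_v g p q hpq) x
  simp only [ModuleCat.hom_comp, LinearMap.coe_comp, Function.comp_apply, ModuleCat.hom_id,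
    LinearMap.id_coe, id_eq] at e
  exact e

theorem fst_inr (p q : ℤ) (hpq : p + 1 = q) (y : Y.X p) :
    (mappingCone.fst g).1.v p q hpq ((mappingCone.inr g).f p y) = 0 := by
  have e := ConcreteCategory.congr_hom (mappingCone.inr_f_fst_v g p q hpq) y
  simp only [ModuleCat.hom_comp, LinearMap.coe_comp, Function.comp_apply, ModuleCat.hom_zero,
    LinearMap.zero_apply] at e
  exact e

theorem snd_inl (p q : ℤ) (hpq : p + (-1) = q) (x : X.X p) :
    (mappingCone.snd g).v q q (add_zero q) ((mappingCone.inl g).v p q hpq x) = 0 := by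
  have e := ConcreteCategory.congr_hom (mappingCone.inl_v_snd_v g p q hpq) x
  simp only [ModuleCat.hom_comp, LinearMap.coe_comp, Function.comp_apply, ModuleCat.hom_zero,
    LinearMap.zero_apply] at e
  exact e

theorem snd_inr (p : ℤ) (y : Y.X p) :
    (mappingCone.snd g).v p p (add_zero p) ((mappingCone.inr g).f p y) = y := by
  have e := ConcreteCategory.congr_hom (mappingCone.inr_f_snd_v g p) y
  simp only [ModuleCat.hom_comp, LinearMap.coe_comp, Function.comp_apply, ModuleCat.hom_id,
    LinearMap.id_coe, id_eq] at e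
  exact e

theorem inj_of_quasiIso [QuasiIso g] (n m k : ℤ) (hnm : n + 1 = m) (hmk : m + 1 = k)
    (x : X.X m) (hx : X.d m k x = 0) (y : Y.X n) (hy : g.f m x = Y.d n m y) :
    ∃ w : X.X n, X.d n m w = x := by
  have hac := (KFlat.acyclic_iff _).1 ((quasiIso_iff_acyclic_mappingCone g).1 inferInstance)
  set z : (mappingCone g).X n :=
    (mappingCone.inl g).v m n (by omega) x + (mappingCone.inr g).f n (-y) with hz
  have hf : (mappingCone.fst g).1.v n m hnm z = x := by
    rw [hz, map_add, fst_inl g m n hnm x, fst_inr g n m hnm, add_zero]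
  have hs : (mappingCone.snd g).v n n (add_zero n) z = -y := by
    rw [hz, map_add, snd_inl g m n (by omega) x, snd_inr g n, zero_add]
  have hdz : (mappingCone g).d n m z = 0 := by
    apply cone_ext g m k hmk
    · rw [fst_d g n m k hnm hmk z, hf, hx, neg_zero, map_zero]
    · rw [snd_d g n m hnm z, hf, hs, hy, map_neg, add_neg_cancel, map_zero]
  obtain ⟨z', hz'⟩ := hac (n - 1) n m (by omega) hnm z hdz
  refine ⟨-(mappingCone.fst g).1.v (n - 1) n (by omega) z', ?_⟩
  rw [map_neg, ← fst_d g (n - 1) n m (by omega) hnm z', hz', hf]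

theorem surj_of_quasiIso [QuasiIso g] (n m k : ℤ) (hnm : n + 1 = m) (hmk : m + 1 = k)
    (y : Y.X m) (hy : Y.d m k y = 0) :
    ∃ (x : X.X m) (w : Y.X n), X.d m k x = 0 ∧ y - g.f m x = Y.d n m w := by
  have hac := (KFlat.acyclic_iff _).1 ((quasiIso_iff_acyclic_mappingCone g).1 inferInstance)
  set z : (mappingCone g).X m := (mappingCone.inr g).f m y with hz
  have hf : (mappingCone.fst g).1.v m k hmk z = 0 := fst_inr g m k hmk y
  have hs : (mappingCone.snd g).v m m (add_zero m) z = y := snd_inr g m y
  have hdz : (mappingCone g).d m k z = 0 := by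
    apply cone_ext g k (k + 1) rfl
    · rw [fst_d g m k (k + 1) hmk rfl z, hf, map_zero, neg_zero, map_zero]
    · rw [snd_d g m k hmk z, hf, hs, hy, map_zero, add_zero, map_zero]
  obtain ⟨z', hz'⟩ := hac n m k hnm hmk z hdz
  refine ⟨(mappingCone.fst g).1.v n m hnm z', (mappingCone.snd g).v n n (add_zero n) z', ?_, ?_⟩
  · have := fst_d g n m k hnm hmk z'
    rw [hz', hf] at this
    exact neg_eq_zero.1 this.symm
  · have := snd_d g n m hnm z'
    rw [hz', hs] at this
    rw [this]
    abel

end Groth.Agent.Lib.Helper25.QisElem
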