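import Groth.Agent.S0499
import Groth.Agent.S0544
import Groth.Agent.Lib.Helper7.ProdLocal
import Mathlib.RingTheory.AdicCompletion.Exactness
import Mathlib.RingTheory.AdicCompletion.Noetherian
import Mathlib.RingTheory.Henselian
import Mathlib.RingTheory.Spectrum.Maximal.Localization
import Mathlib.RingTheory.Artinian.Ring

set_option autoImplicit false
universe u

namespace Groth.Agent.Lib.Helper25

open IsLocalRing

theorem isPrecomplete_of_surjective {R : Type*} [CommRing R] (I : Ideal R) {N M : Type*}
    [AddCommGroup N] [Module R N] [AddCommGroup M] [Module R M] (f : N →ₗ[R] M)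
    (hf : Function.Surjective f) [IsPrecomplete I N] : IsPrecomplete I M := by
  rw [← AdicCompletion.of_surjective_iff]
  intro y
  obtain ⟨z, hz⟩ := AdicCompletion.map_surjective I hf y
  obtain ⟨x, hx⟩ := AdicCompletion.of_surjective I N z
  exact ⟨f x, by rw [← AdicCompletion.map_of, hx, hz]⟩

theorem isPrecomplete_of_finite {R : Type u} [CommRing R] (I : Ideal R) [IsPrecomplete I R]
    (M : Type*) [AddCommGroup M] [Module R M] [Module.Finite R M] : IsPrecomplete I M := by
  classical
  obtain ⟨n, f, hf⟩ := Module.Finite.exists_fin' R M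
  haveI := Groth.Agent.S0544.isPrecomplete_pi I (ι := Fin n)
  exact isPrecomplete_of_surjective I f hf

theorem isPrecomplete_of_pow_le {T : Type*} [CommRing T] (J n : Ideal T) (hJn : J ≤ n) (c : ℕ)
    (hc : n ^ c ≤ J) [IsPrecomplete J T] : IsPrecomplete n T := by
  have hc' : n ^ (c + 1) ≤ J := (Ideal.pow_le_pow_right (Nat.le_succ c)).trans hc
  constructor
  intro f hf
  have hf' : ∀ {k l : ℕ}, k ≤ l → f k - f l ∈ n ^ k := by
    intro k l hkl
    have h1 := hf hkl
    rw [SModEq.sub_mem, smul_eq_mul, Ideal.mul_top] at h1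
    exact h1
  obtain ⟨L, hL⟩ := IsPrecomplete.prec' (I := J) (M := T) (fun k => f ((c + 1) * k)) (by
    intro k l hkl
    rw [SModEq.sub_mem, smul_eq_mul, Ideal.mul_top]
    have h1 : f ((c + 1) * k) - f ((c + 1) * l) ∈ n ^ ((c + 1) * k) :=
      hf' (Nat.mul_le_mul_left _ hkl)
    rw [pow_mul] at h1
    exact Ideal.pow_right_mono hc' k h1)
  refine ⟨L, fun k => ?_⟩
  rw [SModEq.sub_mem, smul_eq_mul, Ideal.mul_top]
  have h1 : f k - f ((c + 1) * k) ∈ n ^ k := hf' (by nlinarith)
  have h2 : f ((c + 1) * k) - L ∈ n ^ k := by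
    have h3 := hL k
    rw [SModEq.sub_mem, smul_eq_mul, Ideal.mul_top] at h3
    exact Ideal.pow_right_mono hJn k h3
  have h4 : f k - L = (f k - f ((c + 1) * k)) + (f ((c + 1) * k) - L) := by ring
  rw [h4]
  exact Ideal.add_mem _ h1 h2

/-- A local ring which is module-finite over a complete Noetherian local ring is complete. -/
theorem isAdicComplete_of_finite_of_isLocalRing (R : Type u) [CommRing R] [IsLocalRing R]
    [IsNoetherianRing R] [IsAdicComplete (maximalIdeal R) R] (T : Type u) [CommRing T]
    [IsLocalRing T] [Algebra R T] [Module.Finite R T] :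
    IsAdicComplete (maximalIdeal T) T := by
  have hTn : IsNoetherianRing T := IsNoetherianRing.of_finite R T
  have hH : IsHausdorff (maximalIdeal T) T := inferInstance
  have hle : Ideal.map (algebraMap R T) (maximalIdeal R) ≤ maximalIdeal T :=
    Groth.Agent.Lib.Helper7.map_le_of_isMaximal R _ (maximalIdeal_le_jacobson ⊥) T
      (maximalIdeal T)
  have hart : IsArtinianRing (T ⧸ Ideal.map (algebraMap R T) (maximalIdeal R)) :=
    Groth.Agent.Lib.Helper7.isArtinianRing_quot R T
  have hsurj := Ideal.Quotient.mk_surjective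
    (I := Ideal.map (algebraMap R T) (maximalIdeal R))
  have hjac : (maximalIdeal T).map
      (Ideal.Quotient.mk (Ideal.map (algebraMap R T) (maximalIdeal R))) ≤
      Ideal.jacobson ⊥ := by
    rw [Ideal.jacobson, le_sInf_iff]
    rintro M ⟨-, hM⟩
    rw [Ideal.map_le_iff_le_comap]
    have hcm : (M.comap (Ideal.Quotient.mk
        (Ideal.map (algebraMap R T) (maximalIdeal R)))).IsMaximal :=
      Ideal.comap_isMaximal_of_surjective _ hsurj
    rw [IsLocalRing.eq_maximalIdeal hcm]
  obtain ⟨c, hc⟩ := IsArtinianRing.isNilpotent_jacobson_bot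
    (R := T ⧸ Ideal.map (algebraMap R T) (maximalIdeal R))
  have hpow : maximalIdeal T ^ c ≤ Ideal.map (algebraMap R T) (maximalIdeal R) := by
    have h1 : (maximalIdeal T ^ c).map
        (Ideal.Quotient.mk (Ideal.map (algebraMap R T) (maximalIdeal R))) = ⊥ := by
      rw [Ideal.map_pow, eq_bot_iff, ← Ideal.zero_eq_bot, ← hc]
      exact Ideal.pow_right_mono hjac c
    rw [Ideal.map_eq_bot_iff_le_ker, Ideal.mk_ker] at h1
    exact h1
  have hpre1 : IsPrecomplete (maximalIdeal R) T := isPrecomplete_of_finite _ T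
  have hpre2 : IsPrecomplete (Ideal.map (algebraMap R T) (maximalIdeal R)) T :=
    IsPrecomplete.map_algebraMap_iff.mpr hpre1
  have hpre3 : IsPrecomplete (maximalIdeal T) T :=
    isPrecomplete_of_pow_le _ _ hle c hpow
  exact { toIsHausdorff := hH, toIsPrecomplete := hpre3 }

theorem finite_algebra_over_complete_local (R : Type u) [CommRing R]
    [IsLocalRing R] [IsNoetherianRing R] [IsAdicComplete (IsLocalRing.maximalIdeal R) R]
    (S : Type u) [CommRing S] [Algebra R S] [Module.Finite R S] :
    Finite (MaximalSpectrum S) ∧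
      Function.Bijective
        (algebraMap S ((m : MaximalSpectrum S) → Localization.AtPrime m.asIdeal)) ∧
      ∀ m : MaximalSpectrum S, IsNoetherianRing (Localization.AtPrime m.asIdeal) ∧
        IsAdicComplete (IsLocalRing.maximalIdeal (Localization.AtPrime m.asIdeal))
          (Localization.AtPrime m.asIdeal) := by
  classical
  have hH : HenselianRing R (maximalIdeal R) := inferInstance
  haveI : HenselianLocalRing R :=
    { is_henselian := fun f hf a₀ h1 h2 => hH.is_henselian f hf a₀ h1 (h2.map _) }
  obtain ⟨ι, hι, A, hA, hloc, ⟨e⟩⟩ := Groth.Agent.S0499.result R S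
  have hsurjPi := Groth.Agent.Lib.Helper7.toPiLocalization_pi_surjective A
  have hsurj : Function.Surjective (MaximalSpectrum.toPiLocalization S) := by
    have hnat := MaximalSpectrum.mapPiLocalization_naturality (e : S →+* ∀ i, A i) e.bijective
    have hbij := MaximalSpectrum.mapPiLocalization_bijective (e : S →+* ∀ i, A i) e.bijective
    intro y
    obtain ⟨x, hx⟩ := hsurjPi
      (MaximalSpectrum.mapPiLocalization (e : S →+* ∀ i, A i) e.bijective y)
    refine ⟨e.symm x, hbij.1 ?_⟩
    have h1 := RingHom.congr_fun hnat (e.symm x)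
    simp only [RingHom.coe_comp, Function.comp_apply, RingHom.coe_coe, AlgHom.toRingHom_eq_coe,
      RingEquiv.apply_symm_apply] at h1
    rw [h1, hx]
  have hSn : IsNoetherianRing S := IsNoetherianRing.of_finite R S
  refine ⟨MaximalSpectrum.finite_of_toPiLocalization_surjective hsurj,
    ⟨MaximalSpectrum.toPiLocalization_injective S, hsurj⟩, fun m => ?_⟩
  have hmsurj : Function.Surjective
      (IsScalarTower.toAlgHom R S (Localization.AtPrime m.asIdeal)).toLinearMap := by
    intro x
    obtain ⟨s, hs⟩ := hsurj (Pi.single m x)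
    refine ⟨s, ?_⟩
    have h1 := congrFun hs m
    rw [Pi.single_eq_same] at h1
    exact h1
  have hfin : Module.Finite R (Localization.AtPrime m.asIdeal) :=
    Module.Finite.of_surjective _ hmsurj
  exact ⟨IsLocalization.isNoetherianRing m.asIdeal.primeCompl _ hSn,
    isAdicComplete_of_finite_of_isLocalRing R _⟩

end Groth.Agent.Lib.Helper25
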