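import Groth.Agent.Lib.Helper25.LDerCx
import Groth.Agent.Lib.Helper25.KFlatQis
import Groth.Prelude.Def_DTen2

/-!
# The derived tensor product `DTen.LTen₂` is computed by K-flat complexes

* `isIso_ε_app_of_isKProjective` : the counit `ε_(P,P')` is an isomorphism for K-projective `P`, `P'`.
* `isIso_ε_app` : the counit `ε_(K,L) : QK ⊗^L QL ⟶ Q(K ⊗ L)` is an isomorphism as soon as `K` or `L`
  is K-flat.  Hence `DTen.KFlatComputes A` holds (`kflatComputes`).
* `isIso_ε₃_app_of_isKProjective` : the counit of the triple derived tensor product.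
-/

set_option autoImplicit false
universe u

open CategoryTheory CategoryTheory.Limits MonoidalCategory DerivedCategory

namespace Groth.Agent.Lib.Helper25.LTenCompute

attribute [local instance] HasDerivedCategory.standard

open Groth.Agent.Lib.Helper25.TensorCx Groth.Agent.Lib.Helper25.KFlat
open Groth.Agent.Lib.Helper25.LDerCx

variable {A : Type u} [CommRing A]

/-- The tensor product of two morphisms of complexes, homotopy invariance. -/
noncomputable def tensorHomotopy {K K' L L' : Cx A} {f g : K ⟶ K'} {f' g' : L ⟶ L'}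
    (h : Homotopy f g) (h' : Homotopy f' g') :
    Homotopy ((f ▷ L) ≫ (K' ◁ f')) ((g ▷ L) ≫ (K' ◁ g')) :=
  (whiskerRightHomotopy L h).comp (whiskerLeftHomotopy K' h')

theorem tensor₂_inverts : ((he A).prod (he A)).IsInvertedBy (DTen.tensor₂ A) := by
  apply inverts_of_homotopy₂
  intro X Y X' Y' f g f' g' h h'
  exact Q_map_eq_of_homotopy _ (tensorHomotopy h h')

theorem tensor₃_inverts :
    ((he A).prod ((he A).prod (he A))).IsInvertedBy (DTen.tensor₃ A) := by
  apply inverts_of_homotopy₃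
  intro X Y X' Y' X'' Y'' f g f' g' f'' g'' h h' h''
  exact Q_map_eq_of_homotopy _ (tensorHomotopy h (tensorHomotopy h' h''))

/-- The tensor product of K-flat complexes is K-flat. -/
theorem isKFlat_tensor {K L : Cx A} (hK : IsKFlat K) (hL : IsKFlat L) : IsKFlat (K ⊗ L : Cx A) :=
  fun M hM => acyclic_of_iso (α_ M K L) (hL _ (hK M hM))

/-- Every object of `D(A)` is the image of a K-projective, K-flat complex. -/
theorem exists_kproj_kflat (a : DerivedCategory (ModuleCat.{u} A)) :
    ∃ (P : Cx A), CochainComplex.IsKProjective P ∧ IsKFlat P ∧ Nonempty (Q.obj P ≅ a) := by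
  obtain ⟨P, π, hP, hπ, hPf, -, -⟩ :=
    Groth.Agent.Lib.Helper15.KProjRes.exists_kprojective_resolution (Q.objPreimage a)
  have : IsIso (Q.map π) := by rw [isIso_Q_map_iff_quasiIso]; exact hπ
  exact ⟨P, hP, hPf, ⟨asIso (Q.map π) ≪≫ Q.objObjPreimageIso a⟩⟩

section Two

variable [DTen.HasLTen A]

theorem isIso_ε_app_of_isKProjective (P P' : Cx A) [CochainComplex.IsKProjective P]
    [CochainComplex.IsKProjective P'] : IsIso ((DTen.ε A).app (P, P')) :=
  isIso_counit_app₂ tensor₂_inverts (DTen.LTen₂ A) (DTen.ε A) P P'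

/-- The counit `QK ⊗^L QL ⟶ Q(K ⊗ L)` is an isomorphism if `K` or `L` is K-flat. -/
theorem isIso_ε_app (K L : Cx A) (h : IsKFlat K ∨ IsKFlat L) : IsIso ((DTen.ε A).app (K, L)) := by
  obtain ⟨P, π, hP, hπ, hPf, -, -⟩ := Groth.Agent.Lib.Helper15.KProjRes.exists_kprojective_resolution K
  obtain ⟨P', π', hP', hπ', hPf', -, -⟩ :=
    Groth.Agent.Lib.Helper15.KProjRes.exists_kprojective_resolution L
  have h1 : IsIso ((DTen.ε A).app (P, P')) := isIso_ε_app_of_isKProjective P P'
  have nat := (DTen.ε A).naturality (Prod.mkHom π π' : (P, P') ⟶ (K, L))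
  have h2 : IsIso ((DTen.QQ A ⋙ DTen.LTen₂ A).map (Prod.mkHom π π' : (P, P') ⟶ (K, L))) := by
    have : IsIso ((DTen.QQ A).map (Prod.mkHom π π' : (P, P') ⟶ (K, L))) := by
      have e1 : IsIso (Q.map π) := by rw [isIso_Q_map_iff_quasiIso]; exact hπ
      have e2 : IsIso (Q.map π') := by rw [isIso_Q_map_iff_quasiIso]; exact hπ'
      exact (isIso_prod_iff (f := (DTen.QQ A).map (Prod.mkHom π π' : (P, P') ⟶ (K, L)))).2 ⟨e1, e2⟩
    dsimp only [Functor.comp_map]
    infer_instance
  have h3 : IsIso ((DTen.tensor₂ A).map (Prod.mkHom π π' : (P, P') ⟶ (K, L))) := by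
    change IsIso (Q.map ((π ▷ P') ≫ (K ◁ π')))
    rw [isIso_Q_map_iff_quasiIso]
    rcases h with hK | hL
    · have q1 : QuasiIso (π ▷ P') := quasiIso_whiskerRight_of_isKFlat P' hPf' π hπ
      have q2 : QuasiIso (K ◁ π') := quasiIso_whiskerLeft_of_isKFlat K hK π' hπ'
      infer_instance
    · rw [← MonoidalCategory.tensorHom_def, MonoidalCategory.tensorHom_def']
      have q1 : QuasiIso (P ◁ π') := quasiIso_whiskerLeft_of_isKFlat P hPf π' hπ'
      have q2 : QuasiIso (π ▷ L) := quasiIso_whiskerRight_of_isKFlat L hL π hπ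
      infer_instance
  have h4 : IsIso ((DTen.QQ A ⋙ DTen.LTen₂ A).map (Prod.mkHom π π' : (P, P') ⟶ (K, L)) ≫
      (DTen.ε A).app (K, L)) := by
    rw [nat]
    infer_instance
  exact IsIso.of_isIso_comp_left
    ((DTen.QQ A ⋙ DTen.LTen₂ A).map (Prod.mkHom π π' : (P, P') ⟶ (K, L))) _

/-- `DTen.KFlatComputes A` holds for every commutative ring. -/
instance kflatComputes : DTen.KFlatComputes A where
  isIso_counit K L h := isIso_ε_app K L h

end Two

section Three

variable [DTen.HasLTen₃ A]

theorem isIso_ε₃_app_of_isKProjective (P P' P'' : Cx A) [CochainComplex.IsKProjective P]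
    [CochainComplex.IsKProjective P'] [CochainComplex.IsKProjective P''] :
    IsIso ((DTen.ε₃ A).app (P, (P', P''))) :=
  isIso_counit_app₃ tensor₃_inverts (DTen.LTen₃ A) (DTen.ε₃ A) P P' P''

end Three

end Groth.Agent.Lib.Helper25.LTenCompute
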