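import Mathlib

/-!
# `A_f ⊗ A_g ≃ A_{fg}` as `A`-modules
-/

set_option autoImplicit false
universe u

namespace Groth.Agent.Lib.Helper25.AwayMul

open TensorProduct

variable {A : Type u} [CommRing A]

/-- `A_f ⊗_A A_g ≃ A_{fg}` -/
noncomputable def awayMulEquiv (f g : A) :
    (Localization.Away f) ⊗[A] (Localization.Away g) ≃ₗ[A] Localization.Away (f * g) := by
  let T := Localization.Away (algebraMap A (Localization.Away g) f)
  haveI hT : IsLocalization.Away (f * g) T := inferInstance
  haveI : IsLocalization (Algebra.algebraMapSubmonoid (Localization.Away g) (Submonoid.powers f)) T := by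
    have h : Algebra.algebraMapSubmonoid (Localization.Away g) (Submonoid.powers f) =
        Submonoid.powers (algebraMap A (Localization.Away g) f) := Submonoid.map_powers _ _
    rw [h]
    infer_instance
  haveI : IsLocalizedModule (Submonoid.powers f)
    (IsScalarTower.toAlgHom A (Localization.Away g) T).toLinearMap := inferInstance
  let e1 : (Localization.Away f) ⊗[A] (Localization.Away g) ≃ₗ[A] T :=
    IsLocalizedModule.linearEquiv (Submonoid.powers f)
      (TensorProduct.mk A (Localization.Away f) (Localization.Away g) 1)
      (IsScalarTower.toAlgHom A (Localization.Away g) T).toLinearMap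
  let e2 : T ≃ₐ[A] Localization.Away (f * g) :=
    IsLocalization.algEquiv (Submonoid.powers (f * g)) _ _
  exact e1.trans e2.toLinearEquiv

end Groth.Agent.Lib.Helper25.AwayMul
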