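import Mathlib

/-!
# M3 for S18636 (helper92's call): the Ext long exact sequence of `0 → V -a→ V → k → 0`
-/

set_option autoImplicit false
universe u

open CategoryTheory Abelian IsLocalRing

namespace Groth.Agent.Lib.Helper25.BassGrM3

section

variable {A : Type u} [CommRing A] [IsLocalRing A] (V N : Type u) [AddCommGroup V] [Module A V]
  [AddCommGroup N] [Module A N] (a : A) (π : V →ₗ[A] ResidueField A)

/-- the short complex `V -a→ V -π→ k` -/
noncomputable def sc (hker : ∀ v, π v = 0 ↔ ∃ w, v = a • w) : ShortComplex (ModuleCat.{u} A) :=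
  ShortComplex.mk (ModuleCat.ofHom (a • (LinearMap.id : V →ₗ[A] V))) (ModuleCat.ofHom π) (by
    ext v
    simp only [ModuleCat.hom_comp, ModuleCat.hom_ofHom, LinearMap.coe_comp, Function.comp_apply,
      LinearMap.smul_apply, LinearMap.id_coe, id_eq, ModuleCat.hom_zero, LinearMap.zero_apply]
    exact (hker _).2 ⟨v, rfl⟩)

theorem sc_shortExact (hπ : Function.Surjective π) (hker : ∀ v, π v = 0 ↔ ∃ w, v = a • w)
    (hinj : ∀ v : V, a • v = 0 → v = 0) : (sc V a π hker).ShortExact where
  exact := by
    rw [ShortComplex.moduleCat_exact_iff]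
    intro (x : V) hx
    obtain ⟨w, hw⟩ := (hker x).1 hx
    exact ⟨w, hw.symm⟩
  mono_f := by
    rw [ModuleCat.mono_iff_injective]
    intro (x : V) (y : V) hxy
    have h : a • (x - y) = 0 := by
      rw [smul_sub]
      exact sub_eq_zero.2 hxy
    exact sub_eq_zero.1 (hinj _ h)
  epi_g := by
    rw [ModuleCat.epi_iff_surjective]
    exact hπ

theorem sc_f_eq (hker : ∀ v, π v = 0 ↔ ∃ w, v = a • w) :
    (sc V a π hker).f = a • 𝟙 (ModuleCat.of A V) := by
  ext v
  rfl

end

theorem les_main {A : Type u} [CommRing A] [IsLocalRing A] (V N : Type u) [AddCommGroup V]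
    [Module A V] [AddCommGroup N] [Module A N] (a : A) (π : V →ₗ[A] ResidueField A)
    (hπ : Function.Surjective π) (hker : ∀ v, π v = 0 ↔ ∃ w, v = a • w)
    (hinj : ∀ v : V, a • v = 0 → v = 0) (s : ℕ → Type u)
    (e : ∀ n, Ext.{u} (ModuleCat.of A V) (ModuleCat.of A N) n ≃ₗ[A] (s n →₀ V)) :
    Subsingleton (Ext.{u} (ModuleCat.of A (ResidueField A)) (ModuleCat.of A N) 0) ∧
      ∀ n, Nonempty (Ext.{u} (ModuleCat.of A (ResidueField A)) (ModuleCat.of A N) (n + 1) ≃ₗ[A]
        (s n →₀ ResidueField A)) := by
  classical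
  let S := sc V a π hker
  have hS : S.ShortExact := sc_shortExact V a π hπ hker hinj
  let NN : ModuleCat.{u} A := ModuleCat.of A N
  -- precomposition with `f` is multiplication by `a`
  have hf : ∀ (n : ℕ) (y : Ext.{u} (ModuleCat.of A V) NN n),
      (Ext.mk₀ S.f).comp y (zero_add n) = a • y := by
    intro n y
    have h1 : S.f = a • 𝟙 (ModuleCat.of A V) := sc_f_eq V a π hker
    have h2 : (Ext.mk₀ (a • 𝟙 (ModuleCat.of A V))).comp y (zero_add n) = a • y := by
      rw [Ext.mk₀_smul, Ext.smul_comp, Ext.mk₀_id_comp]
    exact (congrArg (fun f => (Ext.mk₀ f).comp y (zero_add n)) h1).trans h2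
  -- multiplication by `a` is injective on `Ext(V, N)`
  have hainj : ∀ (n : ℕ) (y : Ext.{u} (ModuleCat.of A V) NN n), a • y = 0 → y = 0 := by
    intro n y hy
    have h1 : a • e n y = 0 := by rw [← map_smul, hy, map_zero]
    have h2 : e n y = 0 := by
      ext i
      have := congrArg (fun t => t i) h1
      simp only [Finsupp.smul_apply, Finsupp.zero_apply] at this
      simpa using hinj _ this
    exact (e n).injective (by rw [h2, map_zero])
  -- pullbacks along `g` vanish
  have hg : ∀ (n : ℕ) (x : Ext.{u} S.X₃ NN n), (Ext.mk₀ S.g).comp x (zero_add n) = 0 := by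
    intro n x
    have h0 : (Ext.mk₀ S.f).comp ((Ext.mk₀ S.g).comp x (zero_add n)) (zero_add n) = 0 := by
      rw [← Ext.comp_assoc_of_second_deg_zero, Ext.mk₀_comp_mk₀, S.zero, Ext.mk₀_zero,
        Ext.zero_comp]
    exact hainj n _ ((hf n _).symm.trans h0)
  refine ⟨?_, fun n => ?_⟩
  · refine ⟨fun x y => ?_⟩
    haveI : Epi S.g := hS.epi_g
    apply Ext.precomp_mk₀_injective_of_epi NN S.g
    change (Ext.mk₀ S.g).comp x (zero_add 0) = (Ext.mk₀ S.g).comp y (zero_add 0)
    rw [hg, hg]
  · -- the connecting map
    let δ : Ext.{u} S.X₁ NN n →ₗ[A] Ext.{u} S.X₃ NN (n + 1) :=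
      Ext.precompOfLinear hS.extClass A NN (show 1 + n = n + 1 by omega)
    have hδ : ∀ y, δ y = hS.extClass.comp y (show 1 + n = n + 1 by omega) := fun y => rfl
    have hδsurj : Function.Surjective δ := by
      intro x₃
      obtain ⟨x₁, hx₁⟩ := Ext.contravariant_sequence_exact₃ hS NN x₃ (hg _ x₃)
        (show 1 + n = n + 1 by omega)
      exact ⟨x₁, hx₁⟩
    -- the reduction map
    let Φ : Ext.{u} S.X₁ NN n →ₗ[A] (s n →₀ ResidueField A) :=
      (Finsupp.mapRange.linearMap π).comp (e n).toLinearMap
    have hΦsurj : Function.Surjective Φ := by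
      intro t
      obtain ⟨t', ht'⟩ := Finsupp.mapRange_surjective π (map_zero π) hπ t
      refine ⟨(e n).symm t', ?_⟩
      show Finsupp.mapRange π (map_zero π) ((e n) ((e n).symm t')) = t
      rw [LinearEquiv.apply_symm_apply]
      exact ht'
    have hker_eq : LinearMap.ker δ = LinearMap.ker Φ := by
      ext y
      simp only [LinearMap.mem_ker]
      constructor
      · intro hy
        rw [hδ] at hy
        obtain ⟨x₂, hx₂⟩ := Ext.contravariant_sequence_exact₁ hS NN y
          (show 1 + n = n + 1 by omega) hy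
        have hx₂' : a • x₂ = y := (hf n x₂).symm.trans hx₂
        subst hx₂'
        ext i
        show π ((e n (a • x₂)) i) = 0
        have h5 : (e n (a • x₂)) i = a • (e n x₂) i :=
          congrArg (fun t : s n →₀ V => t i) ((e n).map_smul a x₂)
        exact (hker _).2 ⟨_, h5⟩
      · intro hy
        -- every coordinate of `e y` is divisible by `a`
        have h1 : ∀ i, ∃ w, (e n y) i = a • w := by
          intro i
          have := congrArg (fun t => t i) hy
          simp only [Φ, LinearMap.coe_comp, LinearEquiv.coe_coe, Function.comp_apply,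
            Finsupp.mapRange.linearMap_apply, Finsupp.mapRange_apply, Finsupp.zero_apply] at this
          exact (hker _).1 this
        choose w hw using h1
        have hw0 : ∀ i, (e n y) i = 0 → w i = 0 := by
          intro i hi
          apply hinj
          rw [← hw i, hi]
        let W : s n →₀ V := Finsupp.onFinset (e n y).support w (by
          intro i hi
          rw [Finsupp.mem_support_iff]
          intro h0
          exact hi (hw0 i h0))
        have hW : e n y = a • W := by
          ext i
          simp only [Finsupp.smul_apply, W, Finsupp.onFinset_apply]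
          exact hw i
        have hy2 : y = a • (e n).symm W := by
          apply (e n).injective
          rw [map_smul, LinearEquiv.apply_symm_apply, hW]
        have h3 : y = (Ext.mk₀ S.f).comp ((e n).symm W) (zero_add n) := hy2.trans (hf n _).symm
        exact (congrArg δ h3).trans ((hδ _).trans (hS.extClass_comp_assoc _))
    exact ⟨(LinearMap.quotKerEquivOfSurjective δ hδsurj).symm.trans
      ((Submodule.quotEquivOfEq _ _ hker_eq).trans
        (LinearMap.quotKerEquivOfSurjective Φ hΦsurj))⟩

end Groth.Agent.Lib.Helper25.BassGrM3
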