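import Groth.Agent.Lib.Helper13.Beil.Defs

/-!
# F1 / F6 / F4 for helper13's S6770: `Pfin` is closed under isomorphisms, zero objects and
retracts (helper25)
-/

set_option autoImplicit false

universe w u u₁ v₁ u₂ v₂

open CategoryTheory CategoryTheory.Limits CategoryTheory.Pretriangulated Opposite
open Groth.Agent.Lib.Helper13.Beil Groth.Agent.Lib.Helper40.Cpt

namespace Groth.Agent.Lib.Helper25.BeilF1

/-- Pure module statement: an `A`-linear retract of a `k`-finite module is `k`-finite. -/
lemma finite_restrictScalars_of_leftInverse (k : Type u) [Field k] (A : Type u) [Ring A]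
    [Algebra k A] {M M' : Type u} [AddCommGroup M] [Module A M] [AddCommGroup M'] [Module A M']
    (g : M →ₗ[A] M') (s : M' →ₗ[A] M) (hsg : ∀ x, s (g x) = x)
    (h : Module.Finite k (RestrictScalars k A M')) : Module.Finite k (RestrictScalars k A M) := by
  let s' : RestrictScalars k A M' →ₗ[k] RestrictScalars k A M :=
    { toFun := fun x => s x
      map_add' := s.map_add
      map_smul' := fun c x => s.map_smul (algebraMap k A c) x }
  exact Module.Finite.of_surjective s' (fun x => ⟨g x, hsg x⟩)

variable (k : Type u) [Field k] (A : Type u) [Ring A] [Algebra k A]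
  [HasDerivedCategory.{w} (ModuleCat.{u} A)]

theorem pfin_retract {K L : DerivedCategory (ModuleCat.{u} A)} (r : Retract K L)
    (h : Pfin k A L) : Pfin k A K := by
  have hleft : ∀ (i : ℤ) x,
      ((DerivedCategory.homologyFunctor (ModuleCat.{u} A) i).map r.r).hom
        (((DerivedCategory.homologyFunctor (ModuleCat.{u} A) i).map r.i).hom x) = x := by
    intro i x
    have hcomp : (DerivedCategory.homologyFunctor (ModuleCat.{u} A) i).map r.i ≫
        (DerivedCategory.homologyFunctor (ModuleCat.{u} A) i).map r.r = 𝟙 _ := by
      rw [← CategoryTheory.Functor.map_comp, r.retract, CategoryTheory.Functor.map_id]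
    have := congrArg (fun f => f.hom x) hcomp
    simpa using this
  have hinj : ∀ i : ℤ, Function.Injective
      ((DerivedCategory.homologyFunctor (ModuleCat.{u} A) i).map r.i).hom := fun i =>
    Function.LeftInverse.injective (hleft i)
  refine ⟨fun i => ?_, ?_⟩
  · exact finite_restrictScalars_of_leftInverse k A _ _ (hleft i) (h.1 i)
  · refine h.2.subset ?_
    intro i hi
    have hi' : Nontrivial ((DerivedCategory.homologyFunctor (ModuleCat.{u} A) i).obj K) := hi
    exact (hinj i).nontrivial

theorem pfin_of_iso {K L : DerivedCategory (ModuleCat.{u} A)} (e : K ≅ L) (h : Pfin k A K) :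
    Pfin k A L :=
  pfin_retract k A ⟨e.inv, e.hom, e.inv_hom_id⟩ h

theorem pfin_zero (K : DerivedCategory (ModuleCat.{u} A)) (hK : IsZero K) : Pfin k A K := by
  have hz : ∀ i : ℤ, Subsingleton
      ((DerivedCategory.homologyFunctor (ModuleCat.{u} A) i).obj K) := fun i =>
    ModuleCat.subsingleton_of_isZero
      ((DerivedCategory.homologyFunctor (ModuleCat.{u} A) i).map_isZero hK)
  refine ⟨fun i => ?_, ?_⟩
  · have : Subsingleton (RestrictScalars k A
        ((DerivedCategory.homologyFunctor (ModuleCat.{u} A) i).obj K)) := hz i
    infer_instance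
  · have : {i : ℤ | Nontrivial ((DerivedCategory.homologyFunctor (ModuleCat.{u} A) i).obj K)} =
        ∅ := by
      ext i
      refine ⟨fun hi => ?_, fun hi => hi.elim⟩
      have hi' : Nontrivial ((DerivedCategory.homologyFunctor (ModuleCat.{u} A) i).obj K) := hi
      exact (not_nontrivial_iff_subsingleton.2 (hz i) hi').elim
    rw [this]
    exact Set.finite_empty

end Groth.Agent.Lib.Helper25.BeilF1
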