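import Groth.Agent.Lib.Helper13.Beil.Defs

/-!
# T1 for helper13's S6770: `FinAll` transfers along an additive equivalence (helper25)
-/

set_option autoImplicit false

universe w u u₁ v₁ u₂ v₂

open CategoryTheory CategoryTheory.Limits CategoryTheory.Pretriangulated Opposite
open Groth.Agent.Lib.Helper13.Beil Groth.Agent.Lib.Helper40.Cpt

namespace Groth.Agent.Lib.Helper25.BeilT1

theorem finAll_of_equivalence {D₁ : Type u₁} [Category.{v₁} D₁] [Preadditive D₁]
    {D₂ : Type u₂} [Category.{v₂} D₂] [Preadditive D₂] (E : D₁ ≌ D₂) [E.functor.Additive]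
    (K : D₁) (h : FinAll.{u} K) : FinAll.{u} (E.functor.obj K) := by
  intro J Y' c' hc' m
  have t : IsColimit (Cofan.mk c'.pt c'.inj) :=
    IsColimit.ofIsoColimit hc' (Cocone.ext (Iso.refl _) (fun j => by
      cases j
      simp [Cofan.inj]))
  have hc := isColimitCofanMkObjOfIsColimit E.inverse Y' c'.inj t
  obtain ⟨F, g, hg0, hg⟩ :=
    h J (fun j => E.inverse.obj (Y' j)) _ hc (E.unit.app K ≫ E.inverse.map m)
  refine ⟨F, fun i => E.functor.map (g i) ≫ E.counit.app (Y' i), fun i hi => ?_, ?_⟩
  · change E.functor.map (g i) ≫ E.counit.app (Y' i) = 0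
    rw [hg0 i hi, Functor.map_zero, zero_comp]
  · have hg' : E.unit.app K ≫ E.inverse.map m = ∑ i ∈ F, g i ≫ E.inverse.map (c'.inj i) := hg
    have h1 := congrArg (fun f => E.functor.map f ≫ E.counit.app c'.pt) hg'
    simp only [Functor.map_comp, Functor.map_sum, Preadditive.sum_comp, Category.assoc] at h1
    have h2 : E.functor.map (E.unit.app K) ≫ E.functor.map (E.inverse.map m) ≫
        E.counit.app c'.pt = m := by
      have := E.counit.naturality m
      simp only [Functor.comp_map, Functor.id_map] at this
      rw [this]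
      simp
    rw [h2] at h1
    rw [h1]
    refine Finset.sum_congr rfl fun i _ => ?_
    have := E.counit.naturality (c'.inj i)
    simp only [Functor.comp_map, Functor.id_map] at this
    rw [Category.assoc, ← this]

end Groth.Agent.Lib.Helper25.BeilT1
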