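import Groth.Prelude.Def_DRing4
import Mathlib.Algebra.Homology.HomotopyCategory.HomComplex

/-!
# Contravariant functoriality of `Hom•(-, K)` and homotopy invariance
-/

set_option autoImplicit false
universe u

namespace Groth.Agent.Lib.Helper25.HomCxPre

open CategoryTheory CategoryTheory.Limits HomologicalComplex CochainComplex
open CochainComplex.HomComplex

variable {A : Type u} [CommRing A]

/-- precomposition with `f` as a linear map on cochains -/
noncomputable def precompLin {P P' : DRing.Cx A} (f : P ⟶ P') (K : DRing.Cx A) (i : ℤ) :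
    Cochain P' K i →ₗ[A] Cochain P K i where
  toFun z := (Cochain.ofHom f).comp z (zero_add i)
  map_add' z z' := by simp
  map_smul' a z := by simp

/-- `Hom•(P', K) ⟶ Hom•(P, K)` induced by `f : P ⟶ P'`. -/
noncomputable def homCxPre {P P' : DRing.Cx A} (f : P ⟶ P') (K : DRing.Cx A) :
    DRing.homCx P' K ⟶ DRing.homCx P K where
  f i := ModuleCat.ofHom (precompLin f K i)
  comm' i j _ := by
    ext z
    change δ i j ((Cochain.ofHom f).comp z (zero_add i)) =
      (Cochain.ofHom f).comp (δ i j z) (zero_add j)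
    exact δ_ofHom_comp f z j

theorem homCxPre_f_apply {P P' : DRing.Cx A} (f : P ⟶ P') (K : DRing.Cx A) (i : ℤ)
    (z : Cochain P' K i) :
    (homCxPre f K).f i z = (Cochain.ofHom f).comp z (zero_add i) := rfl

theorem homCxPre_id (P K : DRing.Cx A) : homCxPre (𝟙 P) K = 𝟙 _ := by
  refine HomologicalComplex.hom_ext _ _ fun i => ModuleCat.hom_ext (LinearMap.ext fun
    (z : Cochain P K i) => ?_)
  exact Cochain.id_comp z

theorem homCxPre_comp {P P' P'' : DRing.Cx A} (f : P ⟶ P') (g : P' ⟶ P'') (K : DRing.Cx A) :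
    homCxPre (f ≫ g) K = homCxPre g K ≫ homCxPre f K := by
  refine HomologicalComplex.hom_ext _ _ fun i => ModuleCat.hom_ext (LinearMap.ext fun
    (z : Cochain P'' K i) => ?_)
  change (Cochain.ofHom (f ≫ g)).comp z (zero_add i) =
    (Cochain.ofHom f).comp ((Cochain.ofHom g).comp z (zero_add i)) (zero_add i)
  rw [Cochain.ofHom_comp]
  exact Cochain.comp_assoc_of_first_is_zero_cochain _ _ _ _

/-- the homotopy operator -/
noncomputable def htpyLin {P P' : DRing.Cx A} (φ : Cochain P P' (-1)) (K : DRing.Cx A) (i j : ℤ)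
    (hij : i + (-1) = j) : Cochain P' K i →ₗ[A] Cochain P K j where
  toFun z := i.negOnePow • φ.comp z (by omega)
  map_add' z z' := by simp
  map_smul' a z := by
    simp only [Cochain.comp_smul, RingHom.id_apply]
    rw [smul_comm]

/-- the homotopy cochain on `Hom•` complexes induced by a `(-1)`-cochain -/
noncomputable def htpyCochain {P P' : DRing.Cx A} (φ : Cochain P P' (-1)) (K : DRing.Cx A) :
    Cochain (DRing.homCx P' K) (DRing.homCx P K) (-1) :=
  Cochain.mk fun i j hij => ModuleCat.ofHom (htpyLin φ K i j hij)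

theorem htpyCochain_eq {P P' : DRing.Cx A} {f f' : P ⟶ P'} (φ : Cochain P P' (-1))
    (hφ : Cochain.ofHom f = δ (-1) 0 φ + Cochain.ofHom f') (K : DRing.Cx A) :
    Cochain.ofHom (homCxPre f K) = δ (-1) 0 (htpyCochain φ K) + Cochain.ofHom (homCxPre f' K) := by
  apply Cochain.ext₀
  intro n
  rw [Cochain.add_v, Cochain.ofHom_v, Cochain.ofHom_v,
    δ_v (-1) 0 (by omega) (htpyCochain φ K) n n (add_zero n) (n - 1) (n + 1) rfl rfl]
  refine ModuleCat.hom_ext (LinearMap.ext fun (z : Cochain P' K n) => ?_)
  change (Cochain.ofHom f).comp z (zero_add n) =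
    (δ (n - 1) n (n.negOnePow • φ.comp z (by omega)) +
      (Int.negOnePow 0) • ((n + 1).negOnePow • φ.comp (δ n (n + 1) z) (by omega))) +
      (Cochain.ofHom f').comp z (zero_add n)
  rw [hφ, Cochain.add_comp, δ_units_smul,
    δ_comp φ z (show -1 + n = n - 1 by omega) 0 (n + 1) n (by omega) (by omega) rfl]
  simp only [Int.negOnePow_zero, one_smul, smul_add, smul_smul, Int.negOnePow_succ, Units.neg_smul,
    ← Int.negOnePow_add, Int.negOnePow_even _ (Even.add_self n)]
  abel

/-- `Hom•(-, K)` sends homotopic maps to homotopic maps. -/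
noncomputable def homCxPreHomotopy {P P' : DRing.Cx A} {f f' : P ⟶ P'} (h : Homotopy f f')
    (K : DRing.Cx A) : Homotopy (homCxPre f K) (homCxPre f' K) :=
  (Cochain.equivHomotopy _ _).symm
    ⟨htpyCochain (Cochain.equivHomotopy f f' h).1 K,
      htpyCochain_eq _ (Cochain.equivHomotopy f f' h).2 K⟩

/-- `Hom•(-, K)` sends homotopy equivalences to homotopy equivalences. -/
noncomputable def homCxPreHomotopyEquiv {P P' : DRing.Cx A} (e : HomotopyEquiv P P')
    (K : DRing.Cx A) : HomotopyEquiv (DRing.homCx P' K) (DRing.homCx P K) where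
  hom := homCxPre e.hom K
  inv := homCxPre e.inv K
  homotopyHomInvId := by
    have h := homCxPreHomotopy e.homotopyInvHomId K
    rw [homCxPre_comp, homCxPre_id] at h
    exact h
  homotopyInvHomId := by
    have h := homCxPreHomotopy e.homotopyHomInvId K
    rw [homCxPre_comp, homCxPre_id] at h
    exact h

end Groth.Agent.Lib.Helper25.HomCxPre
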