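import Groth.Prelude.Def_DRing4
import Mathlib.Algebra.Homology.HomotopyCategory.HomComplex

/-!
# Homotopy invariance of `Hom•(E, -)`
-/

set_option autoImplicit false
universe u

namespace Groth.Agent.Lib.Helper25.HomCxPost

open CategoryTheory CategoryTheory.Limits HomologicalComplex CochainComplex
open CochainComplex.HomComplex

variable {A : Type u} [CommRing A]

theorem homCxMap_f_apply (E : DRing.Cx A) {L L' : DRing.Cx A} (f : L ⟶ L') (i : ℤ)
    (z : Cochain E L i) :
    (DRing.homCxMap E f).f i z = z.comp (Cochain.ofHom f) (add_zero i) := rfl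

/-- the homotopy operator -/
noncomputable def htpyLin (E : DRing.Cx A) {L L' : DRing.Cx A} (φ : Cochain L L' (-1)) (i j : ℤ)
    (hij : i + (-1) = j) : Cochain E L i →ₗ[A] Cochain E L' j where
  toFun z := z.comp φ hij
  map_add' z z' := by simp
  map_smul' a z := by simp

/-- the homotopy cochain on `Hom•` complexes induced by a `(-1)`-cochain -/
noncomputable def htpyCochain (E : DRing.Cx A) {L L' : DRing.Cx A} (φ : Cochain L L' (-1)) :
    Cochain (DRing.homCx E L) (DRing.homCx E L') (-1) :=
  Cochain.mk fun i j hij => ModuleCat.ofHom (htpyLin E φ i j hij)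

theorem htpyCochain_eq (E : DRing.Cx A) {L L' : DRing.Cx A} {f f' : L ⟶ L'}
    (φ : Cochain L L' (-1)) (hφ : Cochain.ofHom f = δ (-1) 0 φ + Cochain.ofHom f') :
    Cochain.ofHom (DRing.homCxMap E f) =
      δ (-1) 0 (htpyCochain E φ) + Cochain.ofHom (DRing.homCxMap E f') := by
  apply Cochain.ext₀
  intro n
  rw [Cochain.add_v, Cochain.ofHom_v, Cochain.ofHom_v,
    δ_v (-1) 0 (by omega) (htpyCochain E φ) n n (add_zero n) (n - 1) (n + 1) rfl rfl]
  refine ModuleCat.hom_ext (LinearMap.ext fun (z : Cochain E L n) => ?_)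
  change z.comp (Cochain.ofHom f) (add_zero n) =
    (δ (n - 1) n (z.comp φ (by omega)) +
      (Int.negOnePow 0) • ((δ n (n + 1) z).comp φ (by omega))) +
      z.comp (Cochain.ofHom f') (add_zero n)
  rw [hφ, Cochain.comp_add,
    δ_comp z φ (show n + -1 = n - 1 by omega) (n + 1) 0 n (by omega) rfl (by omega)]
  simp only [Int.negOnePow_zero, one_smul, Int.negOnePow_neg, Int.negOnePow_one, Units.neg_smul]
  abel

/-- `Hom•(E, -)` sends homotopic maps to homotopic maps. -/
noncomputable def homCxMapHomotopy (E : DRing.Cx A) {L L' : DRing.Cx A} {f f' : L ⟶ L'}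
    (h : Homotopy f f') : Homotopy (DRing.homCxMap E f) (DRing.homCxMap E f') :=
  (Cochain.equivHomotopy _ _).symm
    ⟨htpyCochain E (Cochain.equivHomotopy f f' h).1,
      htpyCochain_eq E _ (Cochain.equivHomotopy f f' h).2⟩

end Groth.Agent.Lib.Helper25.HomCxPost
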