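import Groth.Agent.Lib.Helper25.HomCxPre
import Groth.Agent.Lib.Helper25.HomCxPost

/-!
# `Hom•` and degreewise split short exact sequences

`Hom•(E, -)` and `Hom•(-, J)` send degreewise split short exact sequences of complexes to
degreewise split short exact sequences.
-/

set_option autoImplicit false
universe u

namespace Groth.Agent.Lib.Helper25.HomCxSplit

open CategoryTheory CategoryTheory.Limits HomologicalComplex CochainComplex
open CochainComplex.HomComplex
open Groth.Agent.Lib.Helper25.HomCxPre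

variable {A : Type u} [CommRing A]

/-- a degreewise splitting of a short complex of complexes -/
structure DSplit (S : ShortComplex (DRing.Cx A)) where
  /-- retraction -/
  r : ∀ q, S.X₂.X q ⟶ S.X₁.X q
  /-- section -/
  s : ∀ q, S.X₃.X q ⟶ S.X₂.X q
  f_r : ∀ q, S.f.f q ≫ r q = 𝟙 _
  s_g : ∀ q, s q ≫ S.g.f q = 𝟙 _
  id : ∀ q, r q ≫ S.f.f q + S.g.f q ≫ s q = 𝟙 _

instance (E : DRing.Cx A) : (DRing.homCxFunctor E).PreservesZeroMorphisms where
  map_zero X Y := by
    refine HomologicalComplex.hom_ext _ _ fun i => ModuleCat.hom_ext (LinearMap.ext fun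
      (z : Cochain E X i) => ?_)
    change z.comp (Cochain.ofHom (0 : X ⟶ Y)) (add_zero i) = 0
    rw [Cochain.ofHom_zero, Cochain.comp_zero]

section Post

variable (E : DRing.Cx A) {X Y Z : DRing.Cx A}

/-- postcomposition with a degreewise family of maps -/
noncomputable def post0Lin (a : ∀ q, X.X q ⟶ Y.X q) (n : ℤ) :
    Cochain E X n →ₗ[A] Cochain E Y n where
  toFun z := z.comp (Cochain.ofHoms a) (add_zero n)
  map_add' z z' := by simp
  map_smul' c z := by simp

/-- postcomposition with a degreewise family of maps -/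
noncomputable def post0 (a : ∀ q, X.X q ⟶ Y.X q) (n : ℤ) :
    (DRing.homCx E X).X n ⟶ (DRing.homCx E Y).X n :=
  ModuleCat.ofHom (post0Lin E a n)

theorem post0_comp (a : ∀ q, X.X q ⟶ Y.X q) (b : ∀ q, Y.X q ⟶ Z.X q) (n : ℤ) :
    post0 E (fun q => a q ≫ b q) n = post0 E a n ≫ post0 E b n := by
  refine ModuleCat.hom_ext (LinearMap.ext fun (z : Cochain E X n) => ?_)
  change z.comp (Cochain.ofHoms fun q => a q ≫ b q) (add_zero n) =
    (z.comp (Cochain.ofHoms a) (add_zero n)).comp (Cochain.ofHoms b) (add_zero n)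
  ext p q hpq
  simp

theorem post0_id (n : ℤ) : post0 E (fun q => 𝟙 (X.X q)) n = 𝟙 _ := by
  refine ModuleCat.hom_ext (LinearMap.ext fun (z : Cochain E X n) => ?_)
  change z.comp (Cochain.ofHoms fun q => 𝟙 (X.X q)) (add_zero n) = z
  ext p q hpq
  simp

theorem post0_add (a b : ∀ q, X.X q ⟶ Y.X q) (n : ℤ) :
    post0 E (fun q => a q + b q) n = post0 E a n + post0 E b n := by
  refine ModuleCat.hom_ext (LinearMap.ext fun (z : Cochain E X n) => ?_)
  change z.comp (Cochain.ofHoms fun q => a q + b q) (add_zero n) =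
    z.comp (Cochain.ofHoms a) (add_zero n) + z.comp (Cochain.ofHoms b) (add_zero n)
  ext p q hpq
  simp

theorem post0_hom (f : X ⟶ Y) (n : ℤ) :
    post0 E (fun q => f.f q) n = (DRing.homCxMap E f).f n := rfl

/-- `Hom•(E, -)` preserves degreewise splittings -/
noncomputable def dsplitHomCxMap (S : ShortComplex (DRing.Cx A)) (σ : DSplit S) :
    DSplit (S.map (DRing.homCxFunctor E)) where
  r n := post0 E σ.r n
  s n := post0 E σ.s n
  f_r n := by
    change (DRing.homCxMap E S.f).f n ≫ post0 E σ.r n = 𝟙 _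
    rw [← post0_hom, ← post0_comp]
    have h : (fun q => S.f.f q ≫ σ.r q) = fun q => 𝟙 (S.X₁.X q) := funext fun q => σ.f_r q
    rw [h, post0_id]
  s_g n := by
    change post0 E σ.s n ≫ (DRing.homCxMap E S.g).f n = 𝟙 _
    rw [← post0_hom, ← post0_comp]
    have h : (fun q => σ.s q ≫ S.g.f q) = fun q => 𝟙 (S.X₃.X q) := funext fun q => σ.s_g q
    rw [h, post0_id]
  id n := by
    change post0 E σ.r n ≫ (DRing.homCxMap E S.f).f n +
      (DRing.homCxMap E S.g).f n ≫ post0 E σ.s n = 𝟙 _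
    rw [← post0_hom, ← post0_hom, ← post0_comp, ← post0_comp, ← post0_add]
    have h : (fun q => σ.r q ≫ S.f.f q + S.g.f q ≫ σ.s q) = fun q => 𝟙 (S.X₂.X q) :=
      funext fun q => σ.id q
    rw [h, post0_id]

end Post

section Pre

variable {X Y Z : DRing.Cx A} (J : DRing.Cx A)

/-- precomposition with a degreewise family of maps -/
noncomputable def pre0Lin (a : ∀ q, X.X q ⟶ Y.X q) (n : ℤ) :
    Cochain Y J n →ₗ[A] Cochain X J n where
  toFun z := (Cochain.ofHoms a).comp z (zero_add n)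
  map_add' z z' := by simp
  map_smul' c z := by simp

/-- precomposition with a degreewise family of maps -/
noncomputable def pre0 (a : ∀ q, X.X q ⟶ Y.X q) (n : ℤ) :
    (DRing.homCx Y J).X n ⟶ (DRing.homCx X J).X n :=
  ModuleCat.ofHom (pre0Lin J a n)

theorem pre0_comp (a : ∀ q, X.X q ⟶ Y.X q) (b : ∀ q, Y.X q ⟶ Z.X q) (n : ℤ) :
    pre0 J (fun q => a q ≫ b q) n = pre0 J b n ≫ pre0 J a n := by
  refine ModuleCat.hom_ext (LinearMap.ext fun (z : Cochain Z J n) => ?_)
  change (Cochain.ofHoms fun q => a q ≫ b q).comp z (zero_add n) =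
    (Cochain.ofHoms a).comp ((Cochain.ofHoms b).comp z (zero_add n)) (zero_add n)
  ext p q hpq
  simp

theorem pre0_id (n : ℤ) : pre0 J (fun q => 𝟙 (X.X q)) n = 𝟙 _ := by
  refine ModuleCat.hom_ext (LinearMap.ext fun (z : Cochain X J n) => ?_)
  change (Cochain.ofHoms fun q => 𝟙 (X.X q)).comp z (zero_add n) = z
  ext p q hpq
  simp

theorem pre0_add (a b : ∀ q, X.X q ⟶ Y.X q) (n : ℤ) :
    pre0 J (fun q => a q + b q) n = pre0 J a n + pre0 J b n := by
  refine ModuleCat.hom_ext (LinearMap.ext fun (z : Cochain Y J n) => ?_)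
  change (Cochain.ofHoms fun q => a q + b q).comp z (zero_add n) =
    (Cochain.ofHoms a).comp z (zero_add n) + (Cochain.ofHoms b).comp z (zero_add n)
  ext p q hpq
  simp

theorem pre0_hom (f : X ⟶ Y) (n : ℤ) :
    pre0 J (fun q => f.f q) n = (homCxPre f J).f n := rfl

theorem homCxPre_zero (P P' : DRing.Cx A) : homCxPre (0 : P ⟶ P') J = 0 := by
  refine HomologicalComplex.hom_ext _ _ fun i => ModuleCat.hom_ext (LinearMap.ext fun
    (z : Cochain P' J i) => ?_)
  change (Cochain.ofHom (0 : P ⟶ P')).comp z (zero_add i) = 0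
  rw [Cochain.ofHom_zero, Cochain.zero_comp]

/-- the short complex `Hom•(X₃, J) ⟶ Hom•(X₂, J) ⟶ Hom•(X₁, J)` -/
noncomputable def preSC (S : ShortComplex (DRing.Cx A)) : ShortComplex (DRing.Cx A) :=
  ShortComplex.mk (homCxPre S.g J) (homCxPre S.f J) (by
    rw [← homCxPre_comp, S.zero, homCxPre_zero])

/-- `Hom•(-, J)` preserves degreewise splittings -/
noncomputable def dsplitPreSC (S : ShortComplex (DRing.Cx A)) (σ : DSplit S) :
    DSplit (preSC J S) where
  r n := pre0 J σ.s n
  s n := pre0 J σ.r n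
  f_r n := by
    change (homCxPre S.g J).f n ≫ pre0 J σ.s n = 𝟙 _
    rw [← pre0_hom, ← pre0_comp]
    have h : (fun q => σ.s q ≫ S.g.f q) = fun q => 𝟙 (S.X₃.X q) := funext fun q => σ.s_g q
    rw [h, pre0_id]
  s_g n := by
    change pre0 J σ.r n ≫ (homCxPre S.f J).f n = 𝟙 _
    rw [← pre0_hom, ← pre0_comp]
    have h : (fun q => S.f.f q ≫ σ.r q) = fun q => 𝟙 (S.X₁.X q) := funext fun q => σ.f_r q
    rw [h, pre0_id]
  id n := by
    change pre0 J σ.s n ≫ (homCxPre S.g J).f n + (homCxPre S.f J).f n ≫ pre0 J σ.r n = 𝟙 _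
    rw [← pre0_hom, ← pre0_hom, ← pre0_comp, ← pre0_comp, ← pre0_add]
    have h : (fun q => S.g.f q ≫ σ.s q + σ.r q ≫ S.f.f q) = fun q => 𝟙 (S.X₂.X q) :=
      funext fun q => by rw [add_comm]; exact σ.id q
    rw [h, pre0_id]

end Pre

/-- the Mathlib splitting in each degree -/
def DSplit.splitting {S : ShortComplex (DRing.Cx A)} (σ : DSplit S) (q : ℤ) :
    (S.map (eval _ _ q)).Splitting where
  r := σ.r q
  s := σ.s q
  f_r := σ.f_r q
  s_g := σ.s_g q
  id := σ.id q

theorem DSplit.shortExact {S : ShortComplex (DRing.Cx A)} (σ : DSplit S) : S.ShortExact :=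
  HomologicalComplex.shortExact_of_degreewise_shortExact S (fun q => (σ.splitting q).shortExact)

end Groth.Agent.Lib.Helper25.HomCxSplit
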