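import Groth.Agent.Lib.Helper25.TensorCx
import Mathlib.RingTheory.Flat.Equalizer
import Mathlib.Algebra.Homology.HomologicalComplexAbelian
import Mathlib.Algebra.Homology.HomologySequence
import Mathlib.Algebra.Homology.ShortComplex.ModuleCat

set_option autoImplicit false
universe u

namespace Groth.Agent.Lib.Helper25.KFlat

open CategoryTheory CategoryTheory.Limits MonoidalCategory HomologicalComplex
open Groth.Agent.Lib.Helper25.TensorCx

variable {R : Type u} [CommRing R]

/-- Acyclic complexes. -/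
def Acyclic (L : Cx R) : Prop := ∀ i : ℤ, IsZero (L.homology i)

/-- K-flat complexes. -/
def IsKFlat (K : Cx R) : Prop := ∀ L : Cx R, Acyclic L → Acyclic (L ⊗ K)

section TwoOfThree

variable {T : ShortComplex (Cx R)} (hT : T.ShortExact)
include hT

theorem acyclic_X₃ (h1 : Acyclic T.X₁) (h2 : Acyclic T.X₂) : Acyclic T.X₃ := by
  intro i
  exact (hT.homology_exact₃ i (i + 1) rfl).isZero_of_both_zeros ((h2 i).eq_of_src _ _)
    ((h1 (i + 1)).eq_of_tgt _ _)

theorem acyclic_X₂ (h1 : Acyclic T.X₁) (h3 : Acyclic T.X₃) : Acyclic T.X₂ := by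
  intro i
  exact (hT.homology_exact₂ i).isZero_of_both_zeros ((h1 i).eq_of_src _ _)
    ((h3 i).eq_of_tgt _ _)

theorem acyclic_X₁ (h2 : Acyclic T.X₂) (h3 : Acyclic T.X₃) : Acyclic T.X₁ := by
  intro i
  exact (hT.homology_exact₁ (i - 1) i (by simp)).isZero_of_both_zeros
    ((h3 (i - 1)).eq_of_src _ _) ((h2 i).eq_of_tgt _ _)

end TwoOfThree

section Whisker

variable (L : Cx R)

theorem whiskerLeft_zero' (K K' : Cx R) : (L ◁ (0 : K ⟶ K')) = 0 := by
  ext n : 1
  apply ModuleCat.hom_ext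
  apply lin_ext
  intro p q h l k
  have := whiskerLeft_tm L (0 : K ⟶ K') p q n h l k
  rw [this]
  simp only [HomologicalComplex.zero_f, ModuleCat.hom_zero, LinearMap.zero_apply]
  exact tm_zero_right L K' p q n h l

/-- The short complex obtained by tensoring on the left. -/
noncomputable def whiskerLeftShortComplex (S : ShortComplex (Cx R)) : ShortComplex (Cx R) :=
  ShortComplex.mk (L ◁ S.f) (L ◁ S.g) (by
    rw [← MonoidalCategory.whiskerLeft_comp, S.zero, whiskerLeft_zero'])

theorem shortExact_whiskerLeft (S : ShortComplex (Cx R)) (hS : S.ShortExact)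
    (h3 : ∀ i : ℤ, Module.Flat R (S.X₃.X i)) : (whiskerLeftShortComplex L S).ShortExact := by
  have hSq : ∀ q : ℤ, (S.map (eval _ _ q)).ShortExact := fun q => hS.map_of_exact _
  have hinj : ∀ q : ℤ, Function.Injective (S.f.f q).hom := fun q =>
    (hSq q).moduleCat_injective_f
  have hsurj : ∀ q : ℤ, Function.Surjective (S.g.f q).hom := fun q =>
    (hSq q).moduleCat_surjective_g
  have hex : ∀ q : ℤ, Function.Exact (S.f.f q).hom (S.g.f q).hom := fun q =>
    (ShortComplex.ShortExact.moduleCat_exact_iff_function_exact _).1 (hSq q).exact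
  apply shortExact_of_degreewise_shortExact
  intro n
  have hmono : Function.Injective ((L ◁ S.f).f n).hom := by
    intro x y hxy
    apply ext_comp
    intro p q h
    have h1 := comp_whiskerLeft L S.f p q n h x
    have h2 := comp_whiskerLeft L S.f p q n h y
    have hxy' : (L ◁ S.f).f n x = (L ◁ S.f).f n y := hxy
    rw [hxy'] at h1
    have := h3 q
    exact LinearMap.lTensor_injective_of_exact_of_flat (S.g.f q).hom (hsurj q) (S.f.f q).hom
      (hinj q) (hex q) (L.X p) (h1.symm.trans h2)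
  have hepi : Function.Surjective ((L ◁ S.g).f n).hom := by
    intro y
    induction y using tm_induction L S.X₃ with
    | zero => exact ⟨0, map_zero _⟩
    | add x y hx hy =>
      obtain ⟨x', rfl⟩ := hx
      obtain ⟨y', rfl⟩ := hy
      exact ⟨x' + y', map_add _ _ _⟩
    | tm' p q h l k =>
      obtain ⟨k', rfl⟩ := hsurj q k
      exact ⟨tm L S.X₂ p q n h l k', whiskerLeft_tm L S.g p q n h l k'⟩
  have hexact : ∀ y : (L ⊗ S.X₂ : Cx R).X n, (L ◁ S.g).f n y = 0 →
      ∃ x : (L ⊗ S.X₁ : Cx R).X n, (L ◁ S.f).f n x = y := by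
    intro y hy
    have hc : ∀ i : Idx n, ∃ t : TensorProduct R (L.X i.1.1) (S.X₁.X i.1.2),
        LinearMap.lTensor (L.X i.1.1) (S.f.f i.1.2).hom t = comp L S.X₂ i.1.1 i.1.2 n i.2 y := by
      intro i
      have h1 := comp_whiskerLeft L S.g i.1.1 i.1.2 n i.2 y
      rw [hy, map_zero] at h1
      exact (lTensor_exact (L.X i.1.1) (hex i.1.2) (hsurj i.1.2) _).1 h1.symm
    choose t ht using hc
    obtain ⟨s, hs⟩ := exists_finset_sum L S.X₂ y
    refine ⟨∑ i ∈ s, inc L S.X₁ i.1.1 i.1.2 n i.2 (t i), ?_⟩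
    rw [map_sum]
    conv_rhs => rw [hs]
    refine Finset.sum_congr rfl fun i _ => ?_
    rw [whiskerLeft_inc, ht]
  refine ShortComplex.ShortExact.mk' ?_ ?_ ?_
  · rw [ShortComplex.moduleCat_exact_iff]
    exact hexact
  · exact (ModuleCat.mono_iff_injective _).2 hmono
  · exact (ModuleCat.epi_iff_surjective _).2 hepi

end Whisker

theorem kflat_two_of_three (S : ShortComplex (Cx R)) (hS : S.ShortExact)
    (h3 : ∀ i : ℤ, Module.Flat R (S.X₃.X i)) :
    (IsKFlat S.X₁ → IsKFlat S.X₂ → IsKFlat S.X₃) ∧ (IsKFlat S.X₁ → IsKFlat S.X₃ → IsKFlat S.X₂) ∧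
      (IsKFlat S.X₂ → IsKFlat S.X₃ → IsKFlat S.X₁) := by
  refine ⟨fun h1 h2 L hL => ?_, fun h1 h3' L hL => ?_, fun h2 h3' L hL => ?_⟩
  · exact acyclic_X₃ (shortExact_whiskerLeft L S hS h3) (h1 L hL) (h2 L hL)
  · exact acyclic_X₂ (shortExact_whiskerLeft L S hS h3) (h1 L hL) (h3' L hL)
  · exact acyclic_X₁ (shortExact_whiskerLeft L S hS h3) (h2 L hL) (h3' L hL)

theorem acyclic_iff (L : Cx R) : Acyclic L ↔ ∀ (n₀ n₁ n₂ : ℤ) (_ : n₀ + 1 = n₁) (_ : n₁ + 1 = n₂)
    (z : L.X n₁), L.d n₁ n₂ z = 0 → ∃ w : L.X n₀, L.d n₀ n₁ w = z := by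
  constructor
  · intro h n₀ n₁ n₂ h01 h12 z hz
    have h1 : L.ExactAt n₁ := (L.exactAt_iff_isZero_homology n₁).2 (h n₁)
    rw [L.exactAt_iff' n₀ n₁ n₂ (by simp; omega) (by simp; omega)] at h1
    rw [ShortComplex.moduleCat_exact_iff] at h1
    exact h1 z hz
  · intro h i
    rw [← exactAt_iff_isZero_homology, L.exactAt_iff' (i - 1) i (i + 1) (by simp) (by simp),
      ShortComplex.moduleCat_exact_iff]
    exact fun z hz => h (i - 1) i (i + 1) (by omega) rfl z hz

theorem tensor_eq_zero_of_subsingleton_right {M N : Type*} [AddCommGroup M] [AddCommGroup N]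
    [Module R M] [Module R N] [Subsingleton N] (t : TensorProduct R M N) : t = 0 := by
  induction t using TensorProduct.induction_on with
  | zero => rfl
  | tmul m n => rw [Subsingleton.elim n 0, TensorProduct.tmul_zero]
  | add a b ha hb => rw [ha, hb, add_zero]

theorem tensor_eq_zero_of_subsingleton_left {M N : Type*} [AddCommGroup M] [AddCommGroup N]
    [Module R M] [Module R N] [Subsingleton M] (t : TensorProduct R M N) : t = 0 := by
  induction t using TensorProduct.induction_on with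
  | zero => rfl
  | tmul m n => rw [Subsingleton.elim m 0, TensorProduct.zero_tmul]
  | add a b ha hb => rw [ha, hb, add_zero]

theorem d_d_apply (L : Cx R) (n₀ n₁ n₂ : ℤ) (y : L.X n₀) : L.d n₁ n₂ (L.d n₀ n₁ y) = 0 := by
  have := congrArg (fun f => f y) (congrArg ModuleCat.Hom.hom (L.d_comp_d n₀ n₁ n₂))
  exact this

/-- Staircase lemma: if `K` is bounded above and every column `L ⊗ K^q` is exact, then the total
tensor complex is acyclic. -/
theorem acyclic_tensor_of_boundedAbove (L K : Cx R) (b : ℤ) (hb : ∀ q, b < q → IsZero (K.X q))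
    (hcol : ∀ (p₀ p₁ p₂ q : ℤ) (_ : p₀ + 1 = p₁) (_ : p₁ + 1 = p₂)
      (t : TensorProduct R (L.X p₁) (K.X q)),
      LinearMap.rTensor (K.X q) (L.d p₁ p₂).hom t = 0 →
        ∃ w : TensorProduct R (L.X p₀) (K.X q), LinearMap.rTensor (K.X q) (L.d p₀ p₁).hom w = t) :
    Acyclic (L ⊗ K : Cx R) := by
  rw [acyclic_iff]
  intro n₀ n₁ n₂ h01 h12
  have key : ∀ (k : ℕ) (a : ℤ), b + 1 ≤ a + k → ∀ z : (L ⊗ K : Cx R).X n₁,
      (L ⊗ K : Cx R).d n₁ n₂ z = 0 →
      (∀ (p q : ℤ) (h : p + q = n₁), q < a → comp L K p q n₁ h z = 0) →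
      ∃ w : (L ⊗ K : Cx R).X n₀, (L ⊗ K : Cx R).d n₀ n₁ w = z := by
    intro k
    induction k with
    | zero =>
      intro a ha z _ hsupp
      refine ⟨0, ?_⟩
      rw [map_zero]
      symm
      apply ext_comp
      intro p q h
      rw [map_zero]
      by_cases hq : q < a
      · exact hsupp p q h hq
      · have hz : IsZero (K.X q) := hb q (by omega)
        have := ModuleCat.subsingleton_of_isZero hz
        exact tensor_eq_zero_of_subsingleton_right _
    | succ k ih =>
      intro a ha z hz hsupp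
      obtain ⟨p, hp⟩ : ∃ p, p + a = n₁ := ⟨n₁ - a, by omega⟩
      have ht : LinearMap.rTensor (K.X a) (L.d p (p + 1)).hom (comp L K p a n₁ hp z) = 0 := by
        have h1 := comp_d L K p (p + 1) (a - 1) a n₁ n₂ rfl (by omega) h12 (by omega) z
        rw [hz, map_zero, hsupp (p + 1) (a - 1) (by omega) (by omega), map_zero, smul_zero,
          add_zero] at h1
        exact h1.symm
      obtain ⟨w₀, hw₀⟩ := hcol (p - 1) p (p + 1) a (by omega) rfl _ ht
      have hcyc : (L ⊗ K : Cx R).d n₁ n₂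
          (z - (L ⊗ K : Cx R).d n₀ n₁ (inc L K (p - 1) a n₀ (by omega) w₀)) = 0 := by
        rw [map_sub, hz, d_d_apply, sub_zero]
      obtain ⟨w', hw'⟩ := ih (a + 1) (by omega) _ hcyc (by
        intro p' q' h' hq'
        rw [map_sub]
        rw [comp_d L K (p' - 1) p' (q' - 1) q' n₀ n₁ (by omega) (by omega) h01 h']
        rw [comp_inc_ne L K p' (q' - 1) (p - 1) a n₀ (by omega) (by omega) (by omega)]
        rw [map_zero, smul_zero, add_zero]
        by_cases hqa : q' = a
        · subst hqa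
          have hpp : p' = p := by omega
          subst hpp
          rw [comp_inc_self, hw₀, sub_self]
        · rw [comp_inc_ne L K (p' - 1) q' (p - 1) a n₀ (by omega) (by omega) (by omega)]
          rw [map_zero, sub_zero]
          exact hsupp p' q' h' (by omega))
      refine ⟨w' + inc L K (p - 1) a n₀ (by omega) w₀, ?_⟩
      rw [map_add, hw']
      abel
  intro z hz
  obtain ⟨s, hs⟩ := exists_finset_sum L K z
  obtain ⟨a, ha⟩ := (s.image (fun i : Idx n₁ => i.1.2)).bddBelow
  have hsupp : ∀ (p q : ℤ) (h : p + q = n₁), q < a → comp L K p q n₁ h z = 0 := by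
    intro p q h hq
    have hnm : mkIdx p q n₁ h ∉ s := by
      intro hmem
      have := ha (Finset.mem_coe.2 (Finset.mem_image_of_mem (fun i : Idx n₁ => i.1.2) hmem))
      change a ≤ q at this
      omega
    rw [hs, comp_sum_inc, if_neg hnm]
    rfl
  exact key (b + 1 - a).toNat a (by have := Int.self_le_toNat (b + 1 - a); omega) z hz hsupp

theorem exact_of_acyclic (L : Cx R) (hL : Acyclic L) (p₀ p₁ p₂ : ℤ) (h01 : p₀ + 1 = p₁)
    (h12 : p₁ + 1 = p₂) : Function.Exact (L.d p₀ p₁).hom (L.d p₁ p₂).hom := by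
  intro y
  constructor
  · intro hy
    exact (acyclic_iff L).1 hL p₀ p₁ p₂ h01 h12 y hy
  · rintro ⟨w, rfl⟩
    exact d_d_apply L p₀ p₁ p₂ w

/-- A bounded above complex of flat modules is K-flat. -/
theorem isKFlat_of_boundedAbove_of_flat (P : Cx R) (b : ℤ) (hb : ∀ q, b < q → IsZero (P.X q))
    (hP : ∀ q, Module.Flat R (P.X q)) : IsKFlat P := by
  intro L hL
  apply acyclic_tensor_of_boundedAbove L P b hb
  intro p₀ p₁ p₂ q h01 h12 t ht
  have := hP q
  have hex := Module.Flat.rTensor_exact (P.X q) (exact_of_acyclic L hL p₀ p₁ p₂ h01 h12)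
  exact (hex t).1 ht

end Groth.Agent.Lib.Helper25.KFlat
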