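import Groth.Agent.Lib.Helper25.TrivDual
import Mathlib.CategoryTheory.Shift.Adjunction

/-!
# Trivial duality: semilinear adjunction bijection with shifts, and localizations (S8970)
-/

set_option autoImplicit false
universe u

open CategoryTheory CategoryTheory.Limits CategoryTheory.Pretriangulated DerivedCategory
open DRing

attribute [local instance] HasDerivedCategory.standard

namespace Groth.Agent.Lib.Helper25.TrivDual

section Semi

variable {A B : Type u} [CommRing A] [CommRing B] {φ : A →+* B}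
  (R : Dual.D A ⥤ Dual.D B) (adj : DRing.restrictD φ ⊣ R)

include adj in
/-- `Hom_{D(B)}(X, R(K)[i]) ≃ Hom_{D(A)}(X|_A, K[i])`, additive and semilinear. -/
theorem exists_semilinearEquiv (X : Dual.D B) (K : Dual.D A) (i : ℤ) :
    ∃ e : (X ⟶ (R.obj K)⟦i⟧) ≃+ ((DRing.restrictD φ).obj X ⟶ K⟦i⟧),
      ∀ (a : A) (f : X ⟶ (R.obj K)⟦i⟧), e (φ a • f) = a • e f := by
  let c : (R.obj K)⟦i⟧ ≅ R.obj (K⟦i⟧) := ((Adjunction.RightAdjointCommShift.iso adj i).app K).symm
  letI : Module A (X ⟶ R.obj (K⟦i⟧)) := Module.compHom _ φ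
  let e₂ := adjLinearEquiv R adj X (K⟦i⟧)
  refine ⟨{ toFun := fun f => e₂ (f ≫ c.hom)
            invFun := fun g => e₂.symm g ≫ c.inv
            left_inv := fun f => by simp
            right_inv := fun g => by simp
            map_add' := fun f g => by rw [Preadditive.add_comp, map_add] }, ?_⟩
  intro a f
  change e₂ ((φ a • f) ≫ c.hom) = a • e₂ (f ≫ c.hom)
  rw [Linear.smul_comp]
  exact e₂.map_smul a (f ≫ c.hom)

end Semi

section Loc

variable {A B : Type u} [CommRing A] [CommRing B] (φ : A →+* B)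

theorem nontrivial_localizedModule_iff (hφ : Function.Surjective φ)
    {M : Type*} [AddCommGroup M] [Module B M] {N : Type*} [AddCommGroup N] [Module A N]
    (e : M ≃+ N) (he : ∀ (a : A) (m : M), e (φ a • m) = a • e m) (q : Ideal B) [q.IsPrime] :
    Nontrivial (LocalizedModule q.primeCompl M) ↔
      Nontrivial (LocalizedModule (q.comap φ).primeCompl N) := by
  rw [← not_subsingleton_iff_nontrivial, ← not_subsingleton_iff_nontrivial,
    LocalizedModule.subsingleton_iff, LocalizedModule.subsingleton_iff]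
  apply not_congr
  constructor
  · intro h n
    obtain ⟨s, hs, hsm⟩ := h (e.symm n)
    obtain ⟨a, rfl⟩ := hφ s
    refine ⟨a, fun ha => hs (Ideal.mem_comap.1 ha), ?_⟩
    have := he a (e.symm n)
    rw [hsm, map_zero, AddEquiv.apply_symm_apply] at this
    exact this.symm
  · intro h m
    obtain ⟨a, ha, ham⟩ := h (e m)
    refine ⟨φ a, fun h' => ha (Ideal.mem_comap.2 h'), ?_⟩
    apply e.injective
    rw [he, ham, map_zero]

/-- `A/φ⁻¹(q) ≅ (B/q)|_A` for surjective `φ` -/
noncomputable def quotResIso (hφ : Function.Surjective φ) (q : Ideal B) :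
    ModuleCat.of A (A ⧸ q.comap φ) ≅
      (ModuleCat.restrictScalars.{u} φ).obj (ModuleCat.of B (B ⧸ q)) := by
  let f : A →ₗ[A] ↑((ModuleCat.restrictScalars.{u} φ).obj (ModuleCat.of B (B ⧸ q))) :=
    { toFun := fun a => (Ideal.Quotient.mk q (φ a) : B ⧸ q)
      map_add' := fun a b => by
        rw [map_add, map_add]
        rfl
      map_smul' := fun a x => by
        change Ideal.Quotient.mk q (φ (a * x)) = φ a • (Ideal.Quotient.mk q (φ x) : B ⧸ q)
        rw [map_mul, map_mul]
        rfl }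
  have hf : Function.Surjective f := by
    intro y
    obtain ⟨b, rfl⟩ := Ideal.Quotient.mk_surjective (y : B ⧸ q)
    obtain ⟨a, rfl⟩ := hφ b
    exact ⟨a, rfl⟩
  have hk : LinearMap.ker f = (q.comap φ : Submodule A A) := by
    ext a
    rw [LinearMap.mem_ker]
    change Ideal.Quotient.mk q (φ a) = 0 ↔ a ∈ q.comap φ
    rw [Ideal.Quotient.eq_zero_iff_mem, Ideal.mem_comap]
  exact LinearEquiv.toModuleIso
    ((Submodule.quotEquivOfEq _ _ hk.symm).trans (LinearMap.quotKerEquivOfSurjective f hf))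

end Loc

/-- S8970 -/
theorem aux8970 (A B : Type u) [CommRing A] [CommRing B] [Algebra A B]
    (hs : Function.Surjective (algebraMap A B)) (R : Dual.D A ⥤ Dual.D B)
    (adj : DRing.restrictD (algebraMap A B) ⊣ R) (ω : Dual.D A) (q : PrimeSpectrum B) (i : ℤ) :
    Nontrivial (LocalizedModule q.asIdeal.primeCompl
        (Dual.inD B (B ⧸ q.asIdeal) ⟶ (R.obj ω)⟦i⟧)) ↔
      Nontrivial (LocalizedModule (q.asIdeal.comap (algebraMap A B)).primeCompl
        (Dual.inD A (A ⧸ q.asIdeal.comap (algebraMap A B)) ⟶ ω⟦i⟧)) := by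
  obtain ⟨e, he⟩ := exists_semilinearEquiv R adj (Dual.inD B (B ⧸ q.asIdeal)) ω i
  let j : (DRing.restrictD (algebraMap A B)).obj (Dual.inD B (B ⧸ q.asIdeal)) ≅
      Dual.inD A (A ⧸ q.asIdeal.comap (algebraMap A B)) :=
    ((ModuleCat.restrictScalars.{u} (algebraMap A B)).mapDerivedCategorySingleFunctor 0).app
        (ModuleCat.of B (B ⧸ q.asIdeal)) ≪≫
      (DerivedCategory.singleFunctor (ModuleCat.{u} A) 0).mapIso
        (quotResIso (algebraMap A B) hs q.asIdeal).symm
  let l := Linear.homCongr A j (Iso.refl (ω⟦i⟧))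
  exact nontrivial_localizedModule_iff (algebraMap A B) hs (e.trans l.toAddEquiv)
    (fun a m => by
      change l (e (algebraMap A B a • m)) = a • l (e m)
      rw [he, map_smul]) q.asIdeal

end Groth.Agent.Lib.Helper25.TrivDual
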