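import Groth.Agent.Lib.Helper25.QisElem
import Groth.Prelude.Def_DRing4
import Mathlib.Algebra.Homology.DerivedCategory.KProjective

/-!
# `Hom•(P, -)` preserves quasi-isomorphisms for K-projective `P`
-/

set_option autoImplicit false
universe u

namespace Groth.Agent.Lib.Helper25.HomCxQis

open CategoryTheory CategoryTheory.Limits HomologicalComplex CochainComplex
open CochainComplex.HomComplex

attribute [local instance] HasDerivedCategory.standard

variable {A : Type u} [CommRing A]

/-- Postcomposition with a morphism of `K(A)` inverted in `D(A)` is bijective on maps from a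
K-projective complex. -/
theorem comp_bijective (P : DRing.Cx A) [P.IsKProjective]
    {X X' : HomotopyCategory (ModuleCat.{u} A) (ComplexShape.up ℤ)} (φ : X ⟶ X')
    (hφ : IsIso (DerivedCategory.Qh.map φ)) :
    Function.Bijective
      (fun a : (HomotopyCategory.quotient _ _).obj P ⟶ X => a ≫ φ) := by
  constructor
  · intro a b hab
    apply (CochainComplex.IsKProjective.Qh_map_bijective P X).injective
    have := congrArg (fun t => DerivedCategory.Qh.map t) hab
    simp only [Functor.map_comp] at this
    exact (cancel_mono (DerivedCategory.Qh.map φ)).1 this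
  · intro c
    obtain ⟨a, ha⟩ := (CochainComplex.IsKProjective.Qh_map_bijective P X).surjective
      (DerivedCategory.Qh.map c ≫ inv (DerivedCategory.Qh.map φ))
    refine ⟨a, ?_⟩
    apply (CochainComplex.IsKProjective.Qh_map_bijective P X').injective
    simp only [Functor.map_comp, ha, Category.assoc, IsIso.inv_hom_id, Category.comp_id]

theorem isIso_Qh_shift {L L' : DRing.Cx A} (f : L ⟶ L') [QuasiIso f] (n : ℤ) :
    IsIso (DerivedCategory.Qh.map ((HomotopyCategory.quotient _ _).map (f⟦n⟧'))) := by
  have : QuasiIso (f⟦n⟧') := inferInstance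
  exact (DerivedCategory.isIso_Q_map_iff_quasiIso (φ := f⟦n⟧')).2 this

theorem quasiIso_homCxMap (P : DRing.Cx A) [P.IsKProjective] {L L' : DRing.Cx A} (f : L ⟶ L')
    [QuasiIso f] : QuasiIso (DRing.homCxMap P f) := by
  apply QisElem.quasiIso_of_elementwise
  · intro n m k hnm hmk x hx y hy
    change Cochain P L m at x
    change Cochain P L' n at y
    change δ m k x = 0 at hx
    change x.comp (Cochain.ofHom f) (add_zero m) = δ n m y at hy
    change ∃ w : Cochain P L n, δ n m w = x
    let xc : Cocycle P L m := Cocycle.mk x k hmk hx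
    have hcob : xc.postcomp f ∈ coboundaries P L' m :=
      (mem_coboundaries_iff _ n hnm).2 ⟨y, hy.symm⟩
    have h0 : CohomologyClass.toHom (CohomologyClass.mk (xc.postcomp f)) = 0 :=
      (CohomologyClass.toHom_mk_eq_zero_iff _).2 hcob
    rw [CohomologyClass.toHom_mk, Cocycle.equivHomShift_symm_postcomp, Functor.map_comp] at h0
    have h1 : (HomotopyCategory.quotient _ _).map (Cocycle.equivHomShift.symm xc) = 0 := by
      apply (comp_bijective P _ (isIso_Qh_shift f m)).injective
      simp only [zero_comp]
      exact h0
    have h2 : xc ∈ coboundaries P L m := by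
      rw [← CohomologyClass.toHom_mk_eq_zero_iff, CohomologyClass.toHom_mk]
      exact h1
    obtain ⟨w, hw⟩ := (mem_coboundaries_iff _ n hnm).1 h2
    exact ⟨w, hw⟩
  · intro n m k hnm hmk y hy
    change Cochain P L' m at y
    change δ m k y = 0 at hy
    change ∃ (x : Cochain P L m) (w : Cochain P L' n), δ m k x = 0 ∧
      y - x.comp (Cochain.ofHom f) (add_zero m) = δ n m w
    let yc : Cocycle P L' m := Cocycle.mk y k hmk hy
    obtain ⟨φ, hφ⟩ := (comp_bijective P _ (isIso_Qh_shift f m)).surjective
      (CohomologyClass.toHom (CohomologyClass.mk yc))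
    obtain ⟨φ', rfl⟩ := (HomotopyCategory.quotient _ _).map_surjective φ
    let xc : Cocycle P L m := Cocycle.equivHomShift φ'
    have h1 : CohomologyClass.toHom (CohomologyClass.mk (yc - xc.postcomp f)) = 0 := by
      rw [CohomologyClass.mk_sub, map_sub, CohomologyClass.toHom_mk (xc.postcomp f),
        Cocycle.equivHomShift_symm_postcomp, Functor.map_comp, AddEquiv.symm_apply_apply]
      rw [sub_eq_zero]
      exact hφ.symm
    have h2 := (CohomologyClass.toHom_mk_eq_zero_iff _).1 h1
    obtain ⟨w, hw⟩ := (mem_coboundaries_iff _ n hnm).1 h2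
    refine ⟨xc.1, w, Cocycle.δ_eq_zero xc k, ?_⟩
    rw [hw]
    rfl

end Groth.Agent.Lib.Helper25.HomCxQis
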