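import Groth.Agent.Lib.Helper25.KanDescend
import Groth.Agent.Lib.Helper15.KProjRes

/-!
# Left derived functors on complexes are computed on K-projective complexes

For a functor `F` from complexes (resp. pairs, triples of complexes) of modules to `D(B)` which
identifies homotopic maps, the counit of any left derived functor of `F` with respect to
quasi-isomorphisms (along `Q`, resp. `Q × Q`, `Q × (Q × Q)`) is an isomorphism at K-projective
complexes (resp. pairs, triples of K-projective complexes).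
-/

set_option autoImplicit false
universe u

open CategoryTheory CategoryTheory.Limits DerivedCategory

namespace Groth.Agent.Lib.Helper25.LDerCx

attribute [local instance] HasDerivedCategory.standard

open Groth.Agent.Lib.Helper25.TensorCx

/-- homotopy equivalences -/
abbrev he (A : Type u) [CommRing A] : MorphismProperty (Cx A) :=
  HomologicalComplex.homotopyEquivalences (ModuleCat.{u} A) (ComplexShape.up ℤ)

/-- quasi-isomorphisms of complexes -/
abbrev qis (A : Type u) [CommRing A] : MorphismProperty (Cx A) :=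
  HomologicalComplex.quasiIso (ModuleCat.{u} A) (ComplexShape.up ℤ)

/-- the homotopy category -/
abbrev KA (A : Type u) [CommRing A] := HomotopyCategory (ModuleCat.{u} A) (ComplexShape.up ℤ)

/-- quasi-isomorphisms in the homotopy category -/
abbrev qisK (A : Type u) [CommRing A] : MorphismProperty (KA A) :=
  HomotopyCategory.quasiIso (ModuleCat.{u} A) (ComplexShape.up ℤ)

/-- the quotient functor -/
abbrev quot (A : Type u) [CommRing A] : Cx A ⥤ KA A := HomotopyCategory.quotient _ _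

section General

variable {C₀ : Type*} [Category C₀] {C₁ : Type*} [Category.{u} C₁]
  {D : Type*} [Category D] {B : Type u} [Ring B]
  (q : C₀ ⥤ C₁) (W₀ : MorphismProperty C₀) [q.IsLocalization W₀]
  {L₁ : C₁ ⥤ D} (W₁ : MorphismProperty C₁) [L₁.IsLocalization W₁]
  {L : C₀ ⥤ D} (eL : q ⋙ L₁ ≅ L)
  {F : C₀ ⥤ DerivedCategory (ModuleCat.{u} B)} (hF : W₀.IsInvertedBy F)
  (LF : D ⥤ DerivedCategory (ModuleCat.{u} B)) (α : L ⋙ LF ⟶ F) [LF.IsRightKanExtension α]

include W₀ W₁ hF eL in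
theorem isIso_counit_app (P : C₀)
    (hP : ∀ ⦃X Y : C₁⦄ (s : X ⟶ Y), W₁ s → Function.Bijective (fun g : q.obj P ⟶ X => g ≫ s)) :
    IsIso (α.app P) := by
  rw [DerivedCategory.isIso_iff]
  intro n
  have h := KanDescend.bijective_map_counit_app q W₀ W₁ eL hF LF α
    (Groth.Agent.Lib.Helper54.LDerived.adj B n) P hP
  have h' : IsIso ((forget (ModuleCat.{u} B)).map
      ((homologyFunctor (ModuleCat.{u} B) n).map (α.app P))) := (isIso_iff_bijective _).2 h
  exact isIso_of_reflects_iso _ (forget (ModuleCat.{u} B))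

end General

section One

variable {A : Type u} [CommRing A] {B : Type u} [Ring B]
  {F : Cx A ⥤ DerivedCategory (ModuleCat.{u} B)}

theorem inverts_of_homotopy
    (hF : ∀ ⦃X Y : Cx A⦄ (f g : X ⟶ Y), Homotopy f g → F.map f = F.map g) :
    (he A).IsInvertedBy F := by
  rintro X Y f ⟨e, rfl⟩
  refine ⟨F.map e.inv, ?_, ?_⟩
  · rw [← F.map_comp, hF _ _ e.homotopyHomInvId, F.map_id]
  · rw [← F.map_comp, hF _ _ e.homotopyInvHomId, F.map_id]

variable (hF : (he A).IsInvertedBy F)
  (LF : DerivedCategory (ModuleCat.{u} A) ⥤ DerivedCategory (ModuleCat.{u} B))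
  (α : Q ⋙ LF ⟶ F) [LF.IsLeftDerivedFunctor α (qis A)]

include hF in
/-- One variable: the counit is an isomorphism at K-projective complexes. -/
theorem isIso_counit_app₁ (P : Cx A) [CochainComplex.IsKProjective P] : IsIso (α.app P) := by
  have : LF.IsRightKanExtension α := Functor.IsLeftDerivedFunctor.isRightKanExtension (W := qis A) LF α
  exact isIso_counit_app (quot A) (he A) (qisK A) (quotientCompQhIso (ModuleCat.{u} A)) hF LF α P
    (Groth.Agent.Lib.Helper54.LDerived.bijective_comp_of_isKProjective P)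

end One

section Prod

variable {C₁ C₂ : Type*} [Category C₁] [Category C₂]

/-- Bijectivity of composition in a product category. -/
theorem bijective_comp_prod {P₁ X₁ Y₁ : C₁} {P₂ X₂ Y₂ : C₂} (s₁ : X₁ ⟶ Y₁) (s₂ : X₂ ⟶ Y₂)
    (h₁ : Function.Bijective (fun g : P₁ ⟶ X₁ => g ≫ s₁))
    (h₂ : Function.Bijective (fun g : P₂ ⟶ X₂ => g ≫ s₂)) :
    Function.Bijective (fun g : ((P₁, P₂) : C₁ × C₂) ⟶ (X₁, X₂) =>
      g ≫ (show ((X₁, X₂) : C₁ × C₂) ⟶ (Y₁, Y₂) from Prod.mkHom s₁ s₂)) := by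
  constructor
  · intro g g' h
    have e1 : g.1 ≫ s₁ = g'.1 ≫ s₁ := congrArg (fun φ : ((P₁, P₂) : C₁ × C₂) ⟶ (Y₁, Y₂) => φ.1) h
    have e2 : g.2 ≫ s₂ = g'.2 ≫ s₂ := congrArg (fun φ : ((P₁, P₂) : C₁ × C₂) ⟶ (Y₁, Y₂) => φ.2) h
    apply Prod.ext
    · exact h₁.1 e1
    · exact h₂.1 e2
  · intro g
    obtain ⟨a, ha⟩ := h₁.2 g.1
    obtain ⟨b, hb⟩ := h₂.2 g.2
    refine ⟨Prod.mkHom a b, ?_⟩
    apply Prod.ext
    · exact ha
    · exact hb

end Prod

section Two

variable {A A' : Type u} [CommRing A] [CommRing A'] {B : Type u} [Ring B]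
  {F : Cx A × Cx A' ⥤ DerivedCategory (ModuleCat.{u} B)}

theorem inverts_of_homotopy₂
    (hF : ∀ ⦃X Y : Cx A⦄ ⦃X' Y' : Cx A'⦄ (f g : X ⟶ Y) (f' g' : X' ⟶ Y'), Homotopy f g →
      Homotopy f' g' → F.map (Prod.mkHom f f' : (X, X') ⟶ (Y, Y')) =
        F.map (Prod.mkHom g g' : (X, X') ⟶ (Y, Y'))) :
    ((he A).prod (he A')).IsInvertedBy F := by
  rintro ⟨X, X'⟩ ⟨Y, Y'⟩ ⟨f, f'⟩ ⟨⟨e, he⟩, ⟨e', he'⟩⟩
  dsimp at f f' e e' he he'
  subst he he'
  refine ⟨F.map (Prod.mkHom e.inv e'.inv : (Y, Y') ⟶ (X, X')), ?_, ?_⟩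
  · rw [← F.map_comp]
    have := hF _ _ _ _ e.homotopyHomInvId e'.homotopyHomInvId
    rw [← F.map_id]
    exact this
  · rw [← F.map_comp]
    have := hF _ _ _ _ e.homotopyInvHomId e'.homotopyInvHomId
    rw [← F.map_id]
    exact this

variable (hF : ((he A).prod (he A')).IsInvertedBy F)
  (LF : DerivedCategory (ModuleCat.{u} A) × DerivedCategory (ModuleCat.{u} A') ⥤
    DerivedCategory (ModuleCat.{u} B))
  (α : (Q.prod Q) ⋙ LF ⟶ F) [LF.IsLeftDerivedFunctor α ((qis A).prod (qis A'))]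

include hF in
/-- Two variables: the counit is an isomorphism at pairs of K-projective complexes. -/
theorem isIso_counit_app₂ (P : Cx A) (P' : Cx A') [CochainComplex.IsKProjective P]
    [CochainComplex.IsKProjective P'] : IsIso (α.app (P, P')) := by
  have : LF.IsRightKanExtension α :=
    Functor.IsLeftDerivedFunctor.isRightKanExtension (W := (qis A).prod (qis A')) LF α
  refine isIso_counit_app ((quot A).prod (quot A')) ((he A).prod (he A'))
    (L₁ := (Qh (C := ModuleCat.{u} A)).prod (Qh (C := ModuleCat.{u} A')))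
    ((qisK A).prod (qisK A'))
    (show (quot A).prod (quot A') ⋙ (Qh.prod Qh) ≅ Q.prod Q from
      NatIso.prod (quotientCompQhIso (ModuleCat.{u} A)) (quotientCompQhIso (ModuleCat.{u} A')))
    hF LF α (P, P') ?_
  rintro ⟨X, X'⟩ ⟨Y, Y'⟩ ⟨s, s'⟩ ⟨hs, hs'⟩
  exact bijective_comp_prod s s'
    (Groth.Agent.Lib.Helper54.LDerived.bijective_comp_of_isKProjective P s hs)
    (Groth.Agent.Lib.Helper54.LDerived.bijective_comp_of_isKProjective P' s' hs')

end Two

section Three

variable {A A' A'' : Type u} [CommRing A] [CommRing A'] [CommRing A''] {B : Type u} [Ring B]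
  {F : Cx A × (Cx A' × Cx A'') ⥤ DerivedCategory (ModuleCat.{u} B)}

theorem inverts_of_homotopy₃
    (hF : ∀ ⦃X Y : Cx A⦄ ⦃X' Y' : Cx A'⦄ ⦃X'' Y'' : Cx A''⦄ (f g : X ⟶ Y) (f' g' : X' ⟶ Y')
      (f'' g'' : X'' ⟶ Y''), Homotopy f g → Homotopy f' g' → Homotopy f'' g'' →
      F.map (Prod.mkHom f (Prod.mkHom f' f'' : (X', X'') ⟶ (Y', Y'')) :
        (X, (X', X'')) ⟶ (Y, (Y', Y''))) =
        F.map (Prod.mkHom g (Prod.mkHom g' g'' : (X', X'') ⟶ (Y', Y'')) :
          (X, (X', X'')) ⟶ (Y, (Y', Y'')))) :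
    ((he A).prod ((he A').prod (he A''))).IsInvertedBy F := by
  rintro ⟨X, X', X''⟩ ⟨Y, Y', Y''⟩ ⟨f, f', f''⟩ ⟨⟨e, he⟩, ⟨e', he'⟩, ⟨e'', he''⟩⟩
  dsimp at f f' f'' e e' e'' he he' he''
  subst he he' he''
  refine ⟨F.map (Prod.mkHom e.inv (Prod.mkHom e'.inv e''.inv : (Y', Y'') ⟶ (X', X'')) :
    (Y, (Y', Y'')) ⟶ (X, (X', X''))), ?_, ?_⟩
  · rw [← F.map_comp]
    have := hF _ _ _ _ _ _ e.homotopyHomInvId e'.homotopyHomInvId e''.homotopyHomInvId
    rw [← F.map_id]
    exact this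
  · rw [← F.map_comp]
    have := hF _ _ _ _ _ _ e.homotopyInvHomId e'.homotopyInvHomId e''.homotopyInvHomId
    rw [← F.map_id]
    exact this

variable (hF : ((he A).prod ((he A').prod (he A''))).IsInvertedBy F)
  (LF : DerivedCategory (ModuleCat.{u} A) × (DerivedCategory (ModuleCat.{u} A') ×
    DerivedCategory (ModuleCat.{u} A'')) ⥤ DerivedCategory (ModuleCat.{u} B))
  (α : ((Q (C := ModuleCat.{u} A)).prod ((Q (C := ModuleCat.{u} A')).prod
    (Q (C := ModuleCat.{u} A'')))) ⋙ LF ⟶ F)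
  [LF.IsLeftDerivedFunctor α ((qis A).prod ((qis A').prod (qis A'')))]

include hF in
/-- Three variables: the counit is an isomorphism at triples of K-projective complexes. -/
theorem isIso_counit_app₃ (P : Cx A) (P' : Cx A') (P'' : Cx A'') [CochainComplex.IsKProjective P]
    [CochainComplex.IsKProjective P'] [CochainComplex.IsKProjective P''] :
    IsIso (α.app (P, (P', P''))) := by
  have : LF.IsRightKanExtension α :=
    Functor.IsLeftDerivedFunctor.isRightKanExtension
      (W := (qis A).prod ((qis A').prod (qis A''))) LF α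
  refine isIso_counit_app ((quot A).prod ((quot A').prod (quot A'')))
    ((he A).prod ((he A').prod (he A'')))
    (L₁ := (Qh (C := ModuleCat.{u} A)).prod ((Qh (C := ModuleCat.{u} A')).prod
      (Qh (C := ModuleCat.{u} A''))))
    ((qisK A).prod ((qisK A').prod (qisK A'')))
    (show (quot A).prod ((quot A').prod (quot A'')) ⋙ (Qh.prod (Qh.prod Qh)) ≅
        Q.prod (Q.prod Q) from
      NatIso.prod (quotientCompQhIso (ModuleCat.{u} A))
        (NatIso.prod (quotientCompQhIso (ModuleCat.{u} A'))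
          (quotientCompQhIso (ModuleCat.{u} A''))))
    hF LF α (P, (P', P'')) ?_
  rintro ⟨X, X', X''⟩ ⟨Y, Y', Y''⟩ ⟨s, s', s''⟩ ⟨hs, hs', hs''⟩
  exact bijective_comp_prod s (Prod.mkHom s' s'' : (X', X'') ⟶ (Y', Y''))
    (Groth.Agent.Lib.Helper54.LDerived.bijective_comp_of_isKProjective P s hs)
    (bijective_comp_prod s' s''
      (Groth.Agent.Lib.Helper54.LDerived.bijective_comp_of_isKProjective P' s' hs')
      (Groth.Agent.Lib.Helper54.LDerived.bijective_comp_of_isKProjective P'' s'' hs''))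

end Three

end Groth.Agent.Lib.Helper25.LDerCx
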