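import Groth.Agent.Lib.Helper25.KInjDerived
import Groth.Agent.Lib.Helper25.HomCxPost
import Groth.Agent.Lib.Helper25.HomCxPre
import Groth.Agent.Lib.Helper25.HomCxQis
import Groth.Agent.Lib.Helper25.LDerCx
import Mathlib.Algebra.Homology.DerivedCategory.KInjective

/-!
# `RHom(E, -)` is computed on K-injective complexes

* `isoOfKInj E J : RHom(E, Q J) ≅ Q (Hom•(E, J))` for `J` K-injective.
* `quasiIso_homCxPre` : `Hom•(-, J)` sends quasi-isomorphisms to quasi-isomorphisms for K-injective `J`.
* `exists_kInj K` : every object of `D(A)` is `Q J` for a K-injective `J`.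
-/

set_option autoImplicit false
universe u

namespace Groth.Agent.Lib.Helper25.RHomKInj

open CategoryTheory CategoryTheory.Limits HomologicalComplex CochainComplex
open CochainComplex.HomComplex DerivedCategory
open Groth.Agent.Lib.Helper25.LDerCx Groth.Agent.Lib.Helper25.HomCxPre

attribute [local instance] HasDerivedCategory.standard

variable {A : Type u} [CommRing A]

theorem homCxQ_inverts (E : DRing.Cx A) : (he A).IsInvertedBy (DRing.homCxQ E) := by
  apply KInjDerived.inverts_of_homotopy
  intro X Y f g h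
  exact Q_map_eq_of_homotopy _ (HomCxPost.homCxMapHomotopy E h)

section Unit

variable (E : DRing.Cx A) [DRing.HasRHomCx E]

/-- The unit `Q (Hom•(E, L)) ⟶ RHom(E, Q L)`. -/
noncomputable abbrev unit : DRing.homCxQ E ⟶ Q ⋙ DRing.RHomCx E :=
  (DRing.homCxQ E).totalRightDerivedUnit Q (qis A)

theorem isIso_unit_app (J : DRing.Cx A) [J.IsKInjective] : IsIso ((unit E).app J) :=
  KInjDerived.isIso_unit_app (homCxQ_inverts E) (DRing.RHomCx E) (unit E) J

/-- `RHom(E, Q J) ≅ Q (Hom•(E, J))` for K-injective `J`. -/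
noncomputable def isoOfKInj (J : DRing.Cx A) [J.IsKInjective] :
    (DRing.RHomCx E).obj (Q.obj J) ≅ Q.obj (DRing.homCx E J) :=
  haveI := isIso_unit_app E J
  (asIso ((unit E).app J)).symm

theorem isoOfKInj_inv (J : DRing.Cx A) [J.IsKInjective] :
    (isoOfKInj E J).inv = (unit E).app J := rfl

/-- naturality -/
theorem isoOfKInj_hom_naturality {J J' : DRing.Cx A} [J.IsKInjective] [J'.IsKInjective]
    (f : J ⟶ J') :
    (DRing.RHomCx E).map (Q.map f) ≫ (isoOfKInj E J').hom =
      (isoOfKInj E J).hom ≫ Q.map (DRing.homCxMap E f) := by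
  rw [← cancel_epi (isoOfKInj E J).inv, ← cancel_mono (isoOfKInj E J').inv]
  simp only [Category.assoc, Iso.hom_inv_id, Category.comp_id, Iso.inv_hom_id_assoc]
  rw [isoOfKInj_inv, isoOfKInj_inv]
  exact ((unit E).naturality f).symm

end Unit

/-- every object of `D(A)` is represented by a K-injective complex -/
theorem exists_kInj (K : Dual.D A) :
    ∃ (J : DRing.Cx A), J.IsKInjective ∧ Nonempty (Q.obj J ≅ K) := by
  obtain ⟨I, f, hI, hf, -, -⟩ :=
    Groth.Agent.Lib.Helper13.KInjMain.exists_kInjective_resolution (Q.objPreimage K)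
  haveI := hf
  exact ⟨I, hI, ⟨(asIso (Q.map f)).symm ≪≫ Q.objObjPreimageIso K⟩⟩

/-- K-injective resolution of a complex -/
theorem exists_kInj_res (M : DRing.Cx A) :
    ∃ (J : DRing.Cx A) (f : M ⟶ J), J.IsKInjective ∧ QuasiIso f := by
  obtain ⟨I, f, hI, hf, -, -⟩ :=
    Groth.Agent.Lib.Helper13.KInjMain.exists_kInjective_resolution M
  exact ⟨I, f, hI, hf⟩

/-- Precomposition with a morphism of `K(A)` inverted in `D(A)` is bijective on maps to a
K-injective complex. -/
theorem precomp_bijective (J : DRing.Cx A) [J.IsKInjective]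
    {X X' : HomotopyCategory (ModuleCat.{u} A) (ComplexShape.up ℤ)} (φ : X ⟶ X')
    (hφ : IsIso (DerivedCategory.Qh.map φ)) :
    Function.Bijective
      (fun a : X' ⟶ (HomotopyCategory.quotient _ _).obj J => φ ≫ a) := by
  constructor
  · intro a b hab
    apply (CochainComplex.IsKInjective.Qh_map_bijective X' J).injective
    have := congrArg (fun t => DerivedCategory.Qh.map t) hab
    simp only [Functor.map_comp] at this
    exact (cancel_epi (DerivedCategory.Qh.map φ)).1 this
  · intro c
    obtain ⟨a, ha⟩ := (CochainComplex.IsKInjective.Qh_map_bijective X' J).surjective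
      (inv (DerivedCategory.Qh.map φ) ≫ DerivedCategory.Qh.map c)
    refine ⟨a, ?_⟩
    apply (CochainComplex.IsKInjective.Qh_map_bijective X J).injective
    simp only [Functor.map_comp, ha, IsIso.hom_inv_id_assoc]

theorem isIso_Qh_quotient {P E : DRing.Cx A} (u : P ⟶ E) [QuasiIso u] :
    IsIso (DerivedCategory.Qh.map ((HomotopyCategory.quotient _ _).map u)) :=
  (DerivedCategory.isIso_Q_map_iff_quasiIso (φ := u)).2 inferInstance

/-- `Hom•(-, J)` sends quasi-isomorphisms to quasi-isomorphisms for K-injective `J`. -/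
theorem quasiIso_homCxPre {P E : DRing.Cx A} (u : P ⟶ E) [QuasiIso u] (J : DRing.Cx A)
    [J.IsKInjective] : QuasiIso (homCxPre u J) := by
  apply QisElem.quasiIso_of_elementwise
  · intro n m k hnm hmk x hx y hy
    change Cochain E J m at x
    change Cochain P J n at y
    change δ m k x = 0 at hx
    change (Cochain.ofHom u).comp x (zero_add m) = δ n m y at hy
    change ∃ w : Cochain E J n, δ n m w = x
    let xc : Cocycle E J m := Cocycle.mk x k hmk hx
    have hcob : xc.precomp u ∈ coboundaries P J m :=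
      (mem_coboundaries_iff _ n hnm).2 ⟨y, hy.symm⟩
    have h0 : CohomologyClass.toHom (CohomologyClass.mk (xc.precomp u)) = 0 :=
      (CohomologyClass.toHom_mk_eq_zero_iff _).2 hcob
    rw [CohomologyClass.toHom_mk, Cocycle.equivHomShift_symm_precomp, Functor.map_comp] at h0
    have h1 : (HomotopyCategory.quotient _ _).map (Cocycle.equivHomShift.symm xc) = 0 := by
      apply (precomp_bijective (J⟦m⟧) _ (isIso_Qh_quotient u)).injective
      simp only [comp_zero]
      exact h0
    have h2 : xc ∈ coboundaries E J m := by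
      rw [← CohomologyClass.toHom_mk_eq_zero_iff, CohomologyClass.toHom_mk]
      exact h1
    obtain ⟨w, hw⟩ := (mem_coboundaries_iff _ n hnm).1 h2
    exact ⟨w, hw⟩
  · intro n m k hnm hmk y hy
    change Cochain P J m at y
    change δ m k y = 0 at hy
    change ∃ (x : Cochain E J m) (w : Cochain P J n), δ m k x = 0 ∧
      y - (Cochain.ofHom u).comp x (zero_add m) = δ n m w
    let yc : Cocycle P J m := Cocycle.mk y k hmk hy
    obtain ⟨φ, hφ⟩ := (precomp_bijective (J⟦m⟧) _ (isIso_Qh_quotient u)).surjective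
      (CohomologyClass.toHom (CohomologyClass.mk yc))
    obtain ⟨φ', rfl⟩ := (HomotopyCategory.quotient _ _).map_surjective φ
    let xc : Cocycle E J m := Cocycle.equivHomShift φ'
    have h1 : CohomologyClass.toHom (CohomologyClass.mk (yc - xc.precomp u)) = 0 := by
      rw [CohomologyClass.mk_sub, map_sub, CohomologyClass.toHom_mk (xc.precomp u),
        Cocycle.equivHomShift_symm_precomp, Functor.map_comp, AddEquiv.symm_apply_apply]
      rw [sub_eq_zero]
      exact hφ.symm
    have h2 := (CohomologyClass.toHom_mk_eq_zero_iff _).1 h1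
    obtain ⟨w, hw⟩ := (mem_coboundaries_iff _ n hnm).1 h2
    refine ⟨xc.1, w, Cocycle.δ_eq_zero xc k, ?_⟩
    rw [hw]
    rfl

end Groth.Agent.Lib.Helper25.RHomKInj
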