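import Groth.Agent.Lib.Helper25.KFlatQis

/-!
# Elementwise criterion for quasi-isomorphisms of complexes of modules
-/

set_option autoImplicit false
universe u

namespace Groth.Agent.Lib.Helper25.QisElem

open CategoryTheory CategoryTheory.Limits HomologicalComplex CochainComplex
open Groth.Agent.Lib.Helper25.TensorCx Groth.Agent.Lib.Helper25.KFlat

variable {R : Type u} [CommRing R]

section

variable {X Y : Cx R} (g : X ⟶ Y)

theorem cone_ext (n m : ℤ) (h : n + 1 = m) (z z' : (mappingCone g).X n)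
    (h1 : (mappingCone.fst g).1.v n m h z = (mappingCone.fst g).1.v n m h z')
    (h2 : (mappingCone.snd g).v n n (add_zero n) z = (mappingCone.snd g).v n n (add_zero n) z') :
    z = z' := by
  have hid := mappingCone.id_X g n m h
  have e1 := ConcreteCategory.congr_hom hid z
  have e2 := ConcreteCategory.congr_hom hid z'
  simp only [ModuleCat.hom_add, LinearMap.add_apply, ModuleCat.hom_comp, LinearMap.coe_comp,
    Function.comp_apply, ModuleCat.hom_id, LinearMap.id_coe, id_eq] at e1 e2
  rw [← e1, ← e2, h1, h2]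

theorem quasiIso_of_elementwise
    (hinj : ∀ (n m k : ℤ) (_ : n + 1 = m) (_ : m + 1 = k) (x : X.X m), X.d m k x = 0 →
      ∀ (y : Y.X n), g.f m x = Y.d n m y → ∃ w : X.X n, X.d n m w = x)
    (hsurj : ∀ (n m k : ℤ) (_ : n + 1 = m) (_ : m + 1 = k) (y : Y.X m), Y.d m k y = 0 →
      ∃ (x : X.X m) (w : Y.X n), X.d m k x = 0 ∧ y - g.f m x = Y.d n m w) :
    QuasiIso g := by
  rw [quasiIso_iff_acyclic_mappingCone, KFlat.acyclic_iff]
  intro n₀ n₁ n₂ h01 h12 z hz
  -- components
  set a : X.X n₂ := (mappingCone.fst g).1.v n₁ n₂ h12 z with ha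
  set b : Y.X n₁ := (mappingCone.snd g).v n₁ n₁ (add_zero n₁) z with hb
  have hda : X.d n₂ (n₂ + 1) a = 0 := by
    have e := ConcreteCategory.congr_hom (mappingCone.d_fst_v g n₁ n₂ (n₂ + 1) h12 rfl) z
    simp only [ModuleCat.hom_comp, LinearMap.coe_comp, Function.comp_apply, ModuleCat.hom_neg,
      LinearMap.neg_apply] at e
    rw [hz, map_zero] at e
    have : X.d n₂ (n₂ + 1) a = - 0 := by rw [e, neg_neg]
    simpa using this
  have hgb : g.f n₂ a + Y.d n₁ n₂ b = 0 := by
    have e := ConcreteCategory.congr_hom (mappingCone.d_snd_v g n₁ n₂ h12) z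
    simp only [ModuleCat.hom_comp, LinearMap.coe_comp, Function.comp_apply, ModuleCat.hom_add,
      LinearMap.add_apply] at e
    rw [hz, map_zero] at e
    exact e.symm
  -- a is a coboundary
  obtain ⟨w, hw⟩ := hinj n₁ n₂ (n₂ + 1) h12 rfl a hda (-b) (by
    rw [map_neg]; exact eq_neg_of_add_eq_zero_left hgb)
  -- g w + b is a cocycle
  have hcoc : Y.d n₁ n₂ (g.f n₁ w + b) = 0 := by
    rw [map_add]
    have : Y.d n₁ n₂ (g.f n₁ w) = g.f n₂ (X.d n₁ n₂ w) := by
      have := ConcreteCategory.congr_hom (g.comm n₁ n₂) w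
      simp only [ModuleCat.hom_comp, LinearMap.coe_comp, Function.comp_apply] at this
      exact this
    rw [this, hw, hgb]
  obtain ⟨x, w', hx, hxw⟩ := hsurj n₀ n₁ n₂ h01 h12 _ hcoc
  set z' : (mappingCone g).X n₀ :=
    (mappingCone.inl g).v n₁ n₀ (by omega) (x - w) + (mappingCone.inr g).f n₀ w' with hz'
  have hf : (mappingCone.fst g).1.v n₀ n₁ h01 z' = x - w := by
    have i1 := ConcreteCategory.congr_hom (mappingCone.inl_v_fst_v g n₁ n₀ h01) (x - w)
    have i2 := ConcreteCategory.congr_hom (mappingCone.inr_f_fst_v g n₀ n₁ h01) w'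
    simp only [ModuleCat.hom_comp, LinearMap.coe_comp, Function.comp_apply, ModuleCat.hom_id,
      LinearMap.id_coe, id_eq, ModuleCat.hom_zero, LinearMap.zero_apply] at i1 i2
    rw [hz', map_add]
    erw [i1, i2]
    rw [add_zero]
  have hs : (mappingCone.snd g).v n₀ n₀ (add_zero n₀) z' = w' := by
    have i3 := ConcreteCategory.congr_hom (mappingCone.inl_v_snd_v g n₁ n₀ (by omega)) (x - w)
    have i4 := ConcreteCategory.congr_hom (mappingCone.inr_f_snd_v g n₀) w'
    simp only [ModuleCat.hom_comp, LinearMap.coe_comp, Function.comp_apply, ModuleCat.hom_id,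
      LinearMap.id_coe, id_eq, ModuleCat.hom_zero, LinearMap.zero_apply] at i3 i4
    rw [hz', map_add]
    erw [i3, i4]
    rw [zero_add]
  refine ⟨z', ?_⟩
  apply cone_ext g n₁ n₂ h12
  · have e1 := ConcreteCategory.congr_hom (mappingCone.d_fst_v g n₀ n₁ n₂ h01 h12) z'
    simp only [ModuleCat.hom_comp, LinearMap.coe_comp, Function.comp_apply, ModuleCat.hom_neg,
      LinearMap.neg_apply] at e1
    erw [e1, hf]
    rw [map_sub, hx, hw, zero_sub, neg_neg]
  · have e1 := ConcreteCategory.congr_hom (mappingCone.d_snd_v g n₀ n₁ h01) z'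
    simp only [ModuleCat.hom_comp, LinearMap.coe_comp, Function.comp_apply, ModuleCat.hom_add,
      LinearMap.add_apply] at e1
    erw [e1, hf, hs]
    rw [map_sub, ← hxw]
    abel

end

end Groth.Agent.Lib.Helper25.QisElem
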