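import Groth.Agent.Lib.Helper25.TrivDual
import Groth.Agent.Lib.Helper15.LBCFlat
import Groth.Prelude.Def_DualSh

/-!
# Upper shriek via a presentation: boundedness below and finiteness of cohomology (S1783)
-/

set_option autoImplicit false
universe u

open CategoryTheory CategoryTheory.Limits CategoryTheory.Pretriangulated DerivedCategory
open DRing

attribute [local instance] HasDerivedCategory.standard

namespace Groth.Agent.Lib.Helper25.TrivDual

open Groth.Agent.Lib.Helper84 Groth.Agent.Lib.Helper15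

section FlatBC

variable {A' B' : Type u} [CommRing A'] [CommRing B'] (φ : A' →+* B')
  [PreservesFiniteLimits (FlatBC.ext φ)]

/-- flat base change preserves finiteness of cohomology modules -/
theorem finite_homology_bc (X : Dual.D A') (j : ℤ) (h : Module.Finite A' (Dual.HD A' X j)) :
    Module.Finite B' (Dual.HD B' ((FlatBC.bc φ).obj X) j) := by
  haveI : PreservesFiniteColimits (FlatBC.ext φ) :=
    haveI : (FlatBC.ext φ).IsLeftAdjoint :=
      (ModuleCat.extendRestrictScalarsAdj φ).isLeftAdjoint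
    inferInstance
  let X0 := Q.objPreimage X
  let e : Q.obj X0 ≅ X := Q.objObjPreimageIso X
  have e1 : (DerivedCategory.homologyFunctor (ModuleCat.{u} A') j).obj X ≅ X0.homology j :=
    (DerivedCategory.homologyFunctor (ModuleCat.{u} A') j).mapIso e.symm ≪≫
      (DerivedCategory.homologyFunctorFactors (ModuleCat.{u} A') j).app X0
  have e2 : (DerivedCategory.homologyFunctor (ModuleCat.{u} B') j).obj ((FlatBC.bc φ).obj X) ≅
      (FlatBC.ext φ).obj (X0.homology j) :=
    (DerivedCategory.homologyFunctor (ModuleCat.{u} B') j).mapIso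
        ((FlatBC.bc φ).mapIso e.symm ≪≫ FlatBC.bcToD φ X0) ≪≫
      (DerivedCategory.homologyFunctorFactors (ModuleCat.{u} B') j).app _ ≪≫
      (X0.sc j).mapHomologyIso (FlatBC.ext φ)
  have h1 : Module.Finite A' ↑(X0.homology j) := Module.Finite.equiv e1.toLinearEquiv
  have h2 := FlatBC.finite_ext φ (X0.homology j) h1
  exact Module.Finite.equiv e2.symm.toLinearEquiv

end FlatBC

/-- S1783 -/
theorem aux1783 (R A : Type u) [CommRing R] [CommRing A] [IsNoetherianRing R] [IsNoetherianRing A]
    [Algebra R A] (n : ℕ) (ψ : MvPolynomial (Fin n) R →ₐ[R] A) (hψ : Function.Surjective ψ)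
    [DRing.HasLBaseChange (algebraMap R (MvPolynomial (Fin n) R))]
    (Rψ : Dual.D (MvPolynomial (Fin n) R) ⥤ Dual.D A) (adj : DRing.restrictD ψ.toRingHom ⊣ Rψ)
    (K : Dual.D R) (a : ℤ) (hKa : ∀ i : ℤ, i < a → Subsingleton (Dual.HD R K i)) :
    (∃ b : ℤ, ∀ i : ℤ, i < b → Subsingleton (Dual.HD A (Dual2.shriekVia n Rψ K) i)) ∧
      ((∀ i : ℤ, Module.Finite R (Dual.HD R K i)) →
        ∀ i : ℤ, Module.Finite A (Dual.HD A (Dual2.shriekVia n Rψ K) i)) := by
  let φ : R →+* MvPolynomial (Fin n) R := algebraMap R (MvPolynomial (Fin n) R)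
  haveI : PreservesFiniteLimits (FlatBC.ext φ) :=
    FlatBC.preservesFiniteLimits_ext φ (RingHom.flat_algebraMap_iff.2 inferInstance)
  let L := (DRing.LBaseChange φ).obj K
  have eL : L ≅ (FlatBC.bc φ).obj K := (LBCFlat.lbcFlatIso φ).app K
  haveI : K.IsGE a := (DerivedCategory.isGE_iff K a).2 (fun j hj =>
    haveI := hKa j hj
    ModuleCat.isZero_of_subsingleton _)
  haveI : ((FlatBC.bc φ).obj K).IsGE a := FlatBC.isGE_bc φ K a
  haveI : L.IsGE a := DerivedCategory.TStructure.t.isGE_of_iso eL.symm a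
  haveI : (Rψ.obj L).IsGE a := isGE_rightAdjoint Rψ adj L a
  have eS : ∀ i : ℤ, (DerivedCategory.homologyFunctor (ModuleCat.{u} A) i).obj
      ((Rψ.obj L)⟦(n : ℤ)⟧) ≅
      (DerivedCategory.homologyFunctor (ModuleCat.{u} A) ((n : ℤ) + i)).obj (Rψ.obj L) :=
    fun i => ((DerivedCategory.homologyFunctor (ModuleCat.{u} A) 0).shiftIso (n : ℤ) i
      ((n : ℤ) + i) rfl).app (Rψ.obj L)
  refine ⟨⟨a - n, fun i hi => ?_⟩, fun hK i => ?_⟩
  · have hz : IsZero ((DerivedCategory.homologyFunctor (ModuleCat.{u} A) ((n : ℤ) + i)).obj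
        (Rψ.obj L)) := DerivedCategory.isZero_of_isGE (Rψ.obj L) a _ (by omega)
    exact ModuleCat.subsingleton_of_isZero (IsZero.of_iso hz (eS i))
  · have hL : ∀ j : ℤ, Module.Finite (MvPolynomial (Fin n) R)
        (Dual.HD (MvPolynomial (Fin n) R) L j) := by
      intro j
      have h1 := finite_homology_bc φ K j (hK j)
      exact Module.Finite.equiv
        ((DerivedCategory.homologyFunctor (ModuleCat.{u} (MvPolynomial (Fin n) R)) j).mapIso
          eL.symm).toLinearEquiv
    have h2 := finite_homology_rightAdjoint Rψ adj (RingHom.Finite.of_surjective _ hψ) L a hL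
      ((n : ℤ) + i)
    exact Module.Finite.equiv (eS i).symm.toLinearEquiv

end Groth.Agent.Lib.Helper25.TrivDual
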