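import Groth.Agent.Lib.Helper25.DCompTri
import Mathlib.CategoryTheory.Adjunction.FullyFaithful
import Mathlib.CategoryTheory.ObjectProperty.FullSubcategory

/-!
# Reflections onto a triangulated subcategory: uniqueness, shifts and cones
-/

set_option autoImplicit false

namespace Groth.Agent.Lib.Helper25.DCompRefl

open CategoryTheory CategoryTheory.Limits CategoryTheory.Pretriangulated

variable {C : Type*} [Category C]

/-- `u : X ⟶ X'` is a reflection arrow for the property `P`: maps from `X` to objects with `P`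
factor uniquely through `u` -/
def IsRefl (P : ObjectProperty C) {X X' : C} (u : X ⟶ X') : Prop :=
  ∀ E : C, P E → Function.Bijective (fun φ : X' ⟶ E => u ≫ φ)

/-- two reflection arrows with targets in `P` have isomorphic targets -/
theorem IsRefl.nonempty_iso {P : ObjectProperty C} {X X₁ X₂ : C} {u : X ⟶ X₁} {v : X ⟶ X₂}
    (hu : IsRefl P u) (hv : IsRefl P v) (h₁ : P X₁) (h₂ : P X₂) : Nonempty (X₁ ≅ X₂) := by
  obtain ⟨a, ha⟩ := (hu X₂ h₂).surjective v
  obtain ⟨b, hb⟩ := (hv X₁ h₁).surjective u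
  have ha' : u ≫ a = v := ha
  have hb' : v ≫ b = u := hb
  refine ⟨⟨a, b, ?_, ?_⟩⟩
  · apply (hu X₁ h₁).injective
    change u ≫ (a ≫ b) = u ≫ 𝟙 X₁
    rw [← Category.assoc, ha', hb', Category.comp_id]
  · apply (hv X₂ h₂).injective
    change v ≫ (b ≫ a) = v ≫ 𝟙 X₂
    rw [← Category.assoc, hb', ha', Category.comp_id]

/-- the unit of an adjunction with the inclusion of a full subcategory is a reflection arrow -/
theorem isRefl_unit (P : ObjectProperty C) {Λ : C ⥤ P.FullSubcategory} (adj : Λ ⊣ P.ι) (X : C) :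
    IsRefl P (adj.unit.app X) := by
  intro E hE
  let E' : P.FullSubcategory := ⟨E, hE⟩
  have h1 : Function.Bijective (adj.homEquiv X E') := (adj.homEquiv X E').bijective
  have h2 : Function.Bijective (fun φ : Λ.obj X ⟶ E' => P.ι.map φ) :=
    (ObjectProperty.fullyFaithfulι P).map_bijective _ _
  constructor
  · intro a b hab
    obtain ⟨a', rfl⟩ := h2.surjective a
    obtain ⟨b', rfl⟩ := h2.surjective b
    have : adj.homEquiv X E' a' = adj.homEquiv X E' b' := by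
      rw [Adjunction.homEquiv_unit, Adjunction.homEquiv_unit]
      exact hab
    rw [h1.injective this]
  · intro g
    obtain ⟨φ, hφ⟩ := h1.surjective g
    refine ⟨P.ι.map φ, ?_⟩
    rw [Adjunction.homEquiv_unit] at hφ
    exact hφ

section Shift

variable [Preadditive C] [HasShift C ℤ] [∀ n : ℤ, (shiftFunctor C n).Additive]

/-- reflection arrows are stable under the shift by `1` -/
theorem IsRefl.shift_one {P : ObjectProperty C} (hP : ∀ E, P E → P (E⟦(-1 : ℤ)⟧))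
    {X X' : C} {u : X ⟶ X'} (hu : IsRefl P u) : IsRefl P (u⟦(1 : ℤ)⟧') := by
  intro E hE
  let i : E ≅ (E⟦(-1 : ℤ)⟧)⟦(1 : ℤ)⟧ := (shiftFunctorCompIsoId C (-1 : ℤ) 1 (by omega)).symm.app E
  have hb := hu (E⟦(-1 : ℤ)⟧) (hP E hE)
  constructor
  · intro a b hab
    have hab' : u⟦(1 : ℤ)⟧' ≫ a = u⟦(1 : ℤ)⟧' ≫ b := hab
    obtain ⟨a', ha'⟩ := (shiftFunctor C (1 : ℤ)).map_surjective (a ≫ i.hom)
    obtain ⟨b', hb'⟩ := (shiftFunctor C (1 : ℤ)).map_surjective (b ≫ i.hom)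
    have h1 : u ≫ a' = u ≫ b' := by
      apply (shiftFunctor C (1 : ℤ)).map_injective
      rw [Functor.map_comp, Functor.map_comp, ha', hb', ← Category.assoc, ← Category.assoc, hab']
    have h2 : a' = b' := hb.injective h1
    have h3 : a ≫ i.hom = b ≫ i.hom := by rw [← ha', ← hb', h2]
    exact (cancel_mono i.hom).1 h3
  · intro g
    obtain ⟨g', hg'⟩ := (shiftFunctor C (1 : ℤ)).map_surjective (g ≫ i.hom)
    obtain ⟨φ, hφ⟩ := hb.surjective g'
    have hφ' : u ≫ φ = g' := hφ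
    refine ⟨φ⟦(1 : ℤ)⟧' ≫ i.inv, ?_⟩
    change u⟦(1 : ℤ)⟧' ≫ φ⟦(1 : ℤ)⟧' ≫ i.inv = g
    rw [← Category.assoc, ← Functor.map_comp, hφ', hg', Category.assoc, Iso.hom_inv_id,
      Category.comp_id]

end Shift

section Cone

variable [Preadditive C] [HasZeroObject C] [HasShift C ℤ]
  [∀ n : ℤ, (shiftFunctor C n).Additive] [Pretriangulated C]

/-- A morphism of distinguished triangles whose first two components are reflection arrows has
a reflection arrow as third component. -/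
theorem IsRefl.cone {P : ObjectProperty C} (hP : ∀ E, P E → P (E⟦(-1 : ℤ)⟧))
    (T T' : Triangle C) (hT : T ∈ distTriang C) (hT' : T' ∈ distTriang C)
    (u₁ : T.obj₁ ⟶ T'.obj₁) (u₂ : T.obj₂ ⟶ T'.obj₂) (comm : T.mor₁ ≫ u₂ = u₁ ≫ T'.mor₁)
    (h₁ : IsRefl P u₁) (h₂ : IsRefl P u₂) :
    ∃ m : T.obj₃ ⟶ T'.obj₃, IsRefl P m := by
  obtain ⟨m, hm₁, hm₂⟩ := complete_distinguished_triangle_morphism T T' hT hT' u₁ u₂ comm
  refine ⟨m, ?_⟩
  have h₁s := h₁.shift_one hP
  have h₂s := h₂.shift_one hP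
  intro E hE
  constructor
  · -- injectivity
    intro a b hab
    have hab' : m ≫ a = m ≫ b := hab
    have h0 : m ≫ (a - b) = 0 := by
      rw [Preadditive.comp_sub]
      exact sub_eq_zero.2 hab'
    -- `T'.mor₂ ≫ (a - b) = 0`
    have h1 : T'.mor₂ ≫ (a - b) = 0 := by
      apply (h₂ E hE).injective
      change u₂ ≫ T'.mor₂ ≫ (a - b) = u₂ ≫ 0
      rw [← Category.assoc, ← hm₁, Category.assoc, h0, comp_zero, comp_zero]
    obtain ⟨h', hh'⟩ := Triangle.yoneda_exact₃ T' hT' (a - b) h1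
    -- `T.mor₃ ≫ u₁⟦1⟧' ≫ h' = 0`
    have h2 : T.mor₃ ≫ (u₁⟦(1 : ℤ)⟧' ≫ h') = 0 := by
      rw [← Category.assoc, hm₂, Category.assoc, ← hh', h0]
    obtain ⟨k, hk⟩ := Triangle.yoneda_exact₃ T.rotate (rot_of_distTriang _ hT) _ h2
    have hk' : u₁⟦(1 : ℤ)⟧' ≫ h' = (-T.mor₁⟦(1 : ℤ)⟧') ≫ k := hk
    obtain ⟨k', hk''⟩ := (h₂s E hE).surjective k
    have hk''' : u₂⟦(1 : ℤ)⟧' ≫ k' = k := hk''
    have h3 : h' = (-T'.mor₁⟦(1 : ℤ)⟧') ≫ k' := by
      apply (h₁s E hE).injective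
      change u₁⟦(1 : ℤ)⟧' ≫ h' = u₁⟦(1 : ℤ)⟧' ≫ ((-T'.mor₁⟦(1 : ℤ)⟧') ≫ k')
      rw [hk', ← hk''', Preadditive.neg_comp, Preadditive.neg_comp, Preadditive.comp_neg,
        ← Category.assoc, ← Functor.map_comp, comm, Functor.map_comp, Category.assoc]
    have h4 : a - b = 0 := by
      rw [hh', h3, Preadditive.neg_comp, Preadditive.comp_neg, ← Category.assoc,
        comp_distTriang_mor_zero₃₁ T' hT', zero_comp, neg_zero]
    exact sub_eq_zero.1 h4
  · -- surjectivity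
    intro g
    obtain ⟨gL, hgL⟩ := (h₂ E hE).surjective (T.mor₂ ≫ g)
    have hgL' : u₂ ≫ gL = T.mor₂ ≫ g := hgL
    have h1 : T'.mor₁ ≫ gL = 0 := by
      apply (h₁ E hE).injective
      change u₁ ≫ T'.mor₁ ≫ gL = u₁ ≫ 0
      rw [← Category.assoc, ← comm, Category.assoc, hgL', ← Category.assoc,
        comp_distTriang_mor_zero₁₂ T hT, zero_comp, comp_zero]
    obtain ⟨g', hg'⟩ := Triangle.yoneda_exact₂ T' hT' gL h1
    have h2 : T.mor₂ ≫ (m ≫ g' - g) = 0 := by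
      rw [Preadditive.comp_sub, ← Category.assoc, hm₁, Category.assoc, ← hg', hgL', sub_self]
    obtain ⟨h, hh⟩ := Triangle.yoneda_exact₃ T hT _ h2
    obtain ⟨h', hh'⟩ := (h₁s E hE).surjective h
    have hh'' : u₁⟦(1 : ℤ)⟧' ≫ h' = h := hh'
    refine ⟨g' - T'.mor₃ ≫ h', ?_⟩
    change m ≫ (g' - T'.mor₃ ≫ h') = g
    rw [Preadditive.comp_sub, ← Category.assoc, ← hm₂, Category.assoc, hh'', ← hh]
    abel

end Cone

end Groth.Agent.Lib.Helper25.DCompRefl
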