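import Groth.Agent.Lib.Helper25.DCompAmp
import Groth.Agent.Lib.Helper25.DCompRefl

/-!
# Cohomological amplitude of the derived completion functor
-/

set_option autoImplicit false
universe u

namespace Groth.Agent.Lib.Helper25.DCompAmp

open CategoryTheory CategoryTheory.Limits DerivedCategory CategoryTheory.Pretriangulated
open Groth.Agent.Lib.Helper25.DCompTri Groth.Agent.Lib.Helper25.DCompRefl
open Groth.Agent.Lib.Helper25.DCompExists

attribute [local instance] HasDerivedCategory.standard

variable {A : Type u} [CommRing A]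

section LES

variable (T : Triangle (Dual.D A)) (hT : T ∈ distTriang _)

include hT in
theorem isZero_homology_obj₃ (i i' : ℤ) (hi : i + 1 = i')
    (h1 : Epi ((homologyFunctor (ModuleCat.{u} A) i).map T.mor₁))
    (h2 : Mono ((homologyFunctor (ModuleCat.{u} A) i').map T.mor₁)) :
    IsZero ((homologyFunctor (ModuleCat.{u} A) i).obj T.obj₃) := by
  have hex := HomologySequence.exact₃ T hT i i' hi
  exact hex.isZero_of_both_zeros ((HomologySequence.epi_homologyMap_mor₁_iff T hT i).1 h1)
    ((HomologySequence.mono_homologyMap_mor₁_iff T hT i i' hi).1 h2)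

include hT in
theorem epi_mono_of_isZero_homology_obj₃ (i i' : ℤ) (hi : i + 1 = i')
    (h : IsZero ((homologyFunctor (ModuleCat.{u} A) i).obj T.obj₃)) :
    Epi ((homologyFunctor (ModuleCat.{u} A) i).map T.mor₁) ∧
      Mono ((homologyFunctor (ModuleCat.{u} A) i').map T.mor₁) :=
  ⟨(HomologySequence.epi_homologyMap_mor₁_iff T hT i).2 (h.eq_of_tgt _ _),
    (HomologySequence.mono_homologyMap_mor₁_iff T hT i i' hi).2 (h.eq_of_src _ _)⟩

end LES

section Main

variable (I : Ideal A) (s : Finset A) (hs : Ideal.span (s : Set A) = I)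

theorem isDerivedComplete_shift (E : Dual.D A) (hE : DRing.IsDerivedComplete I E) (n : ℤ) :
    DRing.IsDerivedComplete I (E⟦n⟧) := by
  intro f hf
  have h : Orth (Dual.inD A (Localization.Away f)) E := hE f hf
  exact h.shift n

theorem isDerivedComplete_obj₃ (T : Triangle (Dual.D A)) (hT : T ∈ distTriang _)
    (h1 : DRing.IsDerivedComplete I T.obj₁) (h2 : DRing.IsDerivedComplete I T.obj₂) :
    DRing.IsDerivedComplete I T.obj₃ := by
  intro f hf
  have h1' : Orth (Dual.inD A (Localization.Away f)) T.obj₁ := h1 f hf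
  have h2' : Orth (Dual.inD A (Localization.Away f)) T.obj₂ := h2 f hf
  exact Orth.of_triangle T hT h1' h2'

include hs in
/-- the cone of the completion of `φ` has vanishing `H^i` as soon as the cone of `φ` has vanishing
`H^j` for `i ≤ j ≤ i + r` -/
theorem isZero_homology_cone [DRing.HasDerivedCompletion I] {K L : Dual.D A} (φ : K ⟶ L)
    (T T' : Triangle (Dual.D A)) (hT : T ∈ distTriang _) (hT' : T' ∈ distTriang _)
    (e₁ : T.obj₁ = K) (e₂ : T.obj₂ = L) (e₁' : T'.obj₁ = ((DRing.derivedCompletion I).obj K).obj)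
    (e₂' : T'.obj₂ = ((DRing.derivedCompletion I).obj L).obj)
    (hφ : T.mor₁ = eqToHom e₁ ≫ φ ≫ eqToHom e₂.symm)
    (hφ' : T'.mor₁ = eqToHom e₁' ≫ ((DRing.derivedCompletion I).map φ).hom ≫ eqToHom e₂'.symm)
    (i : ℤ) (h : ∀ j : ℤ, i ≤ j → j ≤ i + s.card →
      IsZero ((homologyFunctor (ModuleCat.{u} A) j).obj T.obj₃)) :
    IsZero ((homologyFunctor (ModuleCat.{u} A) i).obj T'.obj₃) := by
  obtain ⟨X₁, X₂, X₃, f, g, d⟩ := T
  obtain ⟨Y₁, Y₂, Y₃, f', g', d'⟩ := T'
  dsimp at e₁ e₂ e₁' e₂' hφ hφ' h ⊢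
  subst e₁ e₂ e₁' e₂'
  simp only [eqToHom_refl, Category.id_comp, Category.comp_id] at hφ hφ'
  subst hφ hφ'
  have hPs : ∀ E : Dual.D A, DRing.IsDerivedComplete I E →
      DRing.IsDerivedComplete I (E⟦(-1 : ℤ)⟧) := fun E hE => isDerivedComplete_shift I E hE (-1)
  have comm : (Triangle.mk f g d).mor₁ ≫ (DRing.derivedCompletionAdj I).unit.app X₂ =
      (DRing.derivedCompletionAdj I).unit.app X₁ ≫
        (Triangle.mk ((DRing.derivedCompletion I).map f).hom g' d').mor₁ :=
    (DRing.derivedCompletionAdj I).unit.naturality f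
  obtain ⟨m, hm⟩ := IsRefl.cone hPs (Triangle.mk f g d)
    (Triangle.mk ((DRing.derivedCompletion I).map f).hom g' d') hT hT'
    ((DRing.derivedCompletionAdj I).unit.app X₁) ((DRing.derivedCompletionAdj I).unit.app X₂)
    comm (isRefl_unit _ (DRing.derivedCompletionAdj I) X₁)
    (isRefl_unit _ (DRing.derivedCompletionAdj I) X₂)
  have hY₃ : DRing.IsDerivedComplete I Y₃ :=
    isDerivedComplete_obj₃ I _ hT' ((DRing.derivedCompletion I).obj X₁).property
      ((DRing.derivedCompletion I).obj X₂).property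
  obtain ⟨C, η, hC, hu, hamp⟩ := exists_finset' s X₃
  have hCP : DRing.IsDerivedComplete I C := by
    have := isDerivedComplete_of_orth s C hC
    rwa [hs] at this
  have hη : IsRefl (DRing.IsDerivedComplete I) η := by
    intro E hE
    exact hu E (fun f hf => hE f (by rw [← hs]; exact Ideal.subset_span hf))
  obtain ⟨iso⟩ := IsRefl.nonempty_iso hm hη hY₃ hCP
  exact IsZero.of_iso (hamp i h) ((homologyFunctor (ModuleCat.{u} A) i).mapIso iso)

end Main

end Groth.Agent.Lib.Helper25.DCompAmp
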