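import Groth.Agent.Lib.Helper25.DCompTri

/-!
# A triangle whose third vertex is orthogonal to `E`
-/

set_option autoImplicit false

namespace Groth.Agent.Lib.Helper25.TriBij

open CategoryTheory CategoryTheory.Limits CategoryTheory.Pretriangulated

variable {C : Type*} [Category C] [Preadditive C] [HasZeroObject C] [HasShift C ℤ]
  [∀ n : ℤ, (shiftFunctor C n).Additive] [Pretriangulated C]

theorem bijective_precomp_mor₁ (T : Triangle C) (hT : T ∈ distTriang C) (E : C)
    (h0 : Subsingleton (T.obj₃ ⟶ E)) (h1 : Subsingleton (T.obj₃⟦(-1 : ℤ)⟧ ⟶ E)) :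
    Function.Bijective (fun φ : T.obj₂ ⟶ E => T.mor₁ ≫ φ) := by
  constructor
  · intro a b hab
    have h : T.mor₁ ≫ (a - b) = 0 := by
      rw [Preadditive.comp_sub]
      exact sub_eq_zero.2 hab
    obtain ⟨g, hg⟩ := Triangle.yoneda_exact₂ T hT (a - b) h
    have : g = 0 := h0.elim _ _
    rw [this, comp_zero] at hg
    exact sub_eq_zero.1 hg
  · intro ψ
    have hT' := inv_rot_of_distTriang T hT
    have h : T.invRotate.mor₁ ≫ ψ = 0 := h1.elim _ _
    obtain ⟨g, hg⟩ := Triangle.yoneda_exact₂ T.invRotate hT' ψ h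
    exact ⟨g, hg.symm⟩

end Groth.Agent.Lib.Helper25.TriBij
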