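import Groth.Agent.Lib.Helper25.DerAdj
import Groth.Agent.Lib.Helper25.KFlat
import Groth.Agent.Lib.Helper25.TriBij
import Groth.Agent.Lib.Helper25.DCompAmp2
import Groth.Agent.Lib.Helper62.SigmaGE
import Mathlib.Algebra.Homology.DerivedCategory.TStructure

/-!
# Way-out tools in `D(A)`: the generators `A[-i]`, cones of maps which are isomorphisms in high
degrees, orthogonality
-/

set_option autoImplicit false
universe u

namespace Groth.Agent.Lib.Helper25.WayOutCx

open CategoryTheory CategoryTheory.Limits MonoidalCategory HomologicalComplex DerivedCategory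
open CategoryTheory.Pretriangulated
open Groth.Agent.Lib.Helper25.TensorCx Groth.Agent.Lib.Helper25.DerAdj

attribute [local instance] HasDerivedCategory.standard

section Tri

variable {C : Type*} [Category C] [Preadditive C] [HasZeroObject C] [HasShift C ℤ]
  [∀ n : ℤ, (shiftFunctor C n).Additive] [Pretriangulated C]

theorem bijective_postcomp_mor₁ (T : Triangle C) (hT : T ∈ distTriang C) (S : C)
    (h0 : Subsingleton (S ⟶ T.obj₃)) (h1 : Subsingleton (S ⟶ T.obj₃⟦(-1 : ℤ)⟧)) :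
    Function.Bijective (fun φ : S ⟶ T.obj₁ => φ ≫ T.mor₁) := by
  constructor
  · intro a b hab
    have h : (a - b) ≫ T.mor₁ = 0 := by
      rw [Preadditive.sub_comp]
      exact sub_eq_zero.2 hab
    have hT' := inv_rot_of_distTriang T hT
    obtain ⟨g, hg⟩ := Triangle.coyoneda_exact₂ T.invRotate hT' (a - b) h
    have : g = 0 := h1.elim _ _
    rw [this, zero_comp] at hg
    exact sub_eq_zero.1 hg
  · intro ψ
    have h : ψ ≫ T.mor₂ = 0 := h0.elim _ _
    obtain ⟨g, hg⟩ := Triangle.coyoneda_exact₂ T hT ψ h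
    exact ⟨g, hg.symm⟩

/-- if `Hom(S, u)` is onto and `Hom(S[-1], u)` is injective, then `Hom(S, cone u) = 0` -/
theorem subsingleton_hom_obj₃ (T : Triangle C) (hT : T ∈ distTriang C) (S : C)
    (hs : Function.Surjective (fun φ : S ⟶ T.obj₁ => φ ≫ T.mor₁))
    (hi : Function.Injective (fun φ : S⟦(-1 : ℤ)⟧ ⟶ T.obj₁ => φ ≫ T.mor₁)) :
    Subsingleton (S ⟶ T.obj₃) := by
  suffices key : ∀ g : S ⟶ T.obj₃, g = 0 from ⟨fun a b => by rw [key a, key b]⟩
  intro g
  have h3 : g ≫ T.mor₃ = 0 := by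
    let s : (S⟦(-1 : ℤ)⟧)⟦(1 : ℤ)⟧ ≅ S := (shiftEquiv C (1 : ℤ)).counitIso.app S
    obtain ⟨k, hk⟩ := (shiftFunctor C (1 : ℤ)).map_surjective (s.hom ≫ g ≫ T.mor₃)
    have hk0 : k ≫ T.mor₁ = 0 := by
      apply (shiftFunctor C (1 : ℤ)).map_injective
      rw [Functor.map_comp, hk, Functor.map_zero, Category.assoc, Category.assoc,
        comp_distTriang_mor_zero₃₁ T hT, comp_zero, comp_zero]
    have hk' : k = 0 := hi (by simpa using hk0)
    rw [hk', Functor.map_zero] at hk
    rw [← cancel_epi s.hom, comp_zero, ← hk]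
  obtain ⟨g', hg'⟩ := Triangle.coyoneda_exact₃ T hT g h3
  obtain ⟨g'', hg''⟩ := hs g'
  dsimp at hg''
  rw [hg', ← hg'', Category.assoc, comp_distTriang_mor_zero₁₂ T hT, comp_zero]

end Tri

variable {A : Type u} [CommRing A]

/-- `A` placed in degree `i` -/
noncomputable abbrev sglA (A : Type u) [CommRing A] (i : ℤ) : Cx A :=
  (CochainComplex.singleFunctor (ModuleCat.{u} A) i).obj (ModuleCat.of A A)

instance projective_sglA_X (i n : ℤ) : Projective ((sglA A i).X n) := by
  by_cases h : n = i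
  · subst h
    exact Projective.of_iso (singleObjXSelf (ComplexShape.up ℤ) n (ModuleCat.of A A)).symm
      inferInstance
  · exact (isZero_single_obj_X (ComplexShape.up ℤ) i (ModuleCat.of A A) n h).projective

instance isKProjective_sglA (i : ℤ) : (sglA A i).IsKProjective :=
  CochainComplex.isKProjective_of_projective (sglA A i) i

/-- the generator of `A[-i]` -/
noncomputable def gen (i : ℤ) : (sglA A i).X i :=
  (singleObjXSelf (ComplexShape.up ℤ) i (ModuleCat.of A A)).inv.hom (1 : A)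

/-- the chain map `A[-i] ⟶ X` attached to a cocycle -/
noncomputable def cocycleMap (X : Cx A) (i : ℤ) (z : X.X i) (hz : X.d i (i + 1) z = 0) :
    sglA A i ⟶ X :=
  HomologicalComplex.mkHomFromSingle (ModuleCat.ofHom (LinearMap.toSpanSingleton A (X.X i) z))
    (by
      intro k hk
      obtain rfl : i + 1 = k := hk
      ext
      simpa using hz)

theorem cocycleMap_f_gen (X : Cx A) (i : ℤ) (z : X.X i) (hz : X.d i (i + 1) z = 0) :
    (cocycleMap X i z hz).f i (gen i) = z := by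
  unfold cocycleMap gen
  rw [mkHomFromSingle_f]
  have h1 : (singleObjXSelf (ComplexShape.up ℤ) i (ModuleCat.of A A)).hom.hom
      ((singleObjXSelf (ComplexShape.up ℤ) i (ModuleCat.of A A)).inv.hom (1 : A)) = (1 : A) :=
    congrArg (fun φ => φ.hom (1 : A))
      (singleObjXSelf (ComplexShape.up ℤ) i (ModuleCat.of A A)).inv_hom_id
  change (LinearMap.toSpanSingleton A (X.X i) z)
    ((singleObjXSelf (ComplexShape.up ℤ) i (ModuleCat.of A A)).hom.hom
      ((singleObjXSelf (ComplexShape.up ℤ) i (ModuleCat.of A A)).inv.hom (1 : A))) = z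
  rw [h1]
  simp

/-- **Generator lemma**: if `Hom(A[-i], X) = 0` then `H^i(X) = 0`. -/
theorem isZero_homology_of_subsingleton (X : Dual.D A) (i : ℤ)
    (h : Subsingleton (Q.obj (sglA A i) ⟶ X)) :
    IsZero ((homologyFunctor (ModuleCat.{u} A) i).obj X) := by
  let X' := Q.objPreimage X
  let e : Q.obj X' ≅ X := Q.objObjPreimageIso X
  refine IsZero.of_iso ?_ ((homologyFunctor (ModuleCat.{u} A) i).mapIso e.symm ≪≫
    (homologyFunctorFactors (ModuleCat.{u} A) i).app X')
  change IsZero (X'.homology i)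
  rw [← exactAt_iff_isZero_homology, X'.exactAt_iff' (i - 1) i (i + 1) (by simp) (by simp),
    ShortComplex.moduleCat_exact_iff]
  intro z hz
  have hz' : X'.d i (i + 1) z = 0 := hz
  have h0 : Q.map (cocycleMap X' i z hz') = 0 := by
    rw [← cancel_mono e.hom, zero_comp]
    exact h.elim _ _
  obtain ⟨ht⟩ := (Qmap_eq_zero_iff _ _ _).1 h0
  refine ⟨(ht.hom i (i - 1)).hom (gen i), ?_⟩
  have hc := ht.comm i
  rw [dNext_eq ht.hom (show (ComplexShape.up ℤ).Rel i (i + 1) from rfl),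
    prevD_eq ht.hom (show (ComplexShape.up ℤ).Rel (i - 1) i by simp)] at hc
  have hd : (sglA A i).d i (i + 1) = 0 :=
    (isZero_single_obj_X (ComplexShape.up ℤ) i (ModuleCat.of A A) (i + 1) (by omega)).eq_of_tgt _ _
  rw [hd, zero_comp, zero_add, HomologicalComplex.zero_f, add_zero] at hc
  have := congrArg (fun φ => φ.hom (gen i)) hc
  dsimp at this
  rw [cocycleMap_f_gen] at this
  exact this.symm

/-- `Hom(A[-i], W) = 0` for `W ∈ D^{≤ r}`, `r < i` -/
theorem subsingleton_hom_sglA_of_isLE (W : Dual.D A) (r i : ℤ) [W.IsLE r] (hr : r < i) :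
    Subsingleton (Q.obj (sglA A i) ⟶ W) := by
  obtain ⟨W', hW', ⟨e⟩⟩ := W.exists_iso_Q_obj_of_isLE r
  suffices key : ∀ g : Q.obj (sglA A i) ⟶ W, g = 0 from ⟨fun a b => by rw [key a, key b]⟩
  intro g
  obtain ⟨φ, hφ⟩ := exists_map_eq (sglA A i) W' (g ≫ e.hom)
  have hφ0 : φ = 0 := by
    apply HomologicalComplex.from_single_hom_ext
    exact (W'.isZero_of_isStrictlyLE r i hr).eq_of_tgt _ _
  rw [hφ0, Functor.map_zero] at hφ
  rw [← cancel_mono e.hom, zero_comp, ← hφ]

/-- `A[-i][1] ≅ A[-(i-1)]` in `D(A)` -/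
noncomputable def sglShiftIso (i i' : ℤ) (h : i + 1 = i') :
    (Q.obj (sglA A i'))⟦(1 : ℤ)⟧ ≅ Q.obj (sglA A i) :=
  ((Q.commShiftIso (1 : ℤ)).app (sglA A i')).symm ≪≫
    Q.mapIso (((CochainComplex.singleFunctors (ModuleCat.{u} A)).shiftIso 1 i i'
      (by omega)).app (ModuleCat.of A A))

/-- `A[-i][-1] ≅ A[-(i+1)]` in `D(A)` -/
noncomputable def sglShiftNegIso (i i' : ℤ) (h : i + 1 = i') :
    (Q.obj (sglA A i))⟦(-1 : ℤ)⟧ ≅ Q.obj (sglA A i') :=
  (shiftFunctor (Dual.D A) (-1 : ℤ)).mapIso (sglShiftIso i i' h).symm ≪≫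
    (shiftEquiv (Dual.D A) (1 : ℤ)).unitIso.symm.app _

/-- **Generators**: a morphism of `D(A)` inducing bijections on `Hom(A[-i], -)` for all `i` is an
isomorphism. -/
theorem isIso_of_bijective_hom_sglA {X Y : Dual.D A} (f : X ⟶ Y)
    (h : ∀ i : ℤ, Function.Bijective (fun g : Q.obj (sglA A i) ⟶ X => g ≫ f)) : IsIso f := by
  obtain ⟨Z, g, k, hT⟩ := distinguished_cocone_triangle f
  have hZ : ∀ i : ℤ, IsZero ((homologyFunctor (ModuleCat.{u} A) i).obj Z) := by
    intro i
    apply isZero_homology_of_subsingleton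
    refine subsingleton_hom_obj₃ _ hT (Q.obj (sglA A i)) (h i).surjective ?_
    intro (a : (Q.obj (sglA A i))⟦(-1 : ℤ)⟧ ⟶ X) (b : (Q.obj (sglA A i))⟦(-1 : ℤ)⟧ ⟶ X) hab
    have hab' : a ≫ f = b ≫ f := hab
    have e := sglShiftNegIso (A := A) i (i + 1) rfl
    have := (h (i + 1)).injective (a₁ := e.inv ≫ a) (a₂ := e.inv ≫ b) (by
      change (e.inv ≫ a) ≫ f = (e.inv ≫ b) ≫ f
      rw [Category.assoc, Category.assoc, hab'])
    exact (cancel_epi e.inv).1 this
  have hZ0 : IsZero Z := by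
    have h1 : Z.IsLE 0 := (isLE_iff Z 0).2 (fun i _ => hZ i)
    have h2 : Z.IsGE 1 := (isGE_iff Z 1).2 (fun i _ => hZ i)
    exact DerivedCategory.TStructure.t.isZero Z 0 1
  exact (Triangle.isZero₃_iff_isIso₁ _ hT).1 hZ0

end Groth.Agent.Lib.Helper25.WayOutCx
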