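import Groth.Agent.Lib.Helper25.DCompSingle

/-!
# Derived completion with respect to one element: the construction
-/

set_option autoImplicit false
universe u

namespace Groth.Agent.Lib.Helper25.DCompSingle

open CategoryTheory CategoryTheory.Limits MonoidalCategory HomologicalComplex CochainComplex
open CochainComplex.HomComplex DerivedCategory CategoryTheory.Pretriangulated
open Groth.Agent.Lib.Helper25.TensorCx Groth.Agent.Lib.Helper25.HomTensor
open Groth.Agent.Lib.Helper25.HomCxAdj Groth.Agent.Lib.Helper25.HomCxPre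
open Groth.Agent.Lib.Helper25.TensorKProj Groth.Agent.Lib.Helper25.DerAdj
open Groth.Agent.Lib.Helper25.DCompEval Groth.Agent.Lib.Helper25.DCompTri
open Groth.Agent.Lib.Helper25.SingleTensor Groth.Agent.Lib.Helper25.KFlat
open Groth.Agent.Lib.Helper25.DerCompleteHom

attribute [local instance] HasDerivedCategory.standard

variable {A : Type u} [CommRing A]

theorem isKFlat_sgl (M : ModuleCat.{u} A) [Module.Flat A M] : IsKFlat (sgl M) := by
  apply isKFlat_of_boundedAbove_of_flat (sgl M) 0
  · intro q hq
    exact isZero_single_obj_X (ComplexShape.up ℤ) 0 M q (by omega)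
  · intro q
    by_cases hq : q = 0
    · subst hq
      exact Module.Flat.of_linearEquiv
        (singleObjXSelf (ComplexShape.up ℤ) 0 M).toLinearEquiv
    · have := sgl_subsingleton M q hq
      infer_instance

/-- `x ↦ x ⊗ t` is a quasi-isomorphism as soon as `f` acts on `X` by a quasi-isomorphism -/
theorem quasiIso_rtMap {f : A} (R : AwayRes f) (X : Cx A) (hX : QuasiIso (f • 𝟙 X)) :
    QuasiIso (rtMap X R.T R.t R.ht) := by
  have hloc : QuasiIso (locMap f X) :=
    quasiIso_locMap f X (fInj_of_quasiIso_smul f X hX) (fSurj_of_quasiIso_smul f X hX)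
  have hsglflat : IsKFlat (sgl (ModuleCat.of A (Localization.Away f))) := isKFlat_sgl _
  have h1 : QuasiIso (X ◁ R.π) :=
    quasiIso_whiskerLeft_of_quasiIso_of_isKFlat R.π R.kflat hsglflat R.qis X
  have key : rtMap X R.T R.t R.ht ≫ ((X ◁ R.π) ≫
      (braid X (sgl (ModuleCat.of A (Localization.Away f)))).hom ≫
      (singleTensorIso (ModuleCat.of A (Localization.Away f)) X).inv) = locMap f X := by
    apply HomologicalComplex.hom_ext
    intro n
    apply ModuleCat.hom_ext
    apply LinearMap.ext
    intro x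
    change ((singleTensorIso (ModuleCat.of A (Localization.Away f)) X).inv.f n).hom
      (((braid X (sgl (ModuleCat.of A (Localization.Away f)))).hom.f n).hom
        (((X ◁ R.π).f n).hom (((rtMap X R.T R.t R.ht).f n).hom x))) = _
    rw [rtMap_f_apply]
    erw [whiskerLeft_tm X R.π n 0 n (add_zero n) x R.t]
    erw [braid_hom_f_apply, braidLin_tm]
    rw [mul_zero, Int.negOnePow_zero, one_smul, R.hπt]
    change outS (ModuleCat.of A (Localization.Away f)) X n
      (tm (sgl (ModuleCat.of A (Localization.Away f))) X 0 n n _ _ x) = _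
    rw [← inS_tmul, outS_inS]
    rfl
  have h2 : QuasiIso (rtMap X R.T R.t R.ht ≫ ((X ◁ R.π) ≫
      (braid X (sgl (ModuleCat.of A (Localization.Away f)))).hom ≫
      (singleTensorIso (ModuleCat.of A (Localization.Away f)) X).inv)) := by
    rw [key]
    exact hloc
  exact quasiIso_of_comp_right (rtMap X R.T R.t R.ht) ((X ◁ R.π) ≫
      (braid X (sgl (ModuleCat.of A (Localization.Away f)))).hom ≫
      (singleTensorIso (ModuleCat.of A (Localization.Away f)) X).inv)

/-- evaluation induces a bijection on maps from a K-projective complex on which `f` acts by a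
quasi-isomorphism -/
theorem bijective_comp_evalAt' {f : A} (R : AwayRes f) (X : Cx A) [X.IsKProjective]
    (hX : QuasiIso (f • 𝟙 X)) (M : Cx A) :
    Function.Bijective (fun φ : Q.obj X ⟶ Q.obj (DRing.homCx R.T M) =>
      φ ≫ Q.map (evalAt R.T M R.t R.ht)) :=
  bijective_comp_evalAt X R.T M R.t R.ht (quasiIso_rtMap R X hX)

section Bridge

theorem subsingleton_iff_forall_eq_zero {C : Type*} [Category C] [Preadditive C] (X Y : C) :
    Subsingleton (X ⟶ Y) ↔ ∀ φ : X ⟶ Y, φ = 0 :=
  ⟨fun h φ => h.elim _ _, fun h => ⟨fun a b => (h a).trans (h b).symm⟩⟩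

/-- `Q(T[m]) ≅ A_f[m]` -/
noncomputable def AwayRes.shiftIso {f : A} (R : AwayRes f) (m : ℤ) :
    Q.obj (R.T⟦m⟧) ≅ (Dual.inD A (Localization.Away f))⟦m⟧ :=
  (Q.commShiftIso m).app R.T ≪≫ (CategoryTheory.shiftFunctor (Dual.D A) m).mapIso
    (asIso (Q.map R.π) ≪≫
      ((DerivedCategory.singleFunctorIsoCompQ (ModuleCat.{u} A) 0).app
        (ModuleCat.of A (Localization.Away f))).symm)

theorem AwayRes.orth_iff {f : A} (R : AwayRes f) (Y : Dual.D A) :
    Orth (Dual.inD A (Localization.Away f)) Y ↔ ∀ m : ℤ, Subsingleton (Q.obj (R.T⟦m⟧) ⟶ Y) := by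
  have key : ∀ n : ℤ, Subsingleton (Dual.inD A (Localization.Away f) ⟶ Y⟦n⟧) ↔
      Subsingleton (Q.obj (R.T⟦-n⟧) ⟶ Y) := by
    intro n
    rw [subsingleton_iff_forall_eq_zero, subsingleton_iff_forall_eq_zero,
      Groth.Agent.Lib.Helper84.DComp.hom_shift_zero_iff]
    constructor
    · intro H ψ
      have := H ((R.shiftIso (-n)).inv ≫ ψ)
      exact (cancel_epi (R.shiftIso (-n)).inv).1 (this.trans comp_zero.symm)
    · intro H ψ
      have := H ((R.shiftIso (-n)).hom ≫ ψ)
      exact (cancel_epi (R.shiftIso (-n)).hom).1 (this.trans comp_zero.symm)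
  constructor
  · intro H m
    have := (key (-m)).1 (H (-m))
    rwa [neg_neg] at this
  · intro H n
    exact (key n).2 (H (-n))

end Bridge

end Groth.Agent.Lib.Helper25.DCompSingle
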