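import Groth.Agent.Lib.Helper25.HomCxAdj
import Groth.Agent.Lib.Helper25.HomCxPre

/-!
# More on the tensor-hom adjunction for complexes: homotopies and naturality in the middle variable
-/

set_option autoImplicit false
universe u

namespace Groth.Agent.Lib.Helper25.HomCxAdj

open CategoryTheory CategoryTheory.Limits MonoidalCategory HomologicalComplex TensorProduct
open CochainComplex.HomComplex
open Groth.Agent.Lib.Helper25.TensorCx Groth.Agent.Lib.Helper25.HomTensor
open Groth.Agent.Lib.Helper25.HomCxPre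

variable {R : Type u} [CommRing R] (E : Cx R)

theorem fwd_add {K M : Cx R} {n : ℤ} (φ φ' : Cochain K (DRing.homCx E M) n) :
    fwd (φ + φ') = fwd φ + fwd φ' :=
  (equiv K E M n).map_add φ φ'

theorem bwd_add {K M : Cx R} {n : ℤ} (ψ ψ' : Cochain (K ⊗ E : Cx R) M n) :
    bwd (ψ + ψ') = bwd ψ + bwd ψ' :=
  (equiv K E M n).symm.map_add ψ ψ'

/-- uncurrying preserves homotopies -/
noncomputable def uncurryHomotopy {K M : Cx R} {f f' : K ⟶ DRing.homCx E M} (h : Homotopy f f') :
    Homotopy (uncurry E f) (uncurry E f') :=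
  (Cochain.equivHomotopy _ _).symm ⟨fwd (Cochain.equivHomotopy f f' h).1, by
    have h2 := congrArg (fwd (K := K) (L := E) (M := M)) (Cochain.equivHomotopy f f' h).2
    rw [fwd_add, fwd_δ (by omega : (-1 : ℤ) + 1 = 0)] at h2
    rw [ofHom_uncurry, ofHom_uncurry]
    exact h2⟩

/-- currying preserves homotopies -/
noncomputable def curryHomotopy {K M : Cx R} {g g' : (K ⊗ E : Cx R) ⟶ M} (h : Homotopy g g') :
    Homotopy (curry E g) (curry E g') :=
  (Cochain.equivHomotopy _ _).symm ⟨bwd (Cochain.equivHomotopy g g' h).1, by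
    have h2 := congrArg (bwd (K := K) (L := E) (M := M)) (Cochain.equivHomotopy g g' h).2
    rw [bwd_add, bwd_δ E (by omega : (-1 : ℤ) + 1 = 0)] at h2
    rw [ofHom_curry, ofHom_curry]
    exact h2⟩

theorem uncurry_zero {K M : Cx R} : uncurry E (0 : K ⟶ DRing.homCx E M) = 0 := by
  apply Cochain.ofHom_injective
  rw [ofHom_uncurry, Cochain.ofHom_zero, Cochain.ofHom_zero, fwd_zero]

theorem curry_zero {K M : Cx R} : curry E (0 : (K ⊗ E : Cx R) ⟶ M) = 0 := by
  apply Cochain.ofHom_injective
  rw [ofHom_curry, Cochain.ofHom_zero, Cochain.ofHom_zero, bwd_zero]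

/-- `f` is null-homotopic iff its uncurrying is -/
theorem nonempty_homotopy_zero_iff {K M : Cx R} (f : K ⟶ DRing.homCx E M) :
    Nonempty (Homotopy f 0) ↔ Nonempty (Homotopy (uncurry E f) 0) := by
  constructor
  · rintro ⟨h⟩
    have := uncurryHomotopy E h
    rw [uncurry_zero] at this
    exact ⟨this⟩
  · rintro ⟨h⟩
    have := curryHomotopy E h
    rw [curry_zero, curry_uncurry] at this
    exact ⟨this⟩

variable {E}

/-- naturality of uncurrying in the middle variable -/
theorem uncurry_naturality_mid {E' : Cx R} {K M : Cx R} (u : E' ⟶ E) (f : K ⟶ DRing.homCx E M) :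
    uncurry E' (f ≫ homCxPre u M) = (K ◁ u) ≫ uncurry E f := by
  apply HomologicalComplex.hom_ext
  intro m
  apply ModuleCat.hom_ext
  apply lin_ext K E'
  intro p a hpa k l
  rw [uncurry_f_tm E' (f ≫ homCxPre u M) p a m hpa k l]
  have hR : ((K ◁ u ≫ uncurry E f).f m).hom (tm K E' p a m hpa k l) =
      ((uncurry E f).f m).hom (((K ◁ u).f m).hom (tm K E' p a m hpa k l)) := rfl
  rw [hR]
  erw [whiskerLeft_tm K u p a m hpa k l]
  rw [uncurry_f_tm E f p a m hpa k _]
  change (((Cochain.ofHom u).comp (toCochain E M p ((f.f p).hom k)) (zero_add p)).v a m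
    (by omega)).hom l = _
  rw [Cochain.zero_cochain_comp_v, Cochain.ofHom_v]
  rfl

end Groth.Agent.Lib.Helper25.HomCxAdj
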