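import Groth.Agent.Lib.Helper25.TensorBraid
import Groth.Prelude.Def_DRing4

/-!
# The tensor-hom isomorphism of complexes

`homCx K (homCx L M) ≅ homCx (K ⊗ L) M`.
-/

set_option autoImplicit false
universe u

namespace Groth.Agent.Lib.Helper25.HomTensor

open CategoryTheory CategoryTheory.Limits MonoidalCategory HomologicalComplex TensorProduct
open CochainComplex.HomComplex
open Groth.Agent.Lib.Helper25.TensorCx

variable {R : Type u} [CommRing R] (K L M : Cx R)

theorem idx_eq {m : ℤ} (i : Idx m) : i.1.1 + i.1.2 = m := i.2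

/-- an element of the Hom complex as a cochain -/
noncomputable def toCochain (q : ℤ) : ((DRing.homCx L M).X q) →ₗ[R] Cochain L M q := LinearMap.id

/-- a cochain as an element of the Hom complex -/
noncomputable def ofCochain (q : ℤ) : Cochain L M q →ₗ[R] ((DRing.homCx L M).X q) := LinearMap.id

@[simp]
theorem toCochain_ofCochain (q : ℤ) (z : Cochain L M q) : toCochain L M q (ofCochain L M q z) = z :=
  rfl

@[simp]
theorem ofCochain_toCochain (q : ℤ) (z : (DRing.homCx L M).X q) :
    ofCochain L M q (toCochain L M q z) = z := rfl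

theorem toCochain_injective (q : ℤ) : Function.Injective (toCochain L M q) := fun _ _ h => h

theorem toCochain_d (q q' : ℤ) (z : (DRing.homCx L M).X q) :
    toCochain L M q' (((DRing.homCx L M).d q q').hom z) = δ q q' (toCochain L M q z) := rfl

/-- evaluation of a cochain at a pair of degrees, as a linear map -/
noncomputable def evalV {q : ℤ} (a b : ℤ) (hab : a + q = b) :
    Cochain L M q →ₗ[R] (L.X a →ₗ[R] M.X b) where
  toFun z := (z.v a b hab).hom
  map_add' z z' := by
    rw [Cochain.add_v, ModuleCat.hom_add]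
  map_smul' r z := by
    rw [Cochain.smul_v, ModuleCat.hom_smul]
    rfl

@[simp]
theorem evalV_apply {q : ℤ} (a b : ℤ) (hab : a + q = b) (z : Cochain L M q) (l : L.X a) :
    evalV L M a b hab z l = (z.v a b hab).hom l := rfl

section Fwd

variable {K L M} {n : ℤ} (φ : Cochain K (DRing.homCx L M) n)

/-- the bilinear map `K^p × L^a → M^b` attached to `φ` -/
noncomputable def bil (p q : ℤ) (hpq : p + n = q) (a b : ℤ) (hab : a + q = b) :
    K.X p →ₗ[R] L.X a →ₗ[R] M.X b :=
  evalV L M a b hab ∘ₗ toCochain L M q ∘ₗ (φ.v p q hpq).hom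

theorem bil_apply (p q : ℤ) (hpq : p + n = q) (a b : ℤ) (hab : a + q = b) (k : K.X p)
    (l : L.X a) :
    bil φ p q hpq a b hab k l = ((toCochain L M q ((φ.v p q hpq).hom k)).v a b hab).hom l := rfl

/-- the components of the forward map -/
noncomputable def fwdV (m m' : ℤ) (hm : m + n = m') : ((K ⊗ L : Cx R).X m) →ₗ[R] M.X m' :=
  desc K L (fun i : Idx m => TensorProduct.lift
    (bil φ i.1.1 (i.1.1 + n) rfl i.1.2 m' (by have := idx_eq i; omega)))

theorem fwdV_tm (m m' : ℤ) (hm : m + n = m') (p a : ℤ) (h : p + a = m) (q : ℤ) (hpq : p + n = q)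
    (k : K.X p) (l : L.X a) :
    fwdV φ m m' hm (tm K L p a m h k l) = bil φ p q hpq a m' (by omega) k l := by
  subst hpq
  unfold fwdV
  rw [desc_tm]
  rfl

/-- the forward map `Hom(K, Hom(L, M)) → Hom(K ⊗ L, M)` -/
noncomputable def fwd : Cochain (K ⊗ L : Cx R) M n :=
  Cochain.mk (fun m m' hm => ModuleCat.ofHom (fwdV φ m m' hm))

theorem fwd_tm (m m' : ℤ) (hm : m + n = m') (p a : ℤ) (h : p + a = m) (q : ℤ) (hpq : p + n = q)
    (k : K.X p) (l : L.X a) :
    ((fwd φ).v m m' hm).hom (tm K L p a m h k l) =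
      ((toCochain L M q ((φ.v p q hpq).hom k)).v a m' (by omega)).hom l := by
  unfold fwd
  rw [Cochain.mk_v]
  exact fwdV_tm φ m m' hm p a h q hpq k l

end Fwd

section Bwd

variable {K L M} {n : ℤ} (ψ : Cochain (K ⊗ L : Cx R) M n)

/-- the cochain `l ↦ ψ (k ⊗ l)` -/
noncomputable def bwdC (p q : ℤ) (hpq : p + n = q) (k : K.X p) : Cochain L M q :=
  Cochain.mk (fun a b hab => ModuleCat.ofHom
    ((ψ.v (p + a) b (by omega)).hom ∘ₗ inc K L p a (p + a) rfl ∘ₗ TensorProduct.mk R _ _ k))

theorem bwdC_v (p q : ℤ) (hpq : p + n = q) (k : K.X p) (a b : ℤ) (hab : a + q = b) (m : ℤ)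
    (hm : p + a = m) (l : L.X a) :
    ((bwdC ψ p q hpq k).v a b hab).hom l = (ψ.v m b (by omega)).hom (tm K L p a m hm k l) := by
  subst hm
  rfl

/-- `k ↦ (l ↦ ψ (k ⊗ l))` as a linear map -/
noncomputable def bwdV (p q : ℤ) (hpq : p + n = q) : K.X p →ₗ[R] Cochain L M q where
  toFun k := bwdC ψ p q hpq k
  map_add' k k' := by
    ext a b hab l
    rw [Cochain.add_v, ModuleCat.hom_add, LinearMap.add_apply, bwdC_v ψ p q hpq _ a b hab _ rfl,
      bwdC_v ψ p q hpq _ a b hab _ rfl, bwdC_v ψ p q hpq _ a b hab _ rfl, tm_add_left, map_add]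
  map_smul' r k := by
    ext a b hab l
    rw [Cochain.smul_v, ModuleCat.hom_smul, LinearMap.smul_apply,
      bwdC_v ψ p q hpq _ a b hab _ rfl, bwdC_v ψ p q hpq _ a b hab _ rfl, tm_smul_left, map_smul]
    rfl

/-- the backward map `Hom(K ⊗ L, M) → Hom(K, Hom(L, M))` -/
noncomputable def bwd : Cochain K (DRing.homCx L M) n :=
  Cochain.mk (fun p q hpq => ModuleCat.ofHom (ofCochain L M q ∘ₗ bwdV ψ p q hpq))

theorem bwd_apply (p q : ℤ) (hpq : p + n = q) (k : K.X p) (a b : ℤ) (hab : a + q = b) (m : ℤ)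
    (hm : p + a = m) (l : L.X a) :
    ((toCochain L M q (((bwd ψ).v p q hpq).hom k)).v a b hab).hom l =
      (ψ.v m b (by omega)).hom (tm K L p a m hm k l) := by
  unfold bwd
  rw [Cochain.mk_v]
  exact bwdC_v ψ p q hpq k a b hab m hm l

end Bwd

section Equiv

variable {K L M} {n : ℤ}

theorem cochain_tensor_ext {ψ ψ' : Cochain (K ⊗ L : Cx R) M n}
    (h : ∀ (m m' : ℤ) (hm : m + n = m') (p a : ℤ) (hpa : p + a = m) (k : K.X p) (l : L.X a),
      (ψ.v m m' hm).hom (tm K L p a m hpa k l) = (ψ'.v m m' hm).hom (tm K L p a m hpa k l)) :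
    ψ = ψ' := by
  ext m m' hm : 1
  apply ModuleCat.hom_ext
  apply lin_ext K L
  intro p a hpa k l
  exact h m m' hm p a hpa k l

theorem cochain_hom_ext {φ φ' : Cochain K (DRing.homCx L M) n}
    (h : ∀ (p q : ℤ) (hpq : p + n = q) (k : K.X p) (a b : ℤ) (hab : a + q = b) (l : L.X a),
      ((toCochain L M q ((φ.v p q hpq).hom k)).v a b hab).hom l =
        ((toCochain L M q ((φ'.v p q hpq).hom k)).v a b hab).hom l) :
    φ = φ' := by
  ext p q hpq : 1
  apply ModuleCat.hom_ext
  apply LinearMap.ext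
  intro k
  apply toCochain_injective L M q
  ext a b hab : 1
  apply ModuleCat.hom_ext
  apply LinearMap.ext
  intro l
  exact h p q hpq k a b hab l

theorem fwd_bwd (ψ : Cochain (K ⊗ L : Cx R) M n) : fwd (bwd ψ) = ψ := by
  apply cochain_tensor_ext
  intro m m' hm p a hpa k l
  rw [fwd_tm (bwd ψ) m m' hm p a hpa (p + n) rfl k l, bwd_apply ψ p (p + n) rfl k a m' _ m hpa l]

theorem bwd_fwd (φ : Cochain K (DRing.homCx L M) n) : bwd (fwd φ) = φ := by
  apply cochain_hom_ext
  intro p q hpq k a b hab l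
  rw [bwd_apply (fwd φ) p q hpq k a b hab (p + a) rfl l,
    fwd_tm φ (p + a) b (by omega) p a rfl q hpq k l]

variable (K L M n) in
/-- the tensor-hom equivalence in degree `n` -/
noncomputable def equiv : Cochain K (DRing.homCx L M) n ≃ₗ[R] Cochain (K ⊗ L : Cx R) M n where
  toFun := fwd
  invFun := bwd
  left_inv := bwd_fwd
  right_inv := fwd_bwd
  map_add' φ φ' := by
    apply cochain_tensor_ext
    intro m m' hm p a hpa k l
    rw [Cochain.add_v, ModuleCat.hom_add, LinearMap.add_apply,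
      fwd_tm _ m m' hm p a hpa (p + n) rfl k l, fwd_tm _ m m' hm p a hpa (p + n) rfl k l,
      fwd_tm _ m m' hm p a hpa (p + n) rfl k l, Cochain.add_v, ModuleCat.hom_add,
      LinearMap.add_apply, map_add, Cochain.add_v, ModuleCat.hom_add, LinearMap.add_apply]
  map_smul' r φ := by
    apply cochain_tensor_ext
    intro m m' hm p a hpa k l
    rw [Cochain.smul_v, ModuleCat.hom_smul, LinearMap.smul_apply,
      fwd_tm _ m m' hm p a hpa (p + n) rfl k l, fwd_tm _ m m' hm p a hpa (p + n) rfl k l,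
      Cochain.smul_v, ModuleCat.hom_smul, LinearMap.smul_apply, map_smul, Cochain.smul_v,
      ModuleCat.hom_smul, LinearMap.smul_apply]
    rfl

end Equiv

section Delta

theorem δ_v_apply {F G : Cx R} {n m : ℤ} (hnm : n + 1 = m) (z : Cochain F G n) (p q : ℤ)
    (hpq : p + m = q) (x : F.X p) :
    ((δ n m z).v p q hpq).hom x =
      (G.d (q - 1) q).hom ((z.v p (q - 1) (by omega)).hom x) +
        (m.negOnePow : ℤˣ) • (z.v (p + 1) q (by omega)).hom ((F.d p (p + 1)).hom x) := by
  rw [δ_v n m hnm z p q hpq (q - 1) (p + 1) rfl rfl]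
  rw [ModuleCat.hom_add, LinearMap.add_apply, Units.smul_def, ModuleCat.hom_zsmul,
    LinearMap.smul_apply, ← Units.smul_def]
  rfl

variable {K L M}

theorem fwd_δ {n n' : ℤ} (hn : n + 1 = n') (φ : Cochain K (DRing.homCx L M) n) :
    fwd (δ n n' φ) = δ n n' (fwd φ) := by
  apply cochain_tensor_ext
  intro m m' hm p a hpa k l
  rw [fwd_tm (δ n n' φ) m m' hm p a hpa (p + n') rfl k l]
  rw [δ_v_apply hn φ p (p + n') rfl k, map_add, Cochain.add_v, ModuleCat.hom_add,
    LinearMap.add_apply, toCochain_d]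
  rw [δ_v_apply (by omega : (p + n' - 1) + 1 = p + n') _ a m' (by omega) l]
  rw [δ_v_apply hn (fwd φ) m m' hm (tm K L p a m hpa k l)]
  rw [d_tm K L p a m (m + 1) hpa rfl k l, map_add]
  rw [fwd_tm φ m (m' - 1) (by omega) p a hpa (p + n' - 1) (by omega) k l]
  rw [fwd_tm φ (m + 1) m' (by omega) (p + 1) a (by omega) (p + n') (by omega) _ l]
  rw [map_zsmul_unit (toCochain L M (p + n')), Cochain.units_smul_v]
  rw [map_zsmul_unit, fwd_tm φ (m + 1) m' (by omega) p (a + 1) (by omega) (p + n' - 1) (by omega) k _]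
  rw [Units.smul_def n'.negOnePow (Cochain.v _ a m' _), ModuleCat.hom_zsmul, LinearMap.smul_apply,
    ← Units.smul_def]
  rw [smul_add, smul_smul, ← Int.negOnePow_add, add_comm n' p]
  abel

variable (K L M)

/-- the tensor-hom isomorphism of complexes -/
noncomputable def homTensorIso : DRing.homCx K (DRing.homCx L M) ≅ DRing.homCx (K ⊗ L : Cx R) M :=
  HomologicalComplex.Hom.isoOfComponents
    (fun n => (equiv K L M n).toModuleIso)
    (fun n n' hn => by
      apply ModuleCat.hom_ext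
      apply LinearMap.ext
      intro φ
      exact (fwd_δ (K := K) (L := L) (M := M) hn φ).symm)

end Delta

end Groth.Agent.Lib.Helper25.HomTensor
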