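import Groth.Agent.Lib.Helper25.RHomKInj
import Groth.Agent.Lib.Helper25.HomCxAdj2
import Groth.Agent.Lib.Helper25.HomTensor
import Groth.Agent.Lib.Helper25.DCompSingle2
import Groth.Agent.Lib.Helper25.AwayMul

/-!
# `RHom(E₁, RHom(E₂, K)) ≅ RHom(E₁ ⊗ E₂, K)` for K-flat `E₂`
-/

set_option autoImplicit false
universe u

namespace Groth.Agent.Lib.Helper25.RHomTensor

open CategoryTheory CategoryTheory.Limits MonoidalCategory HomologicalComplex CochainComplex
open DerivedCategory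
open Groth.Agent.Lib.Helper25.TensorCx Groth.Agent.Lib.Helper25.RHomKInj
open Groth.Agent.Lib.Helper25.HomCxPre Groth.Agent.Lib.Helper25.KFlat
open Groth.Agent.Lib.Helper25.SingleTensor

attribute [local instance] HasDerivedCategory.standard

variable {A : Type u} [CommRing A]

theorem kflat_acyclic_iff (L : Cx A) : KFlat.Acyclic L ↔ HomologicalComplex.Acyclic L :=
  forall_congr' fun i => (HomologicalComplex.exactAt_iff_isZero_homology L i).symm

/-- `Hom•(E, J)` is K-injective for `E` K-flat and `J` K-injective. -/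
theorem isKInjective_homCx (E J : Cx A) (hE : IsKFlat E) [J.IsKInjective] :
    (DRing.homCx E J).IsKInjective := by
  refine ⟨fun {K} f hK => ?_⟩
  rw [HomCxAdj.nonempty_homotopy_zero_iff]
  apply CochainComplex.IsKInjective.nonempty_homotopy_zero
  exact (kflat_acyclic_iff _).1 (hE K ((kflat_acyclic_iff K).2 hK))

/-- `Hom•(-, J)` on an isomorphism -/
noncomputable def homCxPreIso {P P' : Cx A} (c : P ≅ P') (J : Cx A) :
    DRing.homCx P' J ≅ DRing.homCx P J where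
  hom := homCxPre c.hom J
  inv := homCxPre c.inv J
  hom_inv_id := by rw [← homCxPre_comp, c.inv_hom_id, homCxPre_id]
  inv_hom_id := by rw [← homCxPre_comp, c.hom_inv_id, homCxPre_id]

theorem nonempty_iso_of_tensor (E₁ E₂ E₃ : Cx A) [DRing.HasRHomCx E₁] [DRing.HasRHomCx E₂]
    [DRing.HasRHomCx E₃] (hE₂ : IsKFlat E₂) (c : E₃ ≅ (E₁ ⊗ E₂ : Cx A)) (K : Dual.D A) :
    Nonempty ((DRing.RHomCx E₁).obj ((DRing.RHomCx E₂).obj K) ≅ (DRing.RHomCx E₃).obj K) := by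
  obtain ⟨J, hJ, ⟨e⟩⟩ := exists_kInj K
  haveI := hJ
  let i1 : (DRing.RHomCx E₂).obj K ≅ Q.obj (DRing.homCx E₂ J) :=
    (DRing.RHomCx E₂).mapIso e.symm ≪≫ isoOfKInj E₂ J
  haveI := isKInjective_homCx E₂ J hE₂
  let i2 : (DRing.RHomCx E₁).obj ((DRing.RHomCx E₂).obj K) ≅
      Q.obj (DRing.homCx E₁ (DRing.homCx E₂ J)) :=
    (DRing.RHomCx E₁).mapIso i1 ≪≫ isoOfKInj E₁ (DRing.homCx E₂ J)
  let i3 : Q.obj (DRing.homCx E₁ (DRing.homCx E₂ J)) ≅ Q.obj (DRing.homCx (E₁ ⊗ E₂ : Cx A) J) :=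
    Q.mapIso (HomTensor.homTensorIso E₁ E₂ J)
  let i4 : Q.obj (DRing.homCx (E₁ ⊗ E₂ : Cx A) J) ≅ Q.obj (DRing.homCx E₃ J) :=
    Q.mapIso (homCxPreIso c J)
  let i5 : (DRing.RHomCx E₃).obj K ≅ Q.obj (DRing.homCx E₃ J) :=
    (DRing.RHomCx E₃).mapIso e.symm ≪≫ isoOfKInj E₃ J
  exact ⟨i2 ≪≫ i3 ≪≫ i4 ≪≫ i5.symm⟩

/-- `M[0] ⊗ N[0] ≅ (M ⊗ N)[0]` -/
noncomputable def sglTensorSgl (M N : ModuleCat.{u} A) :
    (sgl M ⊗ sgl N : Cx A) ≅ sgl (M ⊗ N) :=
  (singleTensorIso M (sgl N)).symm ≪≫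
    (HomologicalComplex.singleMapHomologicalComplex (tensorLeft M) (ComplexShape.up ℤ) 0).app N

theorem aux7099 (f g : A)
    [DRing.HasRHomCx (sgl (ModuleCat.of A (Localization.Away f)))]
    [DRing.HasRHomCx (sgl (ModuleCat.of A (Localization.Away g)))]
    [DRing.HasRHomCx (sgl (ModuleCat.of A (Localization.Away (f * g))))]
    (K : Dual.D A) :
    Nonempty ((DRing.RHomCx (sgl (ModuleCat.of A (Localization.Away f)))).obj
      ((DRing.RHomCx (sgl (ModuleCat.of A (Localization.Away g)))).obj K) ≅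
      (DRing.RHomCx (sgl (ModuleCat.of A (Localization.Away (f * g))))).obj K) := by
  refine nonempty_iso_of_tensor _ _ _ (DCompSingle.isKFlat_sgl _) ?_ K
  refine (sglTensorSgl _ _ ≪≫
    (HomologicalComplex.single (ModuleCat.{u} A) (ComplexShape.up ℤ) 0).mapIso
      (AwayMul.awayMulEquiv f g).toModuleIso).symm

end Groth.Agent.Lib.Helper25.RHomTensor
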