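import Groth.Agent.Lib.Helper25.CoconeSplit
import Groth.Agent.Lib.Helper25.TriBij
import Groth.Agent.Lib.Helper25.DCompSingle2
import Groth.Agent.Lib.Helper25.RHomTensor
import Groth.Agent.Lib.Helper47.ExtCechLib
import Groth.Agent.Lib.Helper98.CechFun
import Mathlib.Algebra.Homology.DerivedCategory.ShortExact

/-!
# The Čech tower and reflections onto derived complete objects, abstract step

For a functor `Φ` on complexes preserving degreewise split short exact sequences and such that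
`f` acts by a quasi-isomorphism on `Φ X` whenever it acts by an isomorphism on `X`, the map
`Φ (Hom•(A[0], M)) ⟶ Φ (Hom•(Č(fs), M))` induces bijections on maps to objects which are derived
complete with respect to all `f ∈ fs`.
-/

set_option autoImplicit false
universe u

namespace Groth.Agent.Lib.Helper25.CechRefl

open CategoryTheory CategoryTheory.Limits HomologicalComplex CochainComplex
open CochainComplex.HomComplex DerivedCategory CategoryTheory.Pretriangulated
open Groth.Agent.Lib.Helper25.HomCxSplit Groth.Agent.Lib.Helper25.HomCxPre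
open Groth.Agent.Lib.Helper25.CoconeSplit Groth.Agent.Lib.Helper25.DCompTri
open Groth.Agent.Lib.Helper25.DerCompleteHom

attribute [local instance] HasDerivedCategory.standard

variable {A : Type u} [CommRing A]

/-- `f` acts by an isomorphism on the localization at the powers of `f` -/
theorem isIso_smul_locCx (f : A) (X : DRing.Cx A) :
    IsIso (f • 𝟙 ((DerCA.locCx (Submonoid.powers f)).obj X)) := by
  have : ∀ n, IsIso ((f • 𝟙 ((DerCA.locCx (Submonoid.powers f)).obj X)).f n) := by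
    intro n
    rw [ConcreteCategory.isIso_iff_bijective]
    exact Groth.Agent.Lib.Helper47.ExtCech.smul_bijective_localizedModule (Submonoid.powers f)
      (X.X n) f (Submonoid.mem_powers f)
  exact HomologicalComplex.Hom.isIso_of_components _

theorem isIso_smul_shift (f : A) (Y : DRing.Cx A) (h : IsIso (f • 𝟙 Y)) (n : ℤ) :
    IsIso (f • 𝟙 (Y⟦n⟧)) := by
  have h1 : f • 𝟙 (Y⟦n⟧) = (f • 𝟙 Y)⟦n⟧' := by
    ext i : 1
    rfl
  rw [h1]
  infer_instance

theorem isIso_smul_homCxPre (f : A) (Y M : DRing.Cx A) (h : IsIso (f • 𝟙 Y)) :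
    IsIso (f • 𝟙 (DRing.homCx Y M)) := by
  rw [DCompSingle.smul_id_homCx]
  exact (RHomTensor.homCxPreIso (asIso (f • 𝟙 Y)) M).isIso_hom

theorem smul_id_homCx_post (f : A) (K X : DRing.Cx A) :
    f • 𝟙 (DRing.homCx K X) = DRing.homCxMap K (f • 𝟙 X) := by
  apply HomologicalComplex.hom_ext
  intro i
  apply ModuleCat.hom_ext
  apply LinearMap.ext
  intro z
  change Cochain K X i at z
  change f • z = z.comp (Cochain.ofHom (f • 𝟙 X)) (add_zero i)
  apply Cochain.ext
  intro p q hpq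
  rw [Cochain.comp_zero_cochain_v, Cochain.ofHom_v, Cochain.smul_v]
  have h1 : (f • 𝟙 X : X ⟶ X).f q = f • 𝟙 (X.X q) := rfl
  rw [h1, Linear.comp_smul, Category.comp_id]

theorem isIso_smul_homCxMap (f : A) (K X : DRing.Cx A) (h : IsIso (f • 𝟙 X)) :
    IsIso (f • 𝟙 (DRing.homCx K X)) := by
  rw [smul_id_homCx_post]
  exact (DRing.homCxFunctor K).map_isIso (f • 𝟙 X)

section Abstract

variable (Φ : DRing.Cx A ⥤ DRing.Cx A) [Φ.PreservesZeroMorphisms]
  (h₁ : ∀ S : ShortComplex (DRing.Cx A), DSplit S → (S.map Φ).ShortExact)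
  (h₂ : ∀ (f : A) (X : DRing.Cx A), IsIso (f • 𝟙 X) → QuasiIso (f • 𝟙 (Φ.obj X)))

include h₁ h₂ in
theorem bijective_step (f : A) (X M : DRing.Cx A) (E : Dual.D A)
    (hE : Orth (Dual.inD A (Localization.Away f)) E) :
    Function.Bijective (fun ψ : Q.obj (Φ.obj (DRing.homCx (mappingCocone
        (DerCA.locCxUnit (Submonoid.powers f) X)) M)) ⟶ E =>
      Q.map (Φ.map (homCxPre (mappingCocone.fst (DerCA.locCxUnit (Submonoid.powers f) X)) M)) ≫
        ψ) := by
  let u := DerCA.locCxUnit (Submonoid.powers f) X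
  let S₁ := preSC M (coconeSC u)
  have hS₂ : (S₁.map Φ).ShortExact := h₁ S₁ (dsplitPreSC M (coconeSC u) (coconeDSplit u))
  have hT := triangleOfSES_distinguished hS₂
  let X₃ : DRing.Cx A := Φ.obj (DRing.homCx (((DerCA.locCx (Submonoid.powers f)).obj X)⟦(-1 : ℤ)⟧) M)
  have hq : QuasiIso (f • 𝟙 X₃) :=
    h₂ f _ (isIso_smul_homCxPre f _ M (isIso_smul_shift f _ (isIso_smul_locCx f X) (-1)))
  have h0 : Subsingleton (Q.obj X₃ ⟶ E) := subsingleton_hom_of_quasiIso_smul f X₃ hq E hE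
  have h1 : Subsingleton ((Q.obj X₃)⟦(-1 : ℤ)⟧ ⟶ E) := by
    have h := subsingleton_hom_of_quasiIso_smul f (X₃⟦(-1 : ℤ)⟧)
      (DCompSingle.quasiIso_smul_shift f X₃ hq (-1)) E hE
    constructor
    intro a b
    have := h.elim (((Q.commShiftIso (-1 : ℤ)).app X₃).hom ≫ a)
      (((Q.commShiftIso (-1 : ℤ)).app X₃).hom ≫ b)
    exact (cancel_epi _).1 this
  exact TriBij.bijective_precomp_mor₁ (triangleOfSES hS₂) hT E h0 h1

omit [Φ.PreservesZeroMorphisms] in
theorem nil_aux (M : DRing.Cx A) {X : DRing.Cx A} (π : X ⟶ X) (hπ : π = 𝟙 X) (E : Dual.D A) :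
    Function.Bijective (fun ψ : Q.obj (Φ.obj (DRing.homCx X M)) ⟶ E =>
      Q.map (Φ.map (homCxPre π M)) ≫ ψ) := by
  subst hπ
  have h' : (fun ψ : Q.obj (Φ.obj (DRing.homCx X M)) ⟶ E =>
      Q.map (Φ.map (homCxPre (𝟙 X) M)) ≫ ψ) = id := by
    funext ψ
    rw [homCxPre_id, Φ.map_id, Q.map_id, Category.id_comp]
    rfl
  rw [h']
  exact Function.bijective_id

omit [Φ.PreservesZeroMorphisms] in
theorem cons_aux (M : DRing.Cx A) {X Y Z : DRing.Cx A} (a : X ⟶ Y) (b : Y ⟶ Z) (E : Dual.D A)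
    (ha : Function.Bijective (fun ψ : Q.obj (Φ.obj (DRing.homCx X M)) ⟶ E =>
      Q.map (Φ.map (homCxPre a M)) ≫ ψ))
    (hb : Function.Bijective (fun ψ : Q.obj (Φ.obj (DRing.homCx Y M)) ⟶ E =>
      Q.map (Φ.map (homCxPre b M)) ≫ ψ)) :
    Function.Bijective (fun ψ : Q.obj (Φ.obj (DRing.homCx X M)) ⟶ E =>
      Q.map (Φ.map (homCxPre (a ≫ b) M)) ≫ ψ) := by
  have h' : (fun ψ : Q.obj (Φ.obj (DRing.homCx X M)) ⟶ E =>
      Q.map (Φ.map (homCxPre (a ≫ b) M)) ≫ ψ) =
      (fun ψ' => Q.map (Φ.map (homCxPre b M)) ≫ ψ') ∘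
        (fun ψ => Q.map (Φ.map (homCxPre a M)) ≫ ψ) := by
    funext ψ
    rw [homCxPre_comp, Φ.map_comp, Q.map_comp, Category.assoc]
    rfl
  rw [h']
  exact hb.comp ha

include h₁ h₂ in
theorem bijective_cech (M : DRing.Cx A) : ∀ (fs : List A) (E : Dual.D A),
    (∀ f ∈ fs, Orth (Dual.inD A (Localization.Away f)) E) →
    Function.Bijective (fun ψ : Q.obj (Φ.obj (DRing.homCx
        (DerCA.extCech (ModuleCat.of A A) fs) M)) ⟶ E =>
      Q.map (Φ.map (homCxPre (Helper98.CechFun.cechPi (ModuleCat.of A A) fs) M)) ≫ ψ) := by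
  intro fs
  induction fs with
  | nil =>
    intro E _
    exact nil_aux Φ M (Helper98.CechFun.cechPi (ModuleCat.of A A) []) rfl E
  | cons f fs ih =>
    intro E hE
    have hstep := bijective_step Φ h₁ h₂ f (DerCA.extCech (ModuleCat.of A A) fs) M E
      (hE f List.mem_cons_self)
    have hih := ih E (fun g hg => hE g (List.mem_cons_of_mem _ hg))
    exact cons_aux Φ M (mappingCocone.fst (DerCA.locCxUnit (Submonoid.powers f)
      (DerCA.extCech (ModuleCat.of A A) fs))) (Helper98.CechFun.cechPi (ModuleCat.of A A) fs) E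
      hstep hih

end Abstract

end Groth.Agent.Lib.Helper25.CechRefl
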