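import Groth.Prelude.Def_DRing2
import Mathlib.Algebra.Homology.HomotopyCategory.KInjective
import Mathlib.Algebra.Category.Ring.Epi
import Mathlib.Algebra.Homology.ShortComplex.ModuleCat

set_option autoImplicit false
universe u
open CategoryTheory CategoryTheory.Limits
attribute [local instance] HasDerivedCategory.standard
open DRing

namespace Groth.Agent.Lib.Helper25.EpiKInj

open TensorProduct in
theorem smul_comm_of_epi {R S : Type u} [CommRing R] [CommRing S] (φ : R →+* S)
    (hφ : Epi (CommRingCat.ofHom φ)) {M N : Type*} [AddCommGroup M] [AddCommGroup N]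
    [Module S M] [Module S N]
    (g : M →+ N) (hg : ∀ (r : R) (m : M), g (φ r • m) = φ r • g m) (s : S) (m : M) :
    g (s • m) = s • g m := by
  let _ : Algebra R S := φ.toAlgebra
  have hepi : Algebra.IsEpi R S := CommRingCat.epi_iff_epi.mp hφ
  have h1 := (Algebra.isEpi_iff_forall_one_tmul_eq R S).mp hepi s
  let _ : Module R N := Module.compHom N φ
  have hsm : ∀ (r : R) (y : N), r • y = φ r • y := fun _ _ => rfl
  have hsm' : ∀ (r : R) (b : S), r • b = φ r * b := fun r b => Algebra.smul_def r b
  let F : S ⊗[R] S →ₗ[R] N := TensorProduct.lift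
    { toFun := fun a =>
        { toFun := fun b => a • g (b • m)
          map_add' := fun b b' => by rw [add_smul, map_add, smul_add]
          map_smul' := fun r b => by
            rw [RingHom.id_apply, hsm' r b, mul_smul, hg, hsm, smul_comm] }
      map_add' := fun a a' => by
        ext b
        change (a + a') • g (b • m) = a • g (b • m) + a' • g (b • m)
        rw [add_smul]
      map_smul' := fun r a => by
        ext b
        change (r • a) • g (b • m) = r • (a • g (b • m))
        rw [hsm' r a, mul_smul, hsm] }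
  have := congrArg F h1
  simpa [F] using this

end Groth.Agent.Lib.Helper25.EpiKInj

namespace Groth.Agent.Lib.Helper25.EpiKInj

theorem acyclic_iff' {A : Type u} [CommRing A] (L : DRing.Cx A) :
    L.Acyclic ↔ ∀ (n₀ n₁ n₂ : ℤ) (_ : n₀ + 1 = n₁) (_ : n₁ + 1 = n₂)
    (z : L.X n₁), L.d n₁ n₂ z = 0 → ∃ w : L.X n₀, L.d n₀ n₁ w = z := by
  constructor
  · intro h n₀ n₁ n₂ h01 h12 z hz
    have h1 : L.ExactAt n₁ := h n₁
    rw [L.exactAt_iff' n₀ n₁ n₂ (by simp; omega) (by simp; omega)] at h1
    rw [ShortComplex.moduleCat_exact_iff] at h1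
    exact h1 z hz
  · intro h i
    rw [L.exactAt_iff' (i - 1) i (i + 1) (by simp) (by simp),
      ShortComplex.moduleCat_exact_iff]
    exact fun z hz => h (i - 1) i (i + 1) (by omega) rfl z hz

theorem isKInjective_of_epi (R S : Type u) [CommRing R] [CommRing S] (φ : R →+* S)
    (hφ : Epi (CommRingCat.ofHom φ)) (I : DRing.Cx S)
    [CochainComplex.IsKInjective ((DRing.restrictCx φ).obj I)] : CochainComplex.IsKInjective I := by
  refine ⟨fun {K} f hK => ?_⟩
  have hK' : ((DRing.restrictCx φ).obj K).Acyclic := by
    rw [acyclic_iff'] at hK ⊢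
    intro n₀ n₁ n₂ h01 h12 z hz
    exact hK n₀ n₁ n₂ h01 h12 z hz
  obtain ⟨h⟩ := CochainComplex.IsKInjective.nonempty_homotopy_zero ((DRing.restrictCx φ).map f) hK'
  let hh : ∀ i j : ℤ, K.X i → I.X j := fun i j x => (h.hom i j).hom x
  have hadd : ∀ (i j : ℤ) (a b : K.X i), hh i j (a + b) = hh i j a + hh i j b :=
    fun i j a b => map_add (h.hom i j).hom a b
  have hlin : ∀ (i j : ℤ) (s : S) (x : K.X i), hh i j (s • x) = s • hh i j x := by
    intro i j s x
    refine smul_comm_of_epi φ hφ (M := K.X i) (N := I.X j)
      (AddMonoidHom.mk' (hh i j) (hadd i j)) (fun r m => ?_) s x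
    exact (h.hom i j).hom.map_smul r m
  refine ⟨{
    hom := fun i j => ModuleCat.ofHom
      { toFun := hh i j
        map_add' := hadd i j
        map_smul' := fun s x => hlin i j s x }
    zero := fun i j hij => by
      ext x
      have := congrArg (fun g => g.hom x) (h.zero i j hij)
      exact this
    comm := fun i => by
      ext x
      have := congrArg (fun g => g.hom x) (h.comm i)
      rw [dNext_eq _ (show (ComplexShape.up ℤ).Rel i (i + 1) from rfl),
        prevD_eq _ (show (ComplexShape.up ℤ).Rel (i - 1) i by simp)] at this ⊢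
      simp only [HomologicalComplex.zero_f, add_zero] at this ⊢
      exact this }⟩

end Groth.Agent.Lib.Helper25.EpiKInj
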