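import Groth.Agent.Lib.Helper25.HomCxAdj
import Groth.Agent.Lib.Helper25.EpiKInj
import Mathlib.Algebra.Homology.DerivedCategory.KProjective

/-!
# Maps out of `P ⊗ T` for K-projective `P`

If `Hom•(T, L)` is acyclic and `P` is K-projective, every chain map `P ⊗ T ⟶ L` is null-homotopic.
Consequences: the tensor product of K-projective complexes is K-projective.
-/

set_option autoImplicit false
universe u

namespace Groth.Agent.Lib.Helper25.TensorKProj

open CategoryTheory CategoryTheory.Limits MonoidalCategory HomologicalComplex CochainComplex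
open CochainComplex.HomComplex
open Groth.Agent.Lib.Helper25.TensorCx Groth.Agent.Lib.Helper25.HomTensor
open Groth.Agent.Lib.Helper25.HomCxAdj

variable {R : Type u} [CommRing R]

theorem acyclic_shift (K : Cx R) (hK : K.Acyclic) (n : ℤ) : (K⟦n⟧).Acyclic := by
  rw [← HomotopyCategory.quotient_obj_mem_subcategoryAcyclic_iff_acyclic] at hK ⊢
  exact ObjectProperty.prop_of_iso _
    (((HomotopyCategory.quotient (ModuleCat.{u} R) (.up ℤ)).commShiftIso n).symm.app K)
    ((HomotopyCategory.subcategoryAcyclic (ModuleCat.{u} R)).le_shift n _ hK)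

/-- `Hom•(T, L)` is acyclic as soon as all the chain maps `T ⟶ L⟦n⟧` are zero in the homotopy
category. -/
theorem acyclic_homCx_of_forall (T L : Cx R)
    (h : ∀ (n : ℤ) (φ : T ⟶ L⟦n⟧), (HomotopyCategory.quotient _ _).map φ = 0) :
    (DRing.homCx T L).Acyclic := by
  rw [EpiKInj.acyclic_iff']
  intro n₀ n₁ n₂ h01 h12 z hz
  change Cochain T L n₁ at z
  change δ n₁ n₂ z = 0 at hz
  change ∃ w : Cochain T L n₀, δ n₀ n₁ w = z
  let zc : Cocycle T L n₁ := Cocycle.mk z n₂ h12 hz
  have h2 : zc ∈ coboundaries T L n₁ := by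
    rw [← CohomologyClass.toHom_mk_eq_zero_iff, CohomologyClass.toHom_mk]
    exact h n₁ _
  obtain ⟨w, hw⟩ := (mem_coboundaries_iff _ n₀ h01).1 h2
  exact ⟨w, hw⟩

theorem acyclic_homCx_of_isKProjective (T L : Cx R) [T.IsKProjective] (hL : L.Acyclic) :
    (DRing.homCx T L).Acyclic := by
  apply acyclic_homCx_of_forall
  intro n φ
  rw [HomotopyCategory.quotient_map_eq_zero_iff]
  exact ⟨IsKProjective.homotopyZero φ (acyclic_shift L hL n)⟩

/-- If `Hom•(T, L)` is acyclic and `P` is K-projective, every chain map `P ⊗ T ⟶ L` is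
null-homotopic. -/
theorem nonempty_homotopy_zero_of_acyclic_homCx (P T L : Cx R) [P.IsKProjective]
    (hTL : (DRing.homCx T L).Acyclic) (g : (P ⊗ T : Cx R) ⟶ L) : Nonempty (Homotopy g 0) := by
  have H : Homotopy (curry T g) 0 := IsKProjective.homotopyZero (curry T g) hTL
  obtain ⟨h, hh⟩ := Cochain.equivHomotopy _ _ H
  rw [Cochain.ofHom_zero, add_zero] at hh
  refine ⟨(Cochain.equivHomotopy g 0).symm ⟨fwd h, ?_⟩⟩
  rw [Cochain.ofHom_zero, add_zero, ← fwd_δ (by omega : (-1 : ℤ) + 1 = 0), ← hh, ← ofHom_uncurry,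
    uncurry_curry]

/-- The tensor product of two K-projective complexes of modules is K-projective. -/
theorem isKProjective_tensor (P T : Cx R) [P.IsKProjective] [T.IsKProjective] :
    (P ⊗ T : Cx R).IsKProjective where
  nonempty_homotopy_zero g hL :=
    nonempty_homotopy_zero_of_acyclic_homCx P T _ (acyclic_homCx_of_isKProjective T _ hL) g

end Groth.Agent.Lib.Helper25.TensorKProj
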