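import Groth.Agent.Lib.Helper25.KFlatQis
import Groth.Agent.Lib.Helper25.TensorKProj
import Mathlib.Algebra.Homology.BifunctorShift

/-!
# Shifts of K-flat complexes are K-flat
-/

set_option autoImplicit false
universe u

namespace Groth.Agent.Lib.Helper25.ShiftKFlat

open CategoryTheory CategoryTheory.Limits MonoidalCategory HomologicalComplex CochainComplex
open Groth.Agent.Lib.Helper25.TensorCx Groth.Agent.Lib.Helper25.KFlat

variable {R : Type u} [CommRing R]

/-- `L ⊗ T⟦m⟧ ≅ (L ⊗ T)⟦m⟧` -/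
noncomputable def tensorShiftIso (L T : Cx R) (m : ℤ) :
    (L ⊗ (T⟦m⟧) : Cx R) ≅ ((L ⊗ T : Cx R)⟦m⟧) :=
  CochainComplex.mapBifunctorShift₂Iso L T (curriedTensor (ModuleCat.{u} R)) m

theorem kflat_acyclic_shift (K : Cx R) (hK : KFlat.Acyclic K) (n : ℤ) : KFlat.Acyclic (K⟦n⟧) := by
  intro i
  have h1 : HomologicalComplex.Acyclic K := fun j =>
    (HomologicalComplex.exactAt_iff_isZero_homology K j).2 (hK j)
  exact (HomologicalComplex.exactAt_iff_isZero_homology _ i).1
    (TensorKProj.acyclic_shift K h1 n i)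

theorem isKFlat_shift (T : Cx R) (hT : IsKFlat T) (m : ℤ) : IsKFlat (T⟦m⟧) := by
  intro L hL
  exact KFlat.acyclic_of_iso (tensorShiftIso L T m).symm (kflat_acyclic_shift _ (hT L hL) m)

end Groth.Agent.Lib.Helper25.ShiftKFlat
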