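import Groth.Agent.Lib.Helper25.CechRefl1
import Groth.Agent.Lib.Helper25.ShiftKFlat
import Groth.Agent.Lib.Helper25.LTensorCxCompute
import Groth.Agent.Lib.Helper84.KInj
import Groth.Agent.Lib.Helper98.CechFlat
import Groth.Agent.S9264

/-!
# The extended Čech complex is K-flat; `Hom•(Č, J)` is derived complete
-/

set_option autoImplicit false
universe u

namespace Groth.Agent.Lib.Helper25.CechRefl

open CategoryTheory CategoryTheory.Limits MonoidalCategory HomologicalComplex CochainComplex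
open CochainComplex.HomComplex DerivedCategory CategoryTheory.Pretriangulated
open Groth.Agent.Lib.Helper25.TensorCx Groth.Agent.Lib.Helper25.KFlat
open Groth.Agent.Lib.Helper25.HomCxPre Groth.Agent.Lib.Helper25.DCompTri
open Groth.Agent.Lib.Helper25.DerCompleteHom Groth.Agent.Lib.Helper25.SingleTensor
open Groth.Agent.Lib.Helper25.DCompSingle Groth.Agent.Lib.Helper25.ShiftKFlat
open Groth.Agent.Lib.Helper84.TensCx

attribute [local instance] HasDerivedCategory.standard

variable {A : Type u} [CommRing A]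

/-! ### K-flatness -/

theorem termwiseFlat_sgl (M : ModuleCat.{u} A) [Module.Flat A M] : DRing.TermwiseFlat (sgl M) := by
  intro q
  by_cases hq : q = 0
  · subst hq
    exact Module.Flat.of_linearEquiv (singleObjXSelf (ComplexShape.up ℤ) 0 M).toLinearEquiv
  · have := sgl_subsingleton M q hq
    infer_instance

theorem termwiseFlat_locCx (S : Submonoid A) (X : DRing.Cx A) (h : DRing.TermwiseFlat X) :
    DRing.TermwiseFlat ((DerCA.locCx S).obj X) := by
  intro q
  haveI := h q
  change Module.Flat A (LocalizedModule S (X.X q))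
  exact Module.Flat.trans A (Localization S) (LocalizedModule S (X.X q))

theorem termwiseFlat_extCech (M : ModuleCat.{u} A) [Module.Flat A M] :
    ∀ fs : List A, DRing.TermwiseFlat (DerCA.extCech M fs) := by
  intro fs
  induction fs with
  | nil => exact termwiseFlat_sgl M
  | cons f fs ih =>
    intro q
    exact termwiseFlat_mappingCone (DerCA.locCxUnit (Submonoid.powers f) (DerCA.extCech M fs)) ih
      (termwiseFlat_locCx _ _ ih) (q + -1)

theorem isKFlat_extCech (M : ModuleCat.{u} A) [Module.Flat A M] (fs : List A) :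
    IsKFlat (DerCA.extCech M fs) :=
  isKFlat_of_boundedAbove_of_flat _ (fs.length : ℤ)
    (fun q hq => Groth.Agent.S9264.isZero_X A M fs q (Or.inr hq)) (termwiseFlat_extCech M fs)

/-! ### Acyclicity of `A_g ⊗ Č` -/

theorem actsBij_away (g : A) :
    Groth.Agent.Lib.Helper47.ExtCech.ActsBij g (ModuleCat.of A (Localization.Away g)) := by
  have h := IsLocalizedModule.map_units (Algebra.linearMap A (Localization.Away g))
    (⟨g, Submonoid.mem_powers g⟩ : Submonoid.powers g)
  exact (Module.End.isUnit_iff _).mp h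

theorem acyclic_of_quasiIso {X Y : DRing.Cx A} (f : X ⟶ Y) [QuasiIso f] (hY : KFlat.Acyclic Y) :
    KFlat.Acyclic X := fun i =>
  (hY i).of_iso (asIso (homologyMap f i))

theorem acyclic_sgl_tensor_cech (g : A) (fs : List A)
    (hg : g ∈ Ideal.span {a : A | a ∈ fs}) :
    KFlat.Acyclic (sgl (ModuleCat.of A (Localization.Away g)) ⊗
      DerCA.extCech (ModuleCat.of A A) fs : Cx A) := by
  obtain ⟨e⟩ := Helper98.CechBC.cechFunctorIso
    (tensorRight (ModuleCat.of A (Localization.Away g)))
    (fs.map fun f => (f, f))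
    (by
      intro p hp
      obtain ⟨f, _, rfl⟩ := List.mem_map.mp hp
      exact Helper98.CechFlat.locCompat_tensorRight (Localization.Away g) f) (ModuleCat.of A A)
  have h1 : (fs.map fun f => (f, f)).map Prod.fst = fs := by
    simp [List.map_map, Function.comp_def]
  have h2 : (fs.map fun f => (f, f)).map Prod.snd = fs := by
    simp [List.map_map, Function.comp_def]
  rw [h1, h2] at e
  have hbij : Groth.Agent.Lib.Helper47.ExtCech.ActsBij g
      ((tensorRight (ModuleCat.of A (Localization.Away g))).obj (ModuleCat.of A A)) :=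
    Groth.Agent.Lib.Helper47.ExtCech.ActsBij.of_iso
      (λ_ (ModuleCat.of A (Localization.Away g))).symm (actsBij_away g)
  have hac : KFlat.Acyclic (DerCA.extCech
      ((tensorRight (ModuleCat.of A (Localization.Away g))).obj (ModuleCat.of A A)) fs) :=
    fun q => Groth.Agent.Lib.Helper47.ExtCech.isZero_extCechH_of_actsBij fs _ g hg hbij q
  let e' : (sgl (ModuleCat.of A (Localization.Away g)) ⊗
      DerCA.extCech (ModuleCat.of A A) fs : Cx A) ≅ DerCA.extCech
      ((tensorRight (ModuleCat.of A (Localization.Away g))).obj (ModuleCat.of A A)) fs :=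
    (singleTensorIso (ModuleCat.of A (Localization.Away g))
      (DerCA.extCech (ModuleCat.of A A) fs)).symm ≪≫
    (NatIso.mapHomologicalComplex (BraidedCategory.tensorLeftIsoTensorRight
      (ModuleCat.of A (Localization.Away g))) (ComplexShape.up ℤ)).app _ ≪≫ e
  exact KFlat.acyclic_of_iso e'.symm hac

/-- `(X⟦m⟧) ⊗ T ≅ (X ⊗ T)⟦m⟧` -/
noncomputable def shiftTensorIso (X T : Cx A) (m : ℤ) :
    ((X⟦m⟧) ⊗ T : Cx A) ≅ ((X ⊗ T : Cx A)⟦m⟧) :=
  CochainComplex.mapBifunctorShift₁Iso X T (curriedTensor (ModuleCat.{u} A)) m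

theorem acyclic_awayRes_tensor_cech (g : A) (fs : List A)
    (hg : g ∈ Ideal.span {a : A | a ∈ fs}) (R : AwayRes g) (m : ℤ) :
    KFlat.Acyclic ((R.T⟦m⟧) ⊗ DerCA.extCech (ModuleCat.of A A) fs : Cx A) := by
  have hq : QuasiIso (R.π ▷ DerCA.extCech (ModuleCat.of A A) fs) :=
    quasiIso_whiskerRight_of_isKFlat _ (isKFlat_extCech (ModuleCat.of A A) fs) R.π R.qis
  have h1 : KFlat.Acyclic (R.T ⊗ DerCA.extCech (ModuleCat.of A A) fs : Cx A) :=
    acyclic_of_quasiIso (R.π ▷ DerCA.extCech (ModuleCat.of A A) fs)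
      (acyclic_sgl_tensor_cech g fs hg)
  exact KFlat.acyclic_of_iso (shiftTensorIso R.T _ m).symm (kflat_acyclic_shift _ h1 m)

/-! ### Derived completeness -/

/-- maps from a K-projective `X` to `Hom•(E, J)` vanish in `D(A)` if `X ⊗ E` is acyclic and `J` is
K-injective -/
theorem subsingleton_hom_homCx_of_acyclic (X E J : Cx A) [X.IsKProjective] [J.IsKInjective]
    (h : KFlat.Acyclic (X ⊗ E : Cx A)) : Subsingleton (Q.obj X ⟶ Q.obj (DRing.homCx E J)) := by
  rw [subsingleton_iff_forall_eq_zero]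
  intro ψ
  obtain ⟨φ, rfl⟩ := DerAdj.exists_map_eq X (DRing.homCx E J) ψ
  have h1 : Nonempty (Homotopy (HomCxAdj.uncurry E φ) 0) :=
    CochainComplex.IsKInjective.nonempty_homotopy_zero _ ((acyclic_iff_hAcyclic _).1 h)
  obtain ⟨h2⟩ := (HomCxAdj.nonempty_homotopy_zero_iff E φ).2 h1
  rw [Q_map_eq_of_homotopy _ h2, Functor.map_zero]

theorem orth_cech (g : A) (fs : List A) (hg : g ∈ Ideal.span {a : A | a ∈ fs}) (J : Cx A)
    [J.IsKInjective] :
    Orth (Dual.inD A (Localization.Away g))
      (Q.obj (DRing.homCx (DerCA.extCech (ModuleCat.of A A) fs) J)) := by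
  obtain ⟨R⟩ := nonempty_awayRes g
  rw [R.orth_iff]
  intro m
  exact subsingleton_hom_homCx_of_acyclic _ _ J (acyclic_awayRes_tensor_cech g fs hg R m)

/-- `RHom(K, -)` preserves derived `g`-completeness (on K-injective models) -/
theorem orth_homCx (g : A) (K J : Cx A) [J.IsKInjective]
    (hJ : Orth (Dual.inD A (Localization.Away g)) (Q.obj J)) :
    Orth (Dual.inD A (Localization.Away g)) (Q.obj (DRing.homCx K J)) := by
  obtain ⟨R⟩ := nonempty_awayRes g
  rw [R.orth_iff]
  intro m
  rw [subsingleton_iff_forall_eq_zero]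
  intro ψ
  obtain ⟨φ, rfl⟩ := DerAdj.exists_map_eq (R.T⟦m⟧) (DRing.homCx K J) ψ
  have hX : IsKFlat (R.T⟦m⟧) := isKFlat_shift R.T R.kflat m
  have hqis : QuasiIso (g • 𝟙 ((R.T⟦m⟧) ⊗ K : Cx A)) := by
    rw [smul_id_tensor]
    exact LTensorCxCompute.quasiIso_whiskerRight_of_quasiIso_of_isKFlat _ hX hX
      (quasiIso_smul_shift g R.T R.quasiIso_smul m) K
  have hsub : Subsingleton (Q.obj ((R.T⟦m⟧) ⊗ K : Cx A) ⟶ Q.obj J) :=
    subsingleton_hom_of_quasiIso_smul g _ hqis (Q.obj J) hJ
  have h0 : Q.map (HomCxAdj.uncurry K φ) = Q.map 0 := hsub.elim _ _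
  have h1 := Groth.Agent.Lib.Helper84.KInj.nonempty_homotopy_of_Q_map_eq _ _ _ _ h0
  obtain ⟨h2⟩ := (HomCxAdj.nonempty_homotopy_zero_iff K φ).2 h1
  rw [Q_map_eq_of_homotopy _ h2, Functor.map_zero]

end Groth.Agent.Lib.Helper25.CechRefl
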