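import Groth.Agent.Lib.Helper25.CechRefl2
import Groth.Agent.Lib.Helper25.DCompRefl

/-!
# Derived completion is `RHom(Č, -)`; `RHom(K, -)` commutes with derived completion
-/

set_option autoImplicit false
universe u

namespace Groth.Agent.Lib.Helper25.CechRefl

open CategoryTheory CategoryTheory.Limits MonoidalCategory HomologicalComplex CochainComplex
open CochainComplex.HomComplex DerivedCategory CategoryTheory.Pretriangulated
open Groth.Agent.Lib.Helper25.TensorCx Groth.Agent.Lib.Helper25.KFlat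
open Groth.Agent.Lib.Helper25.HomCxPre Groth.Agent.Lib.Helper25.DCompTri
open Groth.Agent.Lib.Helper25.HomCxSplit Groth.Agent.Lib.Helper25.DCompRefl
open Groth.Agent.Lib.Helper25.RHomKInj

attribute [local instance] HasDerivedCategory.standard

variable {A : Type u} [CommRing A]

section Refl

variable {C : Type*} [Category C]

theorem IsRefl.exists_iso {P : ObjectProperty C} {X X₁ X₂ : C} {u : X ⟶ X₁} {v : X ⟶ X₂}
    (hu : IsRefl P u) (hv : IsRefl P v) (h₁ : P X₁) (h₂ : P X₂) :
    ∃ i : X₁ ≅ X₂, u ≫ i.hom = v := by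
  obtain ⟨a, ha⟩ := (hu X₂ h₂).surjective v
  obtain ⟨b, hb⟩ := (hv X₁ h₁).surjective u
  have ha' : u ≫ a = v := ha
  have hb' : v ≫ b = u := hb
  refine ⟨⟨a, b, ?_, ?_⟩, ha'⟩
  · apply (hu X₁ h₁).injective
    change u ≫ (a ≫ b) = u ≫ 𝟙 X₁
    rw [← Category.assoc, ha', hb', Category.comp_id]
  · apply (hv X₂ h₂).injective
    change v ≫ (b ≫ a) = v ≫ 𝟙 X₂
    rw [← Category.assoc, hb', ha', Category.comp_id]

theorem IsRefl.iso_comp {P : ObjectProperty C} {X' X Y : C} (a : X' ⟶ X) (ha : IsIso a) {v : X ⟶ Y}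
    (hv : IsRefl P v) : IsRefl P (a ≫ v) := by
  intro E hE
  have h : (fun φ : Y ⟶ E => (a ≫ v) ≫ φ) = (fun ψ : X ⟶ E => a ≫ ψ) ∘ (fun φ : Y ⟶ E => v ≫ φ) := by
    funext φ
    simp
  rw [h]
  refine Function.Bijective.comp ?_ (hv E hE)
  constructor
  · intro x y hxy
    exact (cancel_epi a).1 hxy
  · intro y
    exact ⟨inv a ≫ y, by simp⟩

theorem IsRefl.comp_iso {P : ObjectProperty C} {X Y Y' : C} {v : X ⟶ Y} (b : Y ⟶ Y') (hb : IsIso b)
    (hv : IsRefl P v) : IsRefl P (v ≫ b) := by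
  intro E hE
  have h : (fun φ : Y' ⟶ E => (v ≫ b) ≫ φ) = (fun ψ : Y ⟶ E => v ≫ ψ) ∘ (fun φ : Y' ⟶ E => b ≫ φ) := by
    funext φ
    simp
  rw [h]
  refine Function.Bijective.comp (hv E hE) ?_
  constructor
  · intro x y hxy
    exact (cancel_epi b).1 hxy
  · intro y
    exact ⟨inv b ≫ y, by simp⟩

end Refl

/-- `Hom•(A[0], -) ≅ 𝟭` -/
noncomputable def unitNatIso : DRing.homCxFunctor (𝟙_ (Cx A)) ≅ 𝟭 (Cx A) :=
  ((HomCxAdj.adj (𝟙_ (Cx A))).ofNatIsoLeft (rightUnitorNatIso (Cx A))).rightAdjointUniq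
    Adjunction.id

/-- `M ≅ Hom•(A[0], M)` -/
noncomputable def unitInv (M : Cx A) :
    M ⟶ DRing.homCx ((HomologicalComplex.single (ModuleCat.{u} A) (ComplexShape.up ℤ) 0).obj
      (ModuleCat.of A A)) M :=
  unitNatIso.inv.app M

instance isIso_unitInv (M : Cx A) : IsIso (unitInv M) :=
  inferInstanceAs (IsIso (unitNatIso.inv.app M))

/-- the canonical map `M ⟶ Hom•(Č(fs), M)` -/
noncomputable def c (fs : List A) (M : Cx A) :
    M ⟶ DRing.homCx (DerCA.extCech (ModuleCat.of A A) fs) M :=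
  unitInv M ≫ homCxPre (Helper98.CechFun.cechPi (ModuleCat.of A A) fs) M

theorem isDerivedComplete_iff_orth (I : Ideal A) (E : Dual.D A) :
    DRing.IsDerivedComplete I E ↔ ∀ f ∈ I, Orth (Dual.inD A (Localization.Away f)) E := Iff.rfl

theorem isDerivedComplete_of_iso (I : Ideal A) {E E' : Dual.D A} (e : E ≅ E')
    (h : DRing.IsDerivedComplete I E) : DRing.IsDerivedComplete I E' :=
  fun f hf => Orth.of_iso e (h f hf)

/-- `Q J ⟶ Q (Hom•(Č, J))` is a reflection onto the derived complete objects. -/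
theorem isRefl_c (fs : List A) (J : Cx A) [J.IsKInjective] :
    IsRefl (DRing.IsDerivedComplete (Ideal.span {a : A | a ∈ fs})) (Q.map (c fs J)) ∧
      DRing.IsDerivedComplete (Ideal.span {a : A | a ∈ fs})
        (Q.obj (DRing.homCx (DerCA.extCech (ModuleCat.of A A) fs) J)) := by
  refine ⟨?_, fun g hg => orth_cech g fs hg J⟩
  have hb : IsRefl (DRing.IsDerivedComplete (Ideal.span {a : A | a ∈ fs}))
      (Q.map (homCxPre (Helper98.CechFun.cechPi (ModuleCat.of A A) fs) J)) := by
    intro E hE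
    exact bijective_cech (𝟭 (Cx A)) (fun S σ => σ.shortExact)
      (fun f X h => by
        change QuasiIso (f • 𝟙 X)
        infer_instance) J fs E
      (fun f hf => hE f (Ideal.subset_span hf))
  have : Q.map (c fs J) = Q.map (unitInv J) ≫
      Q.map (homCxPre (Helper98.CechFun.cechPi (ModuleCat.of A A) fs) J) := by
    rw [← Q.map_comp]
    rfl
  rw [this]
  exact IsRefl.iso_comp _ inferInstance hb

/-- `Q (Hom•(K, J)) ⟶ Q (Hom•(K, Hom•(Č, J)))` is a reflection onto the derived complete objects. -/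
theorem isRefl_homCxMap_c (fs : List A) (K J : Cx A) [J.IsKInjective] :
    IsRefl (DRing.IsDerivedComplete (Ideal.span {a : A | a ∈ fs}))
        (Q.map (DRing.homCxMap K (c fs J))) ∧
      DRing.IsDerivedComplete (Ideal.span {a : A | a ∈ fs})
        (Q.obj (DRing.homCx K (DRing.homCx (DerCA.extCech (ModuleCat.of A A) fs) J))) := by
  haveI := RHomTensor.isKInjective_homCx (DerCA.extCech (ModuleCat.of A A) fs) J
    (isKFlat_extCech (ModuleCat.of A A) fs)
  refine ⟨?_, fun g hg => orth_homCx g K _ (orth_cech g fs hg J)⟩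
  have hb : IsRefl (DRing.IsDerivedComplete (Ideal.span {a : A | a ∈ fs}))
      (Q.map ((DRing.homCxFunctor K).map
        (homCxPre (Helper98.CechFun.cechPi (ModuleCat.of A A) fs) J))) := by
    intro E hE
    exact bijective_cech (DRing.homCxFunctor K)
      (fun S σ => (dsplitHomCxMap K S σ).shortExact)
      (fun f X h => by
        haveI := isIso_smul_homCxMap f K X h
        change QuasiIso (f • 𝟙 (DRing.homCx K X))
        infer_instance) J fs E
      (fun f hf => hE f (Ideal.subset_span hf))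
  have h1 : Q.map (DRing.homCxMap K (c fs J)) =
      Q.map ((DRing.homCxFunctor K).map (unitInv J)) ≫
      Q.map ((DRing.homCxFunctor K).map
        (homCxPre (Helper98.CechFun.cechPi (ModuleCat.of A A) fs) J)) := by
    rw [← Q.map_comp, ← (DRing.homCxFunctor K).map_comp]
    rfl
  rw [h1]
  have i1 : IsIso ((DRing.homCxFunctor K).map (unitInv J)) :=
    (DRing.homCxFunctor K).map_isIso (unitInv J)
  exact IsRefl.iso_comp _ (Q.map_isIso _) hb

section Final

variable (fs : List A) (I : Ideal A) (hI : Ideal.span {x : A | x ∈ fs} = I)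
  [DRing.HasDerivedCompletion I]

include hI in
theorem aux7097 [DRing.HasRHomCx (DerCA.extCech (ModuleCat.of A A) fs)] (K : Dual.D A) :
    Nonempty (((DRing.derivedCompletion I).obj K).obj ≅
      (DRing.RHomCx (DerCA.extCech (ModuleCat.of A A) fs)).obj K) := by
  subst hI
  obtain ⟨J, hJ, ⟨e⟩⟩ := exists_kInj K
  haveI := hJ
  have hu := isRefl_unit (DRing.IsDerivedComplete (Ideal.span {x : A | x ∈ fs}))
    (DRing.derivedCompletionAdj (Ideal.span {x : A | x ∈ fs})) K
  obtain ⟨hv, hcomp⟩ := isRefl_c fs J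
  have hv' : IsRefl (DRing.IsDerivedComplete (Ideal.span {x : A | x ∈ fs}))
      (e.inv ≫ Q.map (c fs J)) := IsRefl.iso_comp _ inferInstance hv
  obtain ⟨i, -⟩ := IsRefl.exists_iso hu hv'
    ((DRing.derivedCompletion (Ideal.span {x : A | x ∈ fs})).obj K).property hcomp
  exact ⟨i ≪≫ (isoOfKInj (DerCA.extCech (ModuleCat.of A A) fs) J).symm ≪≫
    (DRing.RHomCx (DerCA.extCech (ModuleCat.of A A) fs)).mapIso e⟩

include hI in
theorem core7101 (K : Cx A) [DRing.HasRHomCx K] (L : Dual.D A) :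
    DRing.IsDerivedComplete I ((DRing.RHomCx K).obj ((DRing.derivedCompletion I).obj L).obj) ∧
      IsRefl (DRing.IsDerivedComplete I) ((DRing.RHomCx K).map (DRing.toDerivedCompletion I L)) := by
  subst hI
  obtain ⟨J, hJ, ⟨e⟩⟩ := exists_kInj L
  haveI := hJ
  haveI := RHomTensor.isKInjective_homCx (DerCA.extCech (ModuleCat.of A A) fs) J
    (isKFlat_extCech (ModuleCat.of A A) fs)
  have hu := isRefl_unit (DRing.IsDerivedComplete (Ideal.span {x : A | x ∈ fs}))
    (DRing.derivedCompletionAdj (Ideal.span {x : A | x ∈ fs})) L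
  obtain ⟨hv, hcomp⟩ := isRefl_c fs J
  have hv' : IsRefl (DRing.IsDerivedComplete (Ideal.span {x : A | x ∈ fs}))
      (e.inv ≫ Q.map (c fs J)) := IsRefl.iso_comp _ inferInstance hv
  obtain ⟨ε, hε⟩ := IsRefl.exists_iso hu hv'
    ((DRing.derivedCompletion (Ideal.span {x : A | x ∈ fs})).obj L).property hcomp
  obtain ⟨hw, hwcomp⟩ := isRefl_homCxMap_c fs K J
  -- the comparison
  have hnat := isoOfKInj_hom_naturality K (c fs J)
  have key : (DRing.RHomCx K).map (DRing.toDerivedCompletion (Ideal.span {x : A | x ∈ fs}) L) =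
      ((DRing.RHomCx K).map e.inv ≫ (isoOfKInj K J).hom) ≫
        Q.map (DRing.homCxMap K (c fs J)) ≫
        ((isoOfKInj K (DRing.homCx (DerCA.extCech (ModuleCat.of A A) fs) J)).inv ≫
          (DRing.RHomCx K).map ε.inv) := by
    have h1 : DRing.toDerivedCompletion (Ideal.span {x : A | x ∈ fs}) L =
        (e.inv ≫ Q.map (c fs J)) ≫ ε.inv := by
      rw [← hε, Category.assoc, Iso.hom_inv_id, Category.comp_id]
    rw [h1, Functor.map_comp, Functor.map_comp]
    have h2 : (DRing.RHomCx K).map (Q.map (c fs J)) = (isoOfKInj K J).hom ≫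
        Q.map (DRing.homCxMap K (c fs J)) ≫
        (isoOfKInj K (DRing.homCx (DerCA.extCech (ModuleCat.of A A) fs) J)).inv := by
      rw [← Category.assoc, ← hnat, Category.assoc, Iso.hom_inv_id, Category.comp_id]
    rw [h2]
    simp only [Category.assoc]
  constructor
  · exact isDerivedComplete_of_iso _
      ((isoOfKInj K (DRing.homCx (DerCA.extCech (ModuleCat.of A A) fs) J)).symm ≪≫
        (DRing.RHomCx K).mapIso ε.symm) hwcomp
  · rw [key]
    exact IsRefl.iso_comp _ inferInstance (IsRefl.comp_iso _ inferInstance hw)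

end Final

end Groth.Agent.Lib.Helper25.CechRefl

namespace Groth.Agent.Lib.Helper25.CechRefl

open CategoryTheory

attribute [local instance] HasDerivedCategory.standard

theorem aux7101 {A : Type u} [CommRing A] (I : Ideal A) (hI : I.FG) [DRing.HasDerivedCompletion I]
    (K : DRing.Cx A) [DRing.HasRHomCx K] (L : Dual.D A) :
    DRing.IsDerivedComplete I ((DRing.RHomCx K).obj ((DRing.derivedCompletion I).obj L).obj) ∧
      ∀ E : Dual.D A, DRing.IsDerivedComplete I E →
        Function.Bijective (fun φ : (DRing.RHomCx K).obj ((DRing.derivedCompletion I).obj L).obj ⟶ E =>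
          (DRing.RHomCx K).map (DRing.toDerivedCompletion I L) ≫ φ) := by
  obtain ⟨s, hs⟩ := hI
  have h : Ideal.span {x : A | x ∈ s.toList} = I := by
    rw [← hs]
    congr 1
    ext x
    simp
  obtain ⟨h1, h2⟩ := core7101 s.toList I h K L
  exact ⟨h1, fun E hE => h2 E hE⟩

end Groth.Agent.Lib.Helper25.CechRefl
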