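import Groth.Agent.Lib.Helper25.HomCxSplit
import Mathlib.Algebra.Homology.HomotopyCategory.MappingCocone

/-!
# The degreewise split short exact sequence of a mapping cocone

`0 ⟶ L⟦-1⟧ ⟶ mappingCocone φ ⟶ K ⟶ 0`.
-/

set_option autoImplicit false
universe u

namespace Groth.Agent.Lib.Helper25.CoconeSplit

open CategoryTheory CategoryTheory.Limits HomologicalComplex CochainComplex
open CochainComplex.HomComplex
open Groth.Agent.Lib.Helper25.HomCxSplit

variable {A : Type u} [CommRing A] {K L : DRing.Cx A} (φ : K ⟶ L)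

/-- the inclusion `L⟦-1⟧ ⟶ mappingCocone φ` -/
noncomputable def ι : L⟦(-1 : ℤ)⟧ ⟶ mappingCocone φ :=
  (mappingCone.inr φ)⟦(-1 : ℤ)⟧'

set_option backward.isDefEq.respectTransparency false in
theorem ι_f (p : ℤ) :
    (ι φ).f p = (mappingCocone.inr φ).1.v (p + -1) p (by omega) := by
  simp [ι, mappingCocone.inr, Cochain.rightShift_v _ _ _ _ _ _ _ _ (add_zero (p + -1))]

theorem ι_fst : ι φ ≫ mappingCocone.fst φ = 0 := by
  ext p : 1
  rw [HomologicalComplex.comp_f, ι_f, HomologicalComplex.zero_f]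
  exact mappingCocone.inr_v_fst_f φ (p + -1) p (by omega)

/-- the short complex `L⟦-1⟧ ⟶ mappingCocone φ ⟶ K` -/
noncomputable def coconeSC : ShortComplex (DRing.Cx A) :=
  ShortComplex.mk (ι φ) (mappingCocone.fst φ) (ι_fst φ)

/-- its degreewise splitting -/
noncomputable def coconeDSplit : DSplit (coconeSC φ) where
  r q := (mappingCocone.snd φ).v q (q + -1) rfl
  s q := (mappingCocone.inl φ).v q q (add_zero q)
  f_r q := by
    change (ι φ).f q ≫ (mappingCocone.snd φ).v q (q + -1) rfl = 𝟙 _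
    rw [ι_f]
    exact mappingCocone.inr_v_snd_v φ (q + -1) q (by omega)
  s_g q := mappingCocone.inl_v_fst_f φ q
  id q := by
    change (mappingCocone.snd φ).v q (q + -1) rfl ≫ (ι φ).f q +
      (mappingCocone.fst φ).f q ≫ (mappingCocone.inl φ).v q q (add_zero q) = 𝟙 _
    rw [ι_f, add_comm]
    exact mappingCocone.id_X φ q (q + -1) rfl

end Groth.Agent.Lib.Helper25.CoconeSplit
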