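import Groth.Agent.Lib.Helper25.ColimTensor
import Mathlib.RingTheory.TensorProduct.Maps

set_option autoImplicit false
universe u v

namespace Groth.Agent.Lib.Helper25

open TensorProduct

section

variable {ι : Type u} [Preorder ι] [IsDirected ι (· ≤ ·)] [Nonempty ι]
  {A₀ : Type u} [CommRing A₀] {G : ι → Type u} [∀ i, CommRing (G i)] [∀ i, Algebra A₀ (G i)]
  (f : ∀ i j, i ≤ j → (G i →ₐ[A₀] G j)) {A : Type u} [CommRing A] [Algebra A₀ A]
  (g : ∀ i, G i →ₐ[A₀] A) (hg : ∀ i j (h : i ≤ j), (g j).comp (f i j h) = g i)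
  (hsurj : ∀ a : A, ∃ i, ∃ x : G i, g i x = a)
  (hker : ∀ i (x : G i), g i x = 0 → ∃ j, ∃ h : i ≤ j, f i j h x = 0)

/-- The base change of an algebra map along `M ⊗ -`. -/
noncomputable abbrev bc (M : Type v) [CommRing M] [Algebra A₀ M] {H H' : Type u} [CommRing H]
    [CommRing H'] [Algebra A₀ H] [Algebra A₀ H'] (τ : H →ₐ[A₀] H') :
    M ⊗[A₀] H →ₐ[M] M ⊗[A₀] H' :=
  Algebra.TensorProduct.map (AlgHom.id M M) τ

omit [IsDirected ι (· ≤ ·)] [Nonempty ι] in
theorem bc_apply (M : Type v) [CommRing M] [Algebra A₀ M] {H H' : Type u} [CommRing H]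
    [CommRing H'] [Algebra A₀ H] [Algebra A₀ H'] (τ : H →ₐ[A₀] H') (x : M ⊗[A₀] H) :
    bc M τ x = LinearMap.lTensor M τ.toLinearMap x := by
  induction x using TensorProduct.induction_on with
  | zero => simp
  | tmul m h => simp
  | add x y hx hy => simp only [map_add, hx, hy]

omit [IsDirected ι (· ≤ ·)] [Nonempty ι] in
theorem bc_comp (M : Type v) [CommRing M] [Algebra A₀ M] {H H' H'' : Type u} [CommRing H]
    [CommRing H'] [CommRing H''] [Algebra A₀ H] [Algebra A₀ H'] [Algebra A₀ H'']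
    (τ : H →ₐ[A₀] H') (σ : H' →ₐ[A₀] H'') (x : M ⊗[A₀] H) :
    bc M (σ.comp τ) x = bc M σ (bc M τ x) := by
  induction x using TensorProduct.induction_on with
  | zero => simp
  | tmul m h => simp
  | add x y hx hy => simp only [map_add, hx, hy]

include hg hsurj in
theorem bc_exists_eq (M : Type v) [CommRing M] [Algebra A₀ M] (z : M ⊗[A₀] A) :
    ∃ i, ∃ w : M ⊗[A₀] G i, bc M (g i) w = z := by
  obtain ⟨i, w, hw⟩ := exists_lTensor_eq f g hg hsurj M z
  exact ⟨i, w, by rw [bc_apply, hw]⟩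

include hg hsurj hker in
theorem bc_exists_kill (M : Type v) [CommRing M] [Algebra A₀ M] (i : ι) (w : M ⊗[A₀] G i)
    (hw : bc M (g i) w = 0) :
    ∃ j, ∃ σ : G i →ₐ[A₀] G j, (g j).comp σ = g i ∧ bc M σ w = 0 := by
  rw [bc_apply] at hw
  obtain ⟨j, σ, hσ, h⟩ := exists_trans_lTensor_eq_zero f g hg hsurj hker M i w hw
  exact ⟨j, σ, hσ, by rw [bc_apply, h]⟩

include hg hsurj hker in
theorem bc_exists_kill_finset (M : Type v) [CommRing M] [Algebra A₀ M] (i : ι)
    (s : Finset (M ⊗[A₀] G i)) (hs : ∀ w ∈ s, bc M (g i) w = 0) :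
    ∃ j, ∃ σ : G i →ₐ[A₀] G j, (g j).comp σ = g i ∧ ∀ w ∈ s, bc M σ w = 0 := by
  classical
  induction s using Finset.induction_on with
  | empty => exact ⟨i, AlgHom.id A₀ _, by simp, by simp⟩
  | insert a s ha ih =>
    obtain ⟨j, σ, hσ, hσs⟩ := ih (fun x hx => hs x (Finset.mem_insert_of_mem hx))
    have h1 : bc M (g j) (bc M σ a) = 0 := by
      rw [← bc_comp, hσ]; exact hs a (Finset.mem_insert_self a s)
    obtain ⟨k, τ, hτ, hk⟩ := bc_exists_kill f g hg hsurj hker M j _ h1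
    refine ⟨k, τ.comp σ, ?_, ?_⟩
    · rw [← AlgHom.comp_assoc, hτ, hσ]
    · intro x hx
      rcases Finset.mem_insert.mp hx with rfl | hx
      · rw [bc_comp]; exact hk
      · rw [bc_comp, hσs x hx, map_zero]

omit [Nonempty ι] in
/-- Finite combination of stable properties along a directed index set. -/
theorem exists_forall_of_stable {X : Type v} (Q : X → ι → Prop)
    (hQ : ∀ x i j, i ≤ j → Q x i → Q x j) (i₀ : ι) (s : Finset X) (hs : ∀ x ∈ s, ∃ i, Q x i) :
    ∃ i, i₀ ≤ i ∧ ∀ x ∈ s, Q x i := by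
  classical
  induction s using Finset.induction_on with
  | empty => exact ⟨i₀, le_rfl, by simp⟩
  | insert a s ha ih =>
    obtain ⟨i, hi0, hi⟩ := ih (fun x hx => hs x (Finset.mem_insert_of_mem hx))
    obtain ⟨j, hj⟩ := hs a (Finset.mem_insert_self a s)
    obtain ⟨k, hik, hjk⟩ := exists_ge_ge i j
    refine ⟨k, hi0.trans hik, fun x hx => ?_⟩
    rcases Finset.mem_insert.mp hx with rfl | hx
    · exact hQ _ _ _ hjk hj
    · exact hQ _ _ _ hik (hi x hx)

include hg hsurj in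
theorem bc_exists_eq_finset (M : Type v) [CommRing M] [Algebra A₀ M] (i₀ : ι)
    (s : Finset (M ⊗[A₀] A)) :
    ∃ i, i₀ ≤ i ∧ ∀ z ∈ s, ∃ w : M ⊗[A₀] G i, bc M (g i) w = z := by
  apply exists_forall_of_stable (fun z i => ∃ w : M ⊗[A₀] G i, bc M (g i) w = z)
  · rintro z i j hij ⟨w, rfl⟩
    exact ⟨bc M (f i j hij) w, by rw [← bc_comp, hg]⟩
  · intro z _
    exact bc_exists_eq f g hg hsurj M z

end

end Groth.Agent.Lib.Helper25
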