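import Groth.Agent.Lib.Helper25.ColimSurj
import Mathlib.RingTheory.FinitePresentation

set_option autoImplicit false
universe u v

namespace Groth.Agent.Lib.Helper25

open TensorProduct

section

variable (A₀ : Type u) [CommRing A₀] (B₀ : Type u) [CommRing B₀] [Algebra A₀ B₀]
  (C₀ : Type u) [CommRing C₀] [Algebra A₀ C₀] [Algebra B₀ C₀] [IsScalarTower A₀ B₀ C₀]

/-- A `B₀`-algebra map `C₀ → B₀ ⊗ H` yields a retraction of `phi`, which is hence injective. -/
theorem phi_injective_of_algHom (H : Type u) [CommRing H] [Algebra A₀ H]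
    (ψ : C₀ →ₐ[B₀] B₀ ⊗[A₀] H) : Function.Injective (phi A₀ B₀ C₀ H) := by
  let r : C₀ ⊗[A₀] H →ₐ[A₀] B₀ ⊗[A₀] H :=
    Algebra.TensorProduct.lift (ψ.restrictScalars A₀) Algebra.TensorProduct.includeRight
      (fun _ _ => Commute.all _ _)
  have hr : ∀ b, r (phi A₀ B₀ C₀ H b) = b := by
    intro b
    induction b using TensorProduct.induction_on with
    | zero => simp
    | tmul b h =>
      simp only [r, Algebra.TensorProduct.map_tmul, IsScalarTower.coe_toAlgHom', AlgHom.coe_id,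
        id_eq, Algebra.TensorProduct.lift_tmul, AlgHom.coe_restrictScalars',
        Algebra.TensorProduct.includeRight_apply, AlgHom.commutes,
        Algebra.TensorProduct.algebraMap_apply, Algebra.algebraMap_self, RingHom.id_apply,
        Algebra.TensorProduct.tmul_mul_tmul, mul_one, one_mul]
    | add x y hx hy => simp only [map_add, hx, hy]
  exact Function.LeftInverse.injective hr

theorem phi_surjective_stable {H H' : Type u} [CommRing H] [Algebra A₀ H] [CommRing H']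
    [Algebra A₀ H'] (τ : H →ₐ[A₀] H') (h : Function.Surjective (phi A₀ B₀ C₀ H)) :
    Function.Surjective (phi A₀ B₀ C₀ H') := by
  apply phi_surjective_of_generators A₀ B₀ C₀ H' Set.univ (Algebra.adjoin_univ B₀ C₀)
  intro x _
  obtain ⟨b, hb⟩ := h (x ⊗ₜ 1)
  exact ⟨bc B₀ τ b, by rw [← phi_natural, hb, bc_tmul_one]⟩

end

section

variable {ι : Type u} [Preorder ι] [IsDirected ι (· ≤ ·)] [Nonempty ι]
  {A₀ : Type u} [CommRing A₀] {G : ι → Type u} [∀ i, CommRing (G i)] [∀ i, Algebra A₀ (G i)]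
  (f : ∀ i j, i ≤ j → (G i →ₐ[A₀] G j)) {A : Type u} [CommRing A] [Algebra A₀ A]
  (g : ∀ i, G i →ₐ[A₀] A) (hg : ∀ i j (h : i ≤ j), (g j).comp (f i j h) = g i)
  (hsurj : ∀ a : A, ∃ i, ∃ x : G i, g i x = a)
  (hker : ∀ i (x : G i), g i x = 0 → ∃ j, ∃ h : i ≤ j, f i j h x = 0)
  (B₀ : Type u) [CommRing B₀] [Algebra A₀ B₀]
  (C₀ : Type u) [CommRing C₀] [Algebra A₀ C₀] [Algebra B₀ C₀] [IsScalarTower A₀ B₀ C₀]

include hg hsurj hker in
/-- A `B₀`-algebra map from a finitely presented algebra to the colimit descends to a finite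
stage (only existence is recorded). -/
theorem exists_index_algHom [Algebra.FinitePresentation B₀ C₀] (ψ : C₀ →ₐ[B₀] B₀ ⊗[A₀] A) :
    ∃ j, ∃ ψ' : C₀ →ₐ[B₀] B₀ ⊗[A₀] G j, (bc B₀ (g j)).comp ψ' = ψ := by
  classical
  obtain ⟨n, p, hp, hkerp⟩ := Algebra.FinitePresentation.out (R := B₀) (A := C₀)
  obtain ⟨T, hT⟩ := hkerp
  obtain ⟨i₀⟩ := ‹Nonempty ι›
  let a : Fin n → B₀ ⊗[A₀] A := fun l => ψ (p (MvPolynomial.X l))
  obtain ⟨i, -, hi⟩ := bc_exists_eq_finset f g hg hsurj B₀ i₀ (Finset.univ.image a)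
  have hi' : ∀ l, ∃ w : B₀ ⊗[A₀] G i, bc B₀ (g i) w = a l :=
    fun l => hi _ (Finset.mem_image_of_mem _ (Finset.mem_univ l))
  choose a' ha' using hi'
  have hψp : ψ.comp p = MvPolynomial.aeval a := by
    rw [MvPolynomial.aeval_unique (ψ.comp p)]; rfl
  have h0 : ∀ r ∈ T, bc B₀ (g i) (MvPolynomial.aeval a' r) = 0 := by
    intro r hr
    rw [MvPolynomial.comp_aeval_apply]
    have : (fun l => bc B₀ (g i) (a' l)) = a := funext ha'
    rw [this, ← hψp]
    have hrk : r ∈ RingHom.ker p.toRingHom := by rw [← hT]; exact Ideal.subset_span hr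
    have : p r = 0 := hrk
    simp [this]
  obtain ⟨j, σ, hσ, hkill⟩ := bc_exists_kill_finset f g hg hsurj hker B₀ i
    (T.image (fun r => MvPolynomial.aeval a' r)) (by
      intro w hw
      obtain ⟨r, hr, rfl⟩ := Finset.mem_image.mp hw
      exact h0 r hr)
  let q : MvPolynomial (Fin n) B₀ →ₐ[B₀] B₀ ⊗[A₀] G j :=
    MvPolynomial.aeval (fun l => bc B₀ σ (a' l))
  have hq : ∀ r, q r = bc B₀ σ (MvPolynomial.aeval a' r) := by
    intro r
    rw [MvPolynomial.comp_aeval_apply]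
  have hqker : RingHom.ker p.toRingHom ≤ RingHom.ker q.toRingHom := by
    rw [← hT, Ideal.span_le]
    intro r hr
    change q r = 0
    rw [hq]
    exact hkill _ (Finset.mem_image_of_mem _ hr)
  let ψ' : C₀ →ₐ[B₀] B₀ ⊗[A₀] G j := AlgHom.liftOfSurjective p hp q hqker
  refine ⟨j, ψ', ?_⟩
  ext c
  obtain ⟨r, rfl⟩ := hp c
  have h1 : ψ' (p r) = q r := AlgHom.liftOfSurjective_apply p hp q hqker r
  rw [AlgHom.comp_apply, h1, hq, ← bc_comp, hσ, MvPolynomial.comp_aeval_apply]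
  have : (fun l => bc B₀ (g i) (a' l)) = a := funext ha'
  rw [this, ← hψp]
  rfl

include hg hsurj hker in
theorem exists_index_phi_bijective [Algebra.FinitePresentation B₀ C₀]
    (h : Function.Bijective (phi A₀ B₀ C₀ A)) :
    ∃ i, Function.Bijective (phi A₀ B₀ C₀ (G i)) := by
  obtain ⟨i₁, h₁⟩ := exists_index_phi_surjective f g hg hsurj hker B₀ C₀ h.2
  -- the B₀-algebra map C₀ → B₀ ⊗ A given by the inverse
  let e : B₀ ⊗[A₀] A ≃+* C₀ ⊗[A₀] A := RingEquiv.ofBijective (phi A₀ B₀ C₀ A) h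
  let ψ : C₀ →ₐ[B₀] B₀ ⊗[A₀] A :=
    { toRingHom := (e.symm : C₀ ⊗[A₀] A →+* B₀ ⊗[A₀] A).comp
        (Algebra.TensorProduct.includeLeft : C₀ →ₐ[A₀] C₀ ⊗[A₀] A).toRingHom
      commutes' := by
        intro b
        change e.symm ((algebraMap B₀ C₀ b) ⊗ₜ[A₀] (1 : A)) = _
        rw [RingEquiv.symm_apply_eq]
        change _ = phi A₀ B₀ C₀ A (algebraMap B₀ (B₀ ⊗[A₀] A) b)
        simp [Algebra.TensorProduct.algebraMap_apply] }
  obtain ⟨i₂, ψ', -⟩ := exists_index_algHom f g hg hsurj hker B₀ C₀ ψ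
  obtain ⟨k, h1k, h2k⟩ := exists_ge_ge i₁ i₂
  refine ⟨k, ?_, ?_⟩
  · exact phi_injective_of_algHom A₀ B₀ C₀ (G k) ((bc B₀ (f i₂ k h2k)).comp ψ')
  · exact phi_surjective_stable A₀ B₀ C₀ (f i₁ k h1k) h₁

end

end Groth.Agent.Lib.Helper25
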