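import Groth.Agent.Lib.Helper25.ColimTheta
import Mathlib.RingTheory.FinitePresentation

set_option autoImplicit false
universe u v

namespace Groth.Agent.Lib.Helper25

open TensorProduct

section

variable (A₀ : Type u) [CommRing A₀] (B₀ : Type u) [CommRing B₀] [Algebra A₀ B₀]
  (M : Type u) [CommRing M] [Algebra A₀ M] [Algebra B₀ M] [IsScalarTower A₀ B₀ M]

/-- Transition maps of the system `H ↦ (B₀ ⊗ H) ⊗[B₀] M`. -/
noncomputable abbrev dmap {H H' : Type u} [CommRing H] [Algebra A₀ H] [CommRing H']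
    [Algebra A₀ H'] (τ : H →ₐ[A₀] H') :
    (B₀ ⊗[A₀] H) ⊗[B₀] M →ₐ[B₀] (B₀ ⊗[A₀] H') ⊗[B₀] M :=
  Algebra.TensorProduct.map (bc B₀ τ) (AlgHom.id B₀ M)

theorem dmap_comp {H H' H'' : Type u} [CommRing H] [Algebra A₀ H] [CommRing H']
    [Algebra A₀ H'] [CommRing H''] [Algebra A₀ H''] (τ : H →ₐ[A₀] H') (σ : H' →ₐ[A₀] H'')
    (x : (B₀ ⊗[A₀] H) ⊗[B₀] M) :
    dmap A₀ B₀ M (σ.comp τ) x = dmap A₀ B₀ M σ (dmap A₀ B₀ M τ x) := by
  induction x using TensorProduct.induction_on with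
  | zero => simp
  | tmul b m => simp [bc_comp]
  | add x y hx hy => simp only [map_add, hx, hy]

theorem theta_natural {H H' : Type u} [CommRing H] [Algebra A₀ H] [CommRing H']
    [Algebra A₀ H'] (τ : H →ₐ[A₀] H') (x : (B₀ ⊗[A₀] H) ⊗[B₀] M) :
    theta A₀ B₀ M H' (dmap A₀ B₀ M τ x) = bc M τ (theta A₀ B₀ M H x) := by
  induction x using TensorProduct.induction_on with
  | zero => simp
  | tmul b m =>
    induction b using TensorProduct.induction_on with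
    | zero => simp
    | tmul b h => simp [theta]
    | add x y hx hy => simp only [TensorProduct.add_tmul, map_add, hx, hy]
  | add x y hx hy => simp only [map_add, hx, hy]

end

section

variable {ι : Type u} [Preorder ι] [IsDirected ι (· ≤ ·)] [Nonempty ι]
  {A₀ : Type u} [CommRing A₀] {G : ι → Type u} [∀ i, CommRing (G i)] [∀ i, Algebra A₀ (G i)]
  (f : ∀ i j, i ≤ j → (G i →ₐ[A₀] G j)) {A : Type u} [CommRing A] [Algebra A₀ A]
  (g : ∀ i, G i →ₐ[A₀] A) (hg : ∀ i j (h : i ≤ j), (g j).comp (f i j h) = g i)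
  (hsurj : ∀ a : A, ∃ i, ∃ x : G i, g i x = a)
  (hker : ∀ i (x : G i), g i x = 0 → ∃ j, ∃ h : i ≤ j, f i j h x = 0)
  (B₀ : Type u) [CommRing B₀] [Algebra A₀ B₀]
  (M : Type u) [CommRing M] [Algebra A₀ M] [Algebra B₀ M] [IsScalarTower A₀ B₀ M]

include hg hsurj in
theorem dmap_exists_eq (z : (B₀ ⊗[A₀] A) ⊗[B₀] M) :
    ∃ i, ∃ w : (B₀ ⊗[A₀] G i) ⊗[B₀] M, dmap A₀ B₀ M (g i) w = z := by
  obtain ⟨i, w, hw⟩ := bc_exists_eq f g hg hsurj M (theta A₀ B₀ M A z)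
  refine ⟨i, (theta A₀ B₀ M (G i)).symm w, ?_⟩
  apply (theta A₀ B₀ M A).injective
  rw [theta_natural, RingEquiv.apply_symm_apply, hw]

include hg hsurj hker in
theorem dmap_exists_kill_finset (i : ι) (s : Finset ((B₀ ⊗[A₀] G i) ⊗[B₀] M))
    (hs : ∀ w ∈ s, dmap A₀ B₀ M (g i) w = 0) :
    ∃ j, ∃ σ : G i →ₐ[A₀] G j, (g j).comp σ = g i ∧ ∀ w ∈ s, dmap A₀ B₀ M σ w = 0 := by
  classical
  obtain ⟨j, σ, hσ, hkill⟩ := bc_exists_kill_finset f g hg hsurj hker M i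
    (s.image (theta A₀ B₀ M (G i))) (by
      intro w hw
      obtain ⟨w', hw', rfl⟩ := Finset.mem_image.mp hw
      rw [← theta_natural, hs w' hw', map_zero])
  refine ⟨j, σ, hσ, fun w hw => ?_⟩
  apply (theta A₀ B₀ M (G j)).injective
  rw [theta_natural, hkill _ (Finset.mem_image_of_mem _ hw), map_zero]

include hg hsurj in
theorem dmap_exists_eq_finset (i₀ : ι) (s : Finset ((B₀ ⊗[A₀] A) ⊗[B₀] M)) :
    ∃ i, i₀ ≤ i ∧ ∀ z ∈ s, ∃ w : (B₀ ⊗[A₀] G i) ⊗[B₀] M, dmap A₀ B₀ M (g i) w = z := by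
  apply exists_forall_of_stable
    (fun z i => ∃ w : (B₀ ⊗[A₀] G i) ⊗[B₀] M, dmap A₀ B₀ M (g i) w = z)
  · rintro z i j hij ⟨w, rfl⟩
    exact ⟨dmap A₀ B₀ M (f i j hij) w, by rw [← dmap_comp, hg]⟩
  · intro z _
    exact dmap_exists_eq f g hg hsurj B₀ M z

include hg hsurj hker in
/-- Finitely presented descent of algebra maps into the `D`-system. -/
theorem dmap_exists_index_algHom (C₀ : Type u) [CommRing C₀] [Algebra B₀ C₀]
    [Algebra.FinitePresentation B₀ C₀] (ψ : C₀ →ₐ[B₀] (B₀ ⊗[A₀] A) ⊗[B₀] M) :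
    ∃ j, ∃ ψ' : C₀ →ₐ[B₀] (B₀ ⊗[A₀] G j) ⊗[B₀] M, (dmap A₀ B₀ M (g j)).comp ψ' = ψ := by
  classical
  obtain ⟨n, p, hp, hkerp⟩ := Algebra.FinitePresentation.out (R := B₀) (A := C₀)
  obtain ⟨T, hT⟩ := hkerp
  obtain ⟨i₀⟩ := ‹Nonempty ι›
  let a : Fin n → (B₀ ⊗[A₀] A) ⊗[B₀] M := fun l => ψ (p (MvPolynomial.X l))
  obtain ⟨i, -, hi⟩ := dmap_exists_eq_finset f g hg hsurj B₀ M i₀ (Finset.univ.image a)
  have hi' : ∀ l, ∃ w : (B₀ ⊗[A₀] G i) ⊗[B₀] M, dmap A₀ B₀ M (g i) w = a l :=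
    fun l => hi _ (Finset.mem_image_of_mem _ (Finset.mem_univ l))
  choose a' ha' using hi'
  have hψp : ψ.comp p = MvPolynomial.aeval a := by
    rw [MvPolynomial.aeval_unique (ψ.comp p)]; rfl
  have h0 : ∀ r ∈ T, dmap A₀ B₀ M (g i) (MvPolynomial.aeval a' r) = 0 := by
    intro r hr
    rw [MvPolynomial.comp_aeval_apply]
    have : (fun l => dmap A₀ B₀ M (g i) (a' l)) = a := funext ha'
    rw [this, ← hψp]
    have hrk : r ∈ RingHom.ker p.toRingHom := by rw [← hT]; exact Ideal.subset_span hr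
    have : p r = 0 := hrk
    simp [this]
  obtain ⟨j, σ, hσ, hkill⟩ := dmap_exists_kill_finset f g hg hsurj hker B₀ M i
    (T.image (fun r => MvPolynomial.aeval a' r)) (by
      intro w hw
      obtain ⟨r, hr, rfl⟩ := Finset.mem_image.mp hw
      exact h0 r hr)
  let q : MvPolynomial (Fin n) B₀ →ₐ[B₀] (B₀ ⊗[A₀] G j) ⊗[B₀] M :=
    MvPolynomial.aeval (fun l => dmap A₀ B₀ M σ (a' l))
  have hq : ∀ r, q r = dmap A₀ B₀ M σ (MvPolynomial.aeval a' r) := by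
    intro r
    rw [MvPolynomial.comp_aeval_apply]
  have hqker : RingHom.ker p.toRingHom ≤ RingHom.ker q.toRingHom := by
    rw [← hT, Ideal.span_le]
    intro r hr
    change q r = 0
    rw [hq]
    exact hkill _ (Finset.mem_image_of_mem _ hr)
  let ψ' : C₀ →ₐ[B₀] (B₀ ⊗[A₀] G j) ⊗[B₀] M := AlgHom.liftOfSurjective p hp q hqker
  refine ⟨j, ψ', ?_⟩
  ext c
  obtain ⟨r, rfl⟩ := hp c
  have h1 : ψ' (p r) = q r := AlgHom.liftOfSurjective_apply p hp q hqker r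
  rw [AlgHom.comp_apply, h1, hq, ← dmap_comp, hσ, MvPolynomial.comp_aeval_apply]
  have : (fun l => dmap A₀ B₀ M (g i) (a' l)) = a := funext ha'
  rw [this, ← hψp]
  rfl

include hg hsurj hker in
/-- Two algebra maps from a finite type algebra that agree at the colimit agree at a finite
stage. -/
theorem dmap_exists_eq_algHom (C₀ : Type u) [CommRing C₀] [Algebra B₀ C₀]
    [Algebra.FiniteType B₀ C₀] (i : ι) (ψ₁ ψ₂ : C₀ →ₐ[B₀] (B₀ ⊗[A₀] G i) ⊗[B₀] M)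
    (h : (dmap A₀ B₀ M (g i)).comp ψ₁ = (dmap A₀ B₀ M (g i)).comp ψ₂) :
    ∃ j, ∃ σ : G i →ₐ[A₀] G j, (g j).comp σ = g i ∧
      (dmap A₀ B₀ M σ).comp ψ₁ = (dmap A₀ B₀ M σ).comp ψ₂ := by
  classical
  obtain ⟨s, hs⟩ := (Algebra.FiniteType.out : (⊤ : Subalgebra B₀ C₀).FG)
  obtain ⟨j, σ, hσ, hkill⟩ := dmap_exists_kill_finset f g hg hsurj hker B₀ M i
    (s.image (fun x => ψ₁ x - ψ₂ x)) (by
      intro w hw
      obtain ⟨x, -, rfl⟩ := Finset.mem_image.mp hw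
      rw [map_sub, sub_eq_zero]
      exact DFunLike.congr_fun h x)
  refine ⟨j, σ, hσ, ?_⟩
  apply AlgHom.ext_of_adjoin_eq_top hs
  intro x hx
  have := hkill _ (Finset.mem_image_of_mem _ hx)
  rw [map_sub, sub_eq_zero] at this
  exact this

end

end Groth.Agent.Lib.Helper25
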