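import Groth.Agent.Lib.Helper25.ColimBC
import Mathlib.RingTheory.Kaehler.TensorProduct
import Mathlib.RingTheory.Unramified.Basic
import Mathlib.RingTheory.IsTensorProduct

set_option autoImplicit false
universe u v

namespace Groth.Agent.Lib.Helper25

open TensorProduct

section

variable {ι : Type u} [Preorder ι] [IsDirected ι (· ≤ ·)] [Nonempty ι]
  {A₀ : Type u} [CommRing A₀] {G : ι → Type u} [∀ i, CommRing (G i)] [∀ i, Algebra A₀ (G i)]
  (f : ∀ i j, i ≤ j → (G i →ₐ[A₀] G j)) {A : Type u} [CommRing A] [Algebra A₀ A]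
  (g : ∀ i, G i →ₐ[A₀] A) (hg : ∀ i j (h : i ≤ j), (g j).comp (f i j h) = g i)
  (hsurj : ∀ a : A, ∃ i, ∃ x : G i, g i x = a)
  (hker : ∀ i (x : G i), g i x = 0 → ∃ j, ∃ h : i ≤ j, f i j h x = 0)

include hg hsurj hker in
theorem lTensor_exists_kill_finset (M : Type v) [AddCommGroup M] [Module A₀ M] (i : ι)
    (s : Finset (M ⊗[A₀] G i)) (hs : ∀ w ∈ s, LinearMap.lTensor M (g i).toLinearMap w = 0) :
    ∃ j, ∃ σ : G i →ₐ[A₀] G j, (g j).comp σ = g i ∧
      ∀ w ∈ s, LinearMap.lTensor M σ.toLinearMap w = 0 := by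
  classical
  induction s using Finset.induction_on with
  | empty => exact ⟨i, AlgHom.id A₀ _, by simp, by simp⟩
  | insert a s ha ih =>
    obtain ⟨j, σ, hσ, hσs⟩ := ih (fun x hx => hs x (Finset.mem_insert_of_mem hx))
    have h1 : LinearMap.lTensor M (g j).toLinearMap (LinearMap.lTensor M σ.toLinearMap a) = 0 := by
      rw [← LinearMap.comp_apply, ← LinearMap.lTensor_comp, ← AlgHom.comp_toLinearMap, hσ]
      exact hs a (Finset.mem_insert_self a s)
    obtain ⟨k, τ, hτ, hk⟩ := exists_trans_lTensor_eq_zero f g hg hsurj hker M j _ h1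
    refine ⟨k, τ.comp σ, ?_, ?_⟩
    · rw [← AlgHom.comp_assoc, hτ, hσ]
    · intro x hx
      rw [AlgHom.comp_toLinearMap, LinearMap.lTensor_comp, LinearMap.comp_apply]
      rcases Finset.mem_insert.mp hx with rfl | hx
      · exact hk
      · rw [hσs x hx, map_zero]

include hg hsurj hker in
/-- If `M` is a finitely generated module over an `A₀`-algebra `C₀` and `M ⊗ A = 0`, then
`M ⊗ G i = 0` for some `i`. -/
theorem exists_index_subsingleton_tensor (C₀ : Type u) [CommRing C₀] [Algebra A₀ C₀]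
    (M : Type v) [AddCommGroup M] [Module A₀ M] [Module C₀ M] [IsScalarTower A₀ C₀ M]
    [Module.Finite C₀ M] (h : Subsingleton (M ⊗[A₀] A)) :
    ∃ i, Subsingleton (M ⊗[A₀] G i) := by
  classical
  obtain ⟨T, hT⟩ := (Module.Finite.fg_top : (⊤ : Submodule C₀ M).FG)
  obtain ⟨i₀⟩ := ‹Nonempty ι›
  obtain ⟨j, σ, -, hkill⟩ := lTensor_exists_kill_finset f g hg hsurj hker M i₀
    (T.image (fun m => m ⊗ₜ[A₀] (1 : G i₀))) (fun w _ => Subsingleton.elim _ _)
  refine ⟨j, ?_⟩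
  have h1 : ∀ m ∈ T, m ⊗ₜ[A₀] (1 : G j) = 0 := by
    intro m hm
    have := hkill _ (Finset.mem_image_of_mem _ hm)
    simpa using this
  -- the endomorphisms m ⊗ x ↦ (c • m) ⊗ (h * x)
  let L : C₀ → G j → (M ⊗[A₀] G j →ₗ[A₀] M ⊗[A₀] G j) := fun c h =>
    TensorProduct.map ((LinearMap.lsmul C₀ M c).restrictScalars A₀)
      (LinearMap.mulLeft A₀ h)
  have hL : ∀ c h m x, L c h (m ⊗ₜ x) = (c • m) ⊗ₜ (h * x) := fun c h m x => rfl
  have h2 : ∀ m : M, ∀ h : G j, m ⊗ₜ[A₀] h = 0 := by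
    intro m
    have hm : m ∈ Submodule.span C₀ (T : Set M) := by rw [hT]; trivial
    induction hm using Submodule.span_induction with
    | mem m hm =>
      intro h
      have := congrArg (L 1 h) (h1 m hm)
      rwa [hL, one_smul, mul_one, map_zero] at this
    | zero => intro h; exact TensorProduct.zero_tmul _ _
    | add x y _ _ hx hy => intro h; rw [TensorProduct.add_tmul, hx, hy, add_zero]
    | smul c x _ hx =>
      intro h
      have := congrArg (L c 1) (hx h)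
      rwa [hL, one_mul, map_zero] at this
  refine ⟨fun x y => ?_⟩
  have h3 : ∀ z : M ⊗[A₀] G j, z = 0 := by
    intro z
    induction z using TensorProduct.induction_on with
    | zero => rfl
    | tmul m h => exact h2 m h
    | add x y hx hy => rw [hx, hy, add_zero]
  rw [h3 x, h3 y]

end

section

variable (A₀ : Type u) [CommRing A₀] (B₀ : Type u) [CommRing B₀] [Algebra A₀ B₀]
  (C₀ : Type u) [CommRing C₀] [Algebra A₀ C₀] [Algebra B₀ C₀] [IsScalarTower A₀ B₀ C₀]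
  (H : Type u) [CommRing H] [Algebra A₀ H]

attribute [local instance] Algebra.TensorProduct.rightAlgebra in
/-- `Ω[(B₀ ⊗ H) ⊗[B₀] C₀ ⁄ B₀ ⊗ H] ≃ Ω[C₀⁄B₀] ⊗[A₀] H`. -/
noncomputable def kaehlerBCEquiv :
    Ω[((B₀ ⊗[A₀] H) ⊗[B₀] C₀)⁄(B₀ ⊗[A₀] H)] ≃ Ω[C₀⁄B₀] ⊗[A₀] H :=
  ((KaehlerDifferential.tensorKaehlerEquivBase B₀ (B₀ ⊗[A₀] H) C₀
      ((B₀ ⊗[A₀] H) ⊗[B₀] C₀)).symm.toEquiv.trans
    (TensorProduct.comm B₀ (B₀ ⊗[A₀] H) Ω[C₀⁄B₀]).toEquiv).trans
    (TensorProduct.AlgebraTensorModule.cancelBaseChange A₀ B₀ B₀ Ω[C₀⁄B₀] H).toEquiv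

theorem formallyUnramified_bc_iff :
    Algebra.FormallyUnramified (B₀ ⊗[A₀] H) ((B₀ ⊗[A₀] H) ⊗[B₀] C₀) ↔
      Subsingleton (Ω[C₀⁄B₀] ⊗[A₀] H) := by
  rw [Algebra.formallyUnramified_iff]
  exact (kaehlerBCEquiv A₀ B₀ C₀ H).subsingleton_congr

end

end Groth.Agent.Lib.Helper25
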