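import Groth.Agent.Lib.Helper25.ColimSmooth
import Groth.Agent.Lib.Helper25.ColimUnram
import Mathlib.RingTheory.Etale.Basic

set_option autoImplicit false
universe u v

namespace Groth.Agent.Lib.Helper25

open TensorProduct

theorem subsingleton_tensor_of_algHom {A₀ : Type u} [CommRing A₀]
    (M : Type v) [AddCommGroup M] [Module A₀ M]
    {H H' : Type u} [CommRing H] [Algebra A₀ H] [CommRing H'] [Algebra A₀ H']
    (τ : H →ₐ[A₀] H') [Subsingleton (M ⊗[A₀] H)] : Subsingleton (M ⊗[A₀] H') := by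
  refine subsingleton_of_forall_eq 0 fun x => ?_
  induction x using TensorProduct.induction_on with
  | zero => rfl
  | tmul m h' =>
    let L : H →ₗ[A₀] H' := (LinearMap.mulLeft A₀ h').comp τ.toLinearMap
    have h1 : (LinearMap.lTensor M L) (m ⊗ₜ[A₀] (1 : H)) = m ⊗ₜ[A₀] h' := by
      simp [L]
    rw [← h1, Subsingleton.elim (m ⊗ₜ[A₀] (1 : H)) 0, map_zero]
  | add x y hx hy => rw [hx, hy, add_zero]

section

variable {ι : Type u} [Preorder ι] [IsDirected ι (· ≤ ·)] [Nonempty ι]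
  {A₀ : Type u} [CommRing A₀] {G : ι → Type u} [∀ i, CommRing (G i)] [∀ i, Algebra A₀ (G i)]
  (f : ∀ i j, i ≤ j → (G i →ₐ[A₀] G j)) {A : Type u} [CommRing A] [Algebra A₀ A]
  (g : ∀ i, G i →ₐ[A₀] A) (hg : ∀ i j (h : i ≤ j), (g j).comp (f i j h) = g i)
  (hsurj : ∀ a : A, ∃ i, ∃ x : G i, g i x = a)
  (hker : ∀ i (x : G i), g i x = 0 → ∃ j, ∃ h : i ≤ j, f i j h x = 0)
  (B₀ : Type u) [CommRing B₀] [Algebra A₀ B₀]
  {P₀ C₀ : Type u} [CommRing P₀] [CommRing C₀]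
  [Algebra A₀ P₀] [Algebra B₀ P₀] [IsScalarTower A₀ B₀ P₀]
  [Algebra A₀ C₀] [Algebra B₀ C₀] [IsScalarTower A₀ B₀ C₀]
  (p : P₀ →ₐ[B₀] C₀)

include hg hsurj hker in
theorem exists_index_formallyEtale_of_presentation (hp : Function.Surjective p)
    [Algebra.FormallySmooth B₀ P₀] [Algebra.FinitePresentation B₀ C₀]
    [Algebra.FormallyEtale (B₀ ⊗[A₀] A) ((B₀ ⊗[A₀] A) ⊗[B₀] C₀)] :
    ∃ i, Algebra.FormallyEtale (B₀ ⊗[A₀] G i) ((B₀ ⊗[A₀] G i) ⊗[B₀] C₀) := by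
  have hu : Algebra.FormallyUnramified (B₀ ⊗[A₀] A) ((B₀ ⊗[A₀] A) ⊗[B₀] C₀) := inferInstance
  have hs : Algebra.FormallySmooth (B₀ ⊗[A₀] A) ((B₀ ⊗[A₀] A) ⊗[B₀] C₀) := inferInstance
  have h1 : Subsingleton (Ω[C₀⁄B₀] ⊗[A₀] A) := (formallyUnramified_bc_iff A₀ B₀ C₀ A).mp hu
  obtain ⟨i₁, hi₁⟩ := exists_index_subsingleton_tensor f g hg hsurj hker C₀ Ω[C₀⁄B₀] h1
  obtain ⟨i₂, hi₂⟩ := exists_index_formallySmooth_of_presentation f g hg hsurj hker B₀ p hp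
  obtain ⟨j, h1j, h2j⟩ := exists_ge_ge i₁ i₂
  have hj₁ : Subsingleton (Ω[C₀⁄B₀] ⊗[A₀] G j) :=
    subsingleton_tensor_of_algHom Ω[C₀⁄B₀] (f i₁ j h1j)
  have hj₂ : Algebra.FormallySmooth (B₀ ⊗[A₀] G j) ((B₀ ⊗[A₀] G j) ⊗[B₀] C₀) :=
    formallySmooth_dmap_of_algHom A₀ B₀ p hp (f i₂ j h2j)
  have hj₃ : Algebra.FormallyUnramified (B₀ ⊗[A₀] G j) ((B₀ ⊗[A₀] G j) ⊗[B₀] C₀) :=
    (formallyUnramified_bc_iff A₀ B₀ C₀ (G j)).mpr hj₁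
  exact ⟨j, Algebra.FormallyEtale.iff_formallyUnramified_and_formallySmooth.mpr ⟨hj₃, hj₂⟩⟩

end

end Groth.Agent.Lib.Helper25
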