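import Groth.Agent.Lib.Helper25.ColimSurj
import Mathlib.Algebra.Polynomial.Lifts
import Mathlib.RingTheory.IntegralClosure.Algebra.Basic
import Mathlib.RingTheory.IntegralClosure.IsIntegralClosure.Basic

set_option autoImplicit false
universe u v

namespace Groth.Agent.Lib.Helper25

open TensorProduct Polynomial

theorem exists_monic_lift {R S : Type*} [CommRing R] [CommRing S] (f : R →+* S) {p : S[X]}
    (hlifts : ∀ n, p.coeff n ∈ Set.range f) (hp : p.Monic) :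
    ∃ q : R[X], q.map f = p ∧ q.Monic := by
  let g : ℕ → R := fun k ↦ (hlifts k).choose
  have hg k : f (g k) = p.coeff k := (hlifts k).choose_spec
  let q : R[X] := X ^ p.natDegree + ∑ k ∈ Finset.range p.natDegree, C (g k) * X ^ k
  have hq : map f q = p := by
    simp_rw [q, Polynomial.map_add, Polynomial.map_sum, Polynomial.map_mul, Polynomial.map_pow,
      map_X, map_C, hg, ← hp.as_sum]
  have h : q.Monic := monic_X_pow_add (by simp_rw [← Fin.sum_univ_eq_sum_range, degree_sum_fin_lt])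
  exact ⟨q, hq, h⟩

section

variable (A₀ : Type u) [CommRing A₀] (B₀ : Type u) [CommRing B₀] [Algebra A₀ B₀]
  (C₀ : Type u) [CommRing C₀] [Algebra A₀ C₀] [Algebra B₀ C₀] [IsScalarTower A₀ B₀ C₀]

theorem phi_natural_ringHom {H H' : Type u} [CommRing H] [Algebra A₀ H] [CommRing H']
    [Algebra A₀ H'] (τ : H →ₐ[A₀] H') :
    ((bc C₀ τ).toRingHom).comp (phi A₀ B₀ C₀ H).toRingHom =
      (phi A₀ B₀ C₀ H').toRingHom.comp (bc B₀ τ).toRingHom :=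
  RingHom.ext (phi_natural A₀ B₀ C₀ τ)

/-- If the generators `x ⊗ 1` are integral over `phi`, then `phi` is finite. -/
theorem phi_finite_of_generators (H : Type u) [CommRing H] [Algebra A₀ H]
    (s : Finset C₀) (hs : Algebra.adjoin B₀ (s : Set C₀) = ⊤)
    (h : ∀ x ∈ s, (phi A₀ B₀ C₀ H).toRingHom.IsIntegralElem (x ⊗ₜ[A₀] (1 : H))) :
    (phi A₀ B₀ C₀ H).toRingHom.Finite := by
  classical
  letI := (phi A₀ B₀ C₀ H).toRingHom.toAlgebra
  have halg : ∀ b, algebraMap (B₀ ⊗[A₀] H) (C₀ ⊗[A₀] H) b = phi A₀ B₀ C₀ H b := fun b => rfl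
  let T : Set (C₀ ⊗[A₀] H) := (fun x : C₀ => x ⊗ₜ[A₀] (1 : H)) '' (s : Set C₀)
  have h1 : ∀ c : C₀, c ⊗ₜ[A₀] (1 : H) ∈ Algebra.adjoin (B₀ ⊗[A₀] H) T := by
    intro c
    have hc : c ∈ Algebra.adjoin B₀ (s : Set C₀) := by rw [hs]; trivial
    induction hc using Algebra.adjoin_induction with
    | mem x hx => exact Algebra.subset_adjoin ⟨x, hx, rfl⟩
    | algebraMap b =>
      have : (algebraMap B₀ C₀ b) ⊗ₜ[A₀] (1 : H) =
          algebraMap (B₀ ⊗[A₀] H) (C₀ ⊗[A₀] H) (b ⊗ₜ 1) := by rw [halg]; simp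
      rw [this]; exact Subalgebra.algebraMap_mem _ _
    | add x y _ _ hx hy => rw [TensorProduct.add_tmul]; exact add_mem hx hy
    | mul x y _ _ hx hy =>
      have : (x * y) ⊗ₜ[A₀] (1 : H) = (x ⊗ₜ 1) * (y ⊗ₜ 1) := by simp
      rw [this]; exact mul_mem hx hy
  have h2 : Algebra.adjoin (B₀ ⊗[A₀] H) T = ⊤ := by
    rw [eq_top_iff]
    rintro z -
    induction z using TensorProduct.induction_on with
    | zero => exact zero_mem _
    | tmul c x =>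
      have : c ⊗ₜ[A₀] x = (c ⊗ₜ 1) * algebraMap (B₀ ⊗[A₀] H) (C₀ ⊗[A₀] H) (1 ⊗ₜ x) := by
        rw [halg]; simp
      rw [this]
      exact mul_mem (h1 c) (Subalgebra.algebraMap_mem _ _)
    | add x y hx hy => exact add_mem hx hy
  have h3 : (Algebra.adjoin (B₀ ⊗[A₀] H) T).toSubmodule.FG := by
    apply fg_adjoin_of_finite (s.finite_toSet.image _)
    rintro _ ⟨x, hx, rfl⟩
    exact h x hx
  rw [h2] at h3
  exact ⟨by simpa using h3⟩

end

section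

variable {ι : Type u} [Preorder ι] [IsDirected ι (· ≤ ·)] [Nonempty ι]
  {A₀ : Type u} [CommRing A₀] {G : ι → Type u} [∀ i, CommRing (G i)] [∀ i, Algebra A₀ (G i)]
  (f : ∀ i j, i ≤ j → (G i →ₐ[A₀] G j)) {A : Type u} [CommRing A] [Algebra A₀ A]
  (g : ∀ i, G i →ₐ[A₀] A) (hg : ∀ i j (h : i ≤ j), (g j).comp (f i j h) = g i)
  (hsurj : ∀ a : A, ∃ i, ∃ x : G i, g i x = a)
  (hker : ∀ i (x : G i), g i x = 0 → ∃ j, ∃ h : i ≤ j, f i j h x = 0)
  (B₀ : Type u) [CommRing B₀] [Algebra A₀ B₀]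
  (C₀ : Type u) [CommRing C₀] [Algebra A₀ C₀] [Algebra B₀ C₀] [IsScalarTower A₀ B₀ C₀]

omit [IsDirected ι (· ≤ ·)] [Nonempty ι] in
theorem isIntegralElem_stable {i j : ι} (τ : G i →ₐ[A₀] G j) (x : C₀)
    (h : (phi A₀ B₀ C₀ (G i)).toRingHom.IsIntegralElem (x ⊗ₜ[A₀] (1 : G i))) :
    (phi A₀ B₀ C₀ (G j)).toRingHom.IsIntegralElem (x ⊗ₜ[A₀] (1 : G j)) := by
  obtain ⟨p, hp, hp0⟩ := h
  refine ⟨p.map (bc B₀ τ).toRingHom, hp.map _, ?_⟩
  rw [Polynomial.eval₂_map, ← phi_natural_ringHom]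
  have := congrArg (bc C₀ τ) hp0
  rw [map_zero] at this
  rw [← this]
  have h2 := Polynomial.hom_eval₂ p (phi A₀ B₀ C₀ (G i)).toRingHom (bc C₀ τ).toRingHom
    (x ⊗ₜ[A₀] (1 : G i))
  have h3 : (bc C₀ τ).toRingHom (x ⊗ₜ[A₀] (1 : G i)) = x ⊗ₜ[A₀] (1 : G j) := by simp
  rw [h3] at h2
  exact h2.symm

include hg hsurj hker in
theorem exists_index_isIntegralElem (x : C₀)
    (h : (phi A₀ B₀ C₀ A).toRingHom.IsIntegralElem (x ⊗ₜ[A₀] (1 : A))) :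
    ∃ i, (phi A₀ B₀ C₀ (G i)).toRingHom.IsIntegralElem (x ⊗ₜ[A₀] (1 : G i)) := by
  classical
  obtain ⟨p, hp, hp0⟩ := h
  obtain ⟨i₀⟩ := ‹Nonempty ι›
  obtain ⟨i, -, hi⟩ := bc_exists_eq_finset f g hg hsurj B₀ i₀ p.coeffs
  have hl : ∀ n, p.coeff n ∈ Set.range (bc B₀ (g i)).toRingHom := by
    intro n
    by_cases hn : p.coeff n = 0
    · exact ⟨0, by rw [hn, map_zero]⟩
    · obtain ⟨w, hw⟩ := hi _ (Polynomial.coeff_mem_coeffs hn)
      exact ⟨w, hw⟩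
  obtain ⟨q, hq, hqm⟩ := exists_monic_lift (bc B₀ (g i)).toRingHom hl hp
  set y := Polynomial.eval₂ (phi A₀ B₀ C₀ (G i)).toRingHom (x ⊗ₜ[A₀] (1 : G i)) q with hy
  have hy0 : bc C₀ (g i) y = 0 := by
    have h2 := Polynomial.hom_eval₂ q (phi A₀ B₀ C₀ (G i)).toRingHom (bc C₀ (g i)).toRingHom
      (x ⊗ₜ[A₀] (1 : G i))
    have h3 : (bc C₀ (g i)).toRingHom (x ⊗ₜ[A₀] (1 : G i)) = x ⊗ₜ[A₀] (1 : A) := by simp
    rw [h3, phi_natural_ringHom, ← Polynomial.eval₂_map, hq, hp0] at h2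
    exact h2
  obtain ⟨j, σ, -, hkill⟩ := bc_exists_kill f g hg hsurj hker C₀ i y hy0
  refine ⟨j, q.map (bc B₀ σ).toRingHom, hqm.map _, ?_⟩
  rw [Polynomial.eval₂_map, ← phi_natural_ringHom]
  have h2 := Polynomial.hom_eval₂ q (phi A₀ B₀ C₀ (G i)).toRingHom (bc C₀ σ).toRingHom
    (x ⊗ₜ[A₀] (1 : G i))
  have h3 : (bc C₀ σ).toRingHom (x ⊗ₜ[A₀] (1 : G i)) = x ⊗ₜ[A₀] (1 : G j) := by simp
  rw [h3] at h2
  rw [← h2]
  exact hkill

include hg hsurj hker in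
theorem exists_index_phi_finite [Algebra.FiniteType B₀ C₀]
    (h : (phi A₀ B₀ C₀ A).toRingHom.Finite) :
    ∃ i, (phi A₀ B₀ C₀ (G i)).toRingHom.Finite := by
  obtain ⟨s, hs⟩ := (Algebra.FiniteType.out : (⊤ : Subalgebra B₀ C₀).FG)
  obtain ⟨i₀⟩ := ‹Nonempty ι›
  have hint := h.to_isIntegral
  obtain ⟨i, -, hi⟩ := exists_forall_of_stable
    (fun (x : C₀) (i : ι) => (phi A₀ B₀ C₀ (G i)).toRingHom.IsIntegralElem (x ⊗ₜ[A₀] (1 : G i)))
    (fun x i j hij hx => isIntegralElem_stable B₀ C₀ (f i j hij) x hx) i₀ s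
    (fun x _ => exists_index_isIntegralElem f g hg hsurj hker B₀ C₀ x (hint _))
  exact ⟨i, phi_finite_of_generators A₀ B₀ C₀ (G i) s hs hi⟩

end

end Groth.Agent.Lib.Helper25
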