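import Mathlib.RingTheory.Smooth.Basic
import Mathlib.RingTheory.FiniteStability
import Mathlib.LinearAlgebra.TensorProduct.RightExactness

set_option autoImplicit false
universe u v

namespace Groth.Agent.Lib.Helper25

open TensorProduct

set_option backward.isDefEq.respectTransparency false in
/-- A surjection onto a formally smooth algebra with square-zero kernel has a section. -/
theorem exists_section_of_formallySmooth_of_sqZero
    {R Q S : Type u} [CommRing R] [CommRing Q] [CommRing S]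
    [Algebra R Q] [Algebra R S] [Algebra.FormallySmooth R S]
    (pr : Q →ₐ[R] S) (surj : Function.Surjective pr) (sqz : RingHom.ker pr ^ 2 = ⊥) :
    ∃ s : S →ₐ[R] Q, pr.comp s = AlgHom.id R S := by
  obtain ⟨s, hs⟩ := Algebra.FormallySmooth.comp_surjective R S _ sqz
    (Ideal.quotientKerAlgEquivOfSurjective surj).symm.toAlgHom
  refine ⟨s, AlgHom.ext fun x ↦ congr(pr.kerLift ($hs x)).trans ?_⟩
  obtain ⟨x, rfl⟩ := (Ideal.quotientKerAlgEquivOfSurjective surj).surjective x
  obtain ⟨x, rfl⟩ := Ideal.Quotient.mk_surjective x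
  simp only [AlgHom.toRingHom_eq_coe, AlgEquiv.coe_toAlgHom, AlgEquiv.symm_apply_apply,
    AlgHom.coe_id, id_eq]
  simp only [Ideal.quotientKerAlgEquivOfSurjective_apply]

section

variable {B₀ : Type u} [CommRing B₀] {P₀ C₀ : Type u} [CommRing P₀] [CommRing C₀]
  [Algebra B₀ P₀] [Algebra B₀ C₀] (p : P₀ →ₐ[B₀] C₀) (hp : Function.Surjective p)
  (R' : Type u) [CommRing R'] [Algebra B₀ R']

/-- The base change of the square-zero thickening `P₀/I² → C₀`. -/
noncomputable abbrev thickMap :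
    R' ⊗[B₀] (P₀ ⧸ RingHom.ker p.toRingHom ^ 2) →ₐ[R'] R' ⊗[B₀] C₀ :=
  Algebra.TensorProduct.map (AlgHom.id R' R') p.kerSquareLift

include hp in
theorem thickMap_surjective : Function.Surjective (thickMap p R') := by
  apply Algebra.TensorProduct.map_surjective
  · exact Function.surjective_id
  · intro c
    obtain ⟨x, rfl⟩ := hp c
    exact ⟨Ideal.Quotient.mk _ x, AlgHom.kerSquareLift_mk p x⟩

include hp in
theorem thickMap_ker_sq : RingHom.ker (thickMap p R') ^ 2 = ⊥ := by
  have hsurj : Function.Surjective p.kerSquareLift := by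
    intro c
    obtain ⟨x, rfl⟩ := hp c
    exact ⟨Ideal.Quotient.mk _ x, AlgHom.kerSquareLift_mk p x⟩
  have h1 := Algebra.TensorProduct.lTensor_ker (A := R') p.kerSquareLift hsurj
  have h2 : RingHom.ker (thickMap p R') =
      (RingHom.ker p.kerSquareLift).map
        (Algebra.TensorProduct.includeRight : _ →ₐ[B₀] R' ⊗[B₀] _) := h1
  rw [h2, ← Ideal.map_pow]
  have h3 : RingHom.ker p.kerSquareLift ^ 2 = ⊥ := by
    have := AlgHom.ker_kerSquareLift p
    rw [show RingHom.ker p.kerSquareLift = RingHom.ker p.kerSquareLift.toRingHom from rfl, this,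
      Ideal.cotangentIdeal_square]
  rw [h3, Ideal.map_bot]

include hp in
/-- If `R' ⊗ C₀` is formally smooth over `R'`, the thickening has a section. -/
theorem exists_section_thickMap [Algebra.FormallySmooth R' (R' ⊗[B₀] C₀)] :
    ∃ s₀ : C₀ →ₐ[B₀] R' ⊗[B₀] (P₀ ⧸ RingHom.ker p.toRingHom ^ 2),
      ((thickMap p R').restrictScalars B₀).comp s₀ = Algebra.TensorProduct.includeRight := by
  obtain ⟨s, hs⟩ := exists_section_of_formallySmooth_of_sqZero (thickMap p R')
    (thickMap_surjective p hp R') (thickMap_ker_sq p hp R')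
  refine ⟨(s.restrictScalars B₀).comp Algebra.TensorProduct.includeRight, ?_⟩
  ext c
  have := DFunLike.congr_fun hs ((1 : R') ⊗ₜ[B₀] c)
  exact this

end

end Groth.Agent.Lib.Helper25

namespace Groth.Agent.Lib.Helper25

open TensorProduct

section

variable {B₀ : Type u} [CommRing B₀] {P₀ C₀ : Type u} [CommRing P₀] [CommRing C₀]
  [Algebra B₀ P₀] [Algebra B₀ C₀] (p : P₀ →ₐ[B₀] C₀) (hp : Function.Surjective p)
  (R' : Type u) [CommRing R'] [Algebra B₀ R']

include hp in
/-- If the thickening has a section (given on `C₀`), then `R' ⊗ C₀` is formally smooth over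
`R'`, provided `P₀` is formally smooth over `B₀`. -/
theorem formallySmooth_of_section_thickMap [Algebra.FormallySmooth B₀ P₀]
    (s₀ : C₀ →ₐ[B₀] R' ⊗[B₀] (P₀ ⧸ RingHom.ker p.toRingHom ^ 2))
    (hs₀ : ((thickMap p R').restrictScalars B₀).comp s₀ = Algebra.TensorProduct.includeRight) :
    Algebra.FormallySmooth R' (R' ⊗[B₀] C₀) := by
  let F : R' ⊗[B₀] P₀ →ₐ[R'] R' ⊗[B₀] C₀ := Algebra.TensorProduct.map (AlgHom.id R' R') p
  have hF : Function.Surjective F :=
    Algebra.TensorProduct.map_surjective _ _ Function.surjective_id hp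
  rw [Algebra.FormallySmooth.iff_split_surjection F hF]
  have hle : RingHom.ker p.toRingHom ^ 2 ≤
      (RingHom.ker F.toRingHom ^ 2).comap
        (Algebra.TensorProduct.includeRight : P₀ →ₐ[B₀] R' ⊗[B₀] P₀) := by
    refine le_trans (Ideal.pow_right_mono ?_ 2) (Ideal.le_comap_pow _ 2)
    intro x hx
    have hx' : p x = 0 := hx
    change F ((1 : R') ⊗ₜ[B₀] x) = 0
    simp [F, hx']
  let k₀ : (P₀ ⧸ RingHom.ker p.toRingHom ^ 2) →ₐ[B₀]
      (R' ⊗[B₀] P₀) ⧸ RingHom.ker F.toRingHom ^ 2 :=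
    Ideal.Quotient.liftₐ _ ((Ideal.Quotient.mkₐ B₀ _).comp
      (Algebra.TensorProduct.includeRight : P₀ →ₐ[B₀] R' ⊗[B₀] P₀)) (by
      intro x hx
      change Ideal.Quotient.mk _ ((1 : R') ⊗ₜ[B₀] x) = 0
      exact Ideal.Quotient.eq_zero_iff_mem.mpr (hle hx))
  let k : R' ⊗[B₀] (P₀ ⧸ RingHom.ker p.toRingHom ^ 2) →ₐ[R']
      (R' ⊗[B₀] P₀) ⧸ RingHom.ker F.toRingHom ^ 2 :=
    Algebra.TensorProduct.lift (Algebra.ofId R' _) k₀ (fun _ _ => Commute.all _ _)
  let s : R' ⊗[B₀] C₀ →ₐ[R'] R' ⊗[B₀] (P₀ ⧸ RingHom.ker p.toRingHom ^ 2) :=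
    Algebra.TensorProduct.lift (Algebra.ofId R' _) s₀ (fun _ _ => Commute.all _ _)
  have hk : ∀ y, F.kerSquareLift (k y) = thickMap p R' y := by
    intro y
    induction y using TensorProduct.induction_on with
    | zero => rw [map_zero, map_zero, map_zero]
    | tmul r c' =>
      obtain ⟨x, rfl⟩ := Ideal.Quotient.mk_surjective c'
      have e0 : k (r ⊗ₜ[B₀] (Ideal.Quotient.mk _ x)) =
          Algebra.ofId R' _ r * k₀ (Ideal.Quotient.mk _ x) :=
        Algebra.TensorProduct.lift_tmul _ _ _ _ _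
      have e1 : k₀ (Ideal.Quotient.mk _ x) =
          Ideal.Quotient.mk _ ((1 : R') ⊗ₜ[B₀] x) := rfl
      have e2 : F.kerSquareLift (Ideal.Quotient.mk _ ((1 : R') ⊗ₜ[B₀] x)) =
          F ((1 : R') ⊗ₜ[B₀] x) := AlgHom.kerSquareLift_mk F _
      have e3 : p.kerSquareLift (Ideal.Quotient.mk _ x) = p x := AlgHom.kerSquareLift_mk p x
      have e4 : F.kerSquareLift (Algebra.ofId R' _ r) = r ⊗ₜ[B₀] (1 : C₀) := by
        rw [Algebra.ofId_apply, AlgHom.commutes, Algebra.TensorProduct.algebraMap_apply]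
        rfl
      have e5 : thickMap p R' (r ⊗ₜ[B₀] (Ideal.Quotient.mk _ x)) = r ⊗ₜ[B₀] p x := by
        change (Algebra.TensorProduct.map (AlgHom.id R' R') p.kerSquareLift)
          (r ⊗ₜ[B₀] (Ideal.Quotient.mk _ x)) = _
        rw [Algebra.TensorProduct.map_tmul, e3]
        rfl
      have e6 : F ((1 : R') ⊗ₜ[B₀] x) = (1 : R') ⊗ₜ[B₀] p x := by
        change (Algebra.TensorProduct.map (AlgHom.id R' R') p) ((1 : R') ⊗ₜ[B₀] x) = _
        rw [Algebra.TensorProduct.map_tmul]
        rfl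
      rw [e0, map_mul, e1, e2, e4, e5, e6, Algebra.TensorProduct.tmul_mul_tmul, mul_one, one_mul]
    | add x y hx hy => simp only [map_add, hx, hy]
  refine ⟨k.comp s, ?_⟩
  apply Algebra.TensorProduct.ext (by ext)
  ext c
  simp only [AlgHom.comp_apply, AlgHom.coe_restrictScalars', Algebra.TensorProduct.includeRight_apply,
    AlgHom.coe_id, id_eq]
  have e1 : s ((1 : R') ⊗ₜ[B₀] c) = s₀ c := by
    change (Algebra.TensorProduct.lift (Algebra.ofId R' _) s₀ (fun _ _ => Commute.all _ _))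
      ((1 : R') ⊗ₜ[B₀] c) = s₀ c
    rw [Algebra.TensorProduct.lift_tmul, map_one, one_mul]
  rw [e1, hk]
  exact DFunLike.congr_fun hs₀ c

end

end Groth.Agent.Lib.Helper25
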