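import Groth.Agent.Lib.Helper25.ColimD
import Groth.Agent.Lib.Helper25.SmoothCrit

set_option autoImplicit false
universe u v

namespace Groth.Agent.Lib.Helper25

open TensorProduct

section

variable (A₀ : Type u) [CommRing A₀] (B₀ : Type u) [CommRing B₀] [Algebra A₀ B₀]
  {P₀ C₀ : Type u} [CommRing P₀] [CommRing C₀]
  [Algebra A₀ P₀] [Algebra B₀ P₀] [IsScalarTower A₀ B₀ P₀]
  [Algebra A₀ C₀] [Algebra B₀ C₀] [IsScalarTower A₀ B₀ C₀]
  (p : P₀ →ₐ[B₀] C₀)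

theorem thickMap_natural {H H' : Type u} [CommRing H] [Algebra A₀ H] [CommRing H']
    [Algebra A₀ H'] (τ : H →ₐ[A₀] H')
    (x : (B₀ ⊗[A₀] H) ⊗[B₀] (P₀ ⧸ RingHom.ker p.toRingHom ^ 2)) :
    dmap A₀ B₀ C₀ τ (thickMap p (B₀ ⊗[A₀] H) x) =
      thickMap p (B₀ ⊗[A₀] H') (dmap A₀ B₀ (P₀ ⧸ RingHom.ker p.toRingHom ^ 2) τ x) := by
  induction x using TensorProduct.induction_on with
  | zero => simp only [map_zero]
  | tmul r c => rfl
  | add x y hx hy => simp only [map_add, hx, hy]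

theorem thickMap_natural_comp {H H' : Type u} [CommRing H] [Algebra A₀ H] [CommRing H']
    [Algebra A₀ H'] (τ : H →ₐ[A₀] H') :
    (dmap A₀ B₀ C₀ τ).comp ((thickMap p (B₀ ⊗[A₀] H)).restrictScalars B₀) =
      ((thickMap p (B₀ ⊗[A₀] H')).restrictScalars B₀).comp
        (dmap A₀ B₀ (P₀ ⧸ RingHom.ker p.toRingHom ^ 2) τ) :=
  AlgHom.ext fun x => thickMap_natural A₀ B₀ p τ x

theorem dmap_comp_includeRight (M : Type u) [CommRing M] [Algebra A₀ M] [Algebra B₀ M]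
    [IsScalarTower A₀ B₀ M] {H H' : Type u} [CommRing H] [Algebra A₀ H] [CommRing H']
    [Algebra A₀ H'] (τ : H →ₐ[A₀] H') :
    (dmap A₀ B₀ M τ).comp (Algebra.TensorProduct.includeRight : M →ₐ[B₀] (B₀ ⊗[A₀] H) ⊗[B₀] M) =
      Algebra.TensorProduct.includeRight := by
  ext m
  simp

/-- Formal smoothness of the base change is stable along a transition map. -/
theorem formallySmooth_dmap_of_algHom (hp : Function.Surjective p)
    [Algebra.FormallySmooth B₀ P₀]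
    {H H' : Type u} [CommRing H] [Algebra A₀ H] [CommRing H'] [Algebra A₀ H']
    (τ : H →ₐ[A₀] H')
    [Algebra.FormallySmooth (B₀ ⊗[A₀] H) ((B₀ ⊗[A₀] H) ⊗[B₀] C₀)] :
    Algebra.FormallySmooth (B₀ ⊗[A₀] H') ((B₀ ⊗[A₀] H') ⊗[B₀] C₀) := by
  obtain ⟨s₀, hs₀⟩ := exists_section_thickMap p hp (B₀ ⊗[A₀] H)
  refine formallySmooth_of_section_thickMap p hp (B₀ ⊗[A₀] H')
    ((dmap A₀ B₀ (P₀ ⧸ RingHom.ker p.toRingHom ^ 2) τ).comp s₀) ?_
  rw [← AlgHom.comp_assoc, ← thickMap_natural_comp, AlgHom.comp_assoc, hs₀,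
    dmap_comp_includeRight]

end

section

variable {ι : Type u} [Preorder ι] [IsDirected ι (· ≤ ·)] [Nonempty ι]
  {A₀ : Type u} [CommRing A₀] {G : ι → Type u} [∀ i, CommRing (G i)] [∀ i, Algebra A₀ (G i)]
  (f : ∀ i j, i ≤ j → (G i →ₐ[A₀] G j)) {A : Type u} [CommRing A] [Algebra A₀ A]
  (g : ∀ i, G i →ₐ[A₀] A) (hg : ∀ i j (h : i ≤ j), (g j).comp (f i j h) = g i)
  (hsurj : ∀ a : A, ∃ i, ∃ x : G i, g i x = a)
  (hker : ∀ i (x : G i), g i x = 0 → ∃ j, ∃ h : i ≤ j, f i j h x = 0)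
  (B₀ : Type u) [CommRing B₀] [Algebra A₀ B₀]
  {P₀ C₀ : Type u} [CommRing P₀] [CommRing C₀]
  [Algebra A₀ P₀] [Algebra B₀ P₀] [IsScalarTower A₀ B₀ P₀]
  [Algebra A₀ C₀] [Algebra B₀ C₀] [IsScalarTower A₀ B₀ C₀]
  (p : P₀ →ₐ[B₀] C₀)

include hg hsurj hker in
theorem exists_index_formallySmooth_of_presentation (hp : Function.Surjective p)
    [Algebra.FormallySmooth B₀ P₀] [Algebra.FinitePresentation B₀ C₀]
    [Algebra.FormallySmooth (B₀ ⊗[A₀] A) ((B₀ ⊗[A₀] A) ⊗[B₀] C₀)] :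
    ∃ i, Algebra.FormallySmooth (B₀ ⊗[A₀] G i) ((B₀ ⊗[A₀] G i) ⊗[B₀] C₀) := by
  obtain ⟨sA, hsA⟩ := exists_section_thickMap p hp (B₀ ⊗[A₀] A)
  obtain ⟨j, ψ', hψ'⟩ := dmap_exists_index_algHom f g hg hsurj hker B₀
    (P₀ ⧸ RingHom.ker p.toRingHom ^ 2) C₀ sA
  obtain ⟨j', σ, hσ, heq⟩ := dmap_exists_eq_algHom f g hg hsurj hker B₀ C₀ C₀ j
    (((thickMap p (B₀ ⊗[A₀] G j)).restrictScalars B₀).comp ψ')
    Algebra.TensorProduct.includeRight (by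
      rw [← AlgHom.comp_assoc, thickMap_natural_comp, AlgHom.comp_assoc, hψ', hsA,
        dmap_comp_includeRight])
  refine ⟨j', formallySmooth_of_section_thickMap p hp (B₀ ⊗[A₀] G j')
    ((dmap A₀ B₀ (P₀ ⧸ RingHom.ker p.toRingHom ^ 2) σ).comp ψ') ?_⟩
  rw [← AlgHom.comp_assoc, ← thickMap_natural_comp, AlgHom.comp_assoc, heq,
    dmap_comp_includeRight]

end

end Groth.Agent.Lib.Helper25
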