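import Groth.Agent.Lib.Helper25.ColimTheta
import Mathlib.RingTheory.FiniteType

set_option autoImplicit false
universe u v

namespace Groth.Agent.Lib.Helper25

open TensorProduct

section

variable (A₀ : Type u) [CommRing A₀] (B₀ : Type u) [CommRing B₀] [Algebra A₀ B₀]
  (C₀ : Type u) [CommRing C₀] [Algebra A₀ C₀] [Algebra B₀ C₀] [IsScalarTower A₀ B₀ C₀]

theorem phi_natural {H H' : Type u} [CommRing H] [Algebra A₀ H] [CommRing H'] [Algebra A₀ H']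
    (τ : H →ₐ[A₀] H') (b : B₀ ⊗[A₀] H) :
    bc C₀ τ (phi A₀ B₀ C₀ H b) = phi A₀ B₀ C₀ H' (bc B₀ τ b) := by
  induction b using TensorProduct.induction_on with
  | zero => simp
  | tmul b h => simp
  | add x y hx hy => simp only [map_add, hx, hy]

theorem bc_tmul_one {H H' : Type u} [CommRing H] [Algebra A₀ H] [CommRing H'] [Algebra A₀ H']
    (τ : H →ₐ[A₀] H') (c : C₀) : bc C₀ τ (c ⊗ₜ[A₀] (1 : H)) = c ⊗ₜ[A₀] (1 : H') := by
  simp

/-- If the generators `x ⊗ 1` are in the range of `phi`, then `phi` is surjective. -/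
theorem phi_surjective_of_generators (H : Type u) [CommRing H] [Algebra A₀ H]
    (s : Set C₀) (hs : Algebra.adjoin B₀ s = ⊤)
    (h : ∀ x ∈ s, ∃ b, phi A₀ B₀ C₀ H b = x ⊗ₜ[A₀] (1 : H)) :
    Function.Surjective (phi A₀ B₀ C₀ H) := by
  have h1 : ∀ c : C₀, c ⊗ₜ[A₀] (1 : H) ∈ (phi A₀ B₀ C₀ H).range := by
    intro c
    have hc : c ∈ Algebra.adjoin B₀ s := by rw [hs]; trivial
    induction hc using Algebra.adjoin_induction with
    | mem x hx => exact h x hx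
    | algebraMap b => exact ⟨b ⊗ₜ 1, by simp⟩
    | add x y _ _ hx hy => rw [TensorProduct.add_tmul]; exact add_mem hx hy
    | mul x y _ _ hx hy =>
      have : (x * y) ⊗ₜ[A₀] (1 : H) = (x ⊗ₜ 1) * (y ⊗ₜ 1) := by simp
      rw [this]; exact mul_mem hx hy
  intro z
  change z ∈ (phi A₀ B₀ C₀ H).range
  induction z using TensorProduct.induction_on with
  | zero => exact zero_mem _
  | tmul c x =>
    have : c ⊗ₜ[A₀] x = (c ⊗ₜ 1) * (phi A₀ B₀ C₀ H (1 ⊗ₜ x)) := by simp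
    rw [this]
    exact mul_mem (h1 c) ⟨_, rfl⟩
  | add x y hx hy => exact add_mem hx hy

end

section

variable {ι : Type u} [Preorder ι] [IsDirected ι (· ≤ ·)] [Nonempty ι]
  {A₀ : Type u} [CommRing A₀] {G : ι → Type u} [∀ i, CommRing (G i)] [∀ i, Algebra A₀ (G i)]
  (f : ∀ i j, i ≤ j → (G i →ₐ[A₀] G j)) {A : Type u} [CommRing A] [Algebra A₀ A]
  (g : ∀ i, G i →ₐ[A₀] A) (hg : ∀ i j (h : i ≤ j), (g j).comp (f i j h) = g i)
  (hsurj : ∀ a : A, ∃ i, ∃ x : G i, g i x = a)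
  (hker : ∀ i (x : G i), g i x = 0 → ∃ j, ∃ h : i ≤ j, f i j h x = 0)
  (B₀ : Type u) [CommRing B₀] [Algebra A₀ B₀]
  (C₀ : Type u) [CommRing C₀] [Algebra A₀ C₀] [Algebra B₀ C₀] [IsScalarTower A₀ B₀ C₀]

include hg hsurj hker in
/-- An element in the range of `phi` at the colimit is in the range at a finite stage. -/
theorem exists_phi_eq_of_phi_eq (i₀ : ι) (y : C₀ ⊗[A₀] G i₀) (b : B₀ ⊗[A₀] A)
    (hb : phi A₀ B₀ C₀ A b = bc C₀ (g i₀) y) :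
    ∃ j, ∃ σ : G i₀ →ₐ[A₀] G j, (g j).comp σ = g i₀ ∧
      ∃ b' : B₀ ⊗[A₀] G j, phi A₀ B₀ C₀ (G j) b' = bc C₀ σ y ∧ bc B₀ (g j) b' = b := by
  obtain ⟨i₁, b₁, hb₁⟩ := bc_exists_eq f g hg hsurj B₀ b
  obtain ⟨i, h0, h1⟩ := exists_ge_ge i₀ i₁
  set b₂ := bc B₀ (f i₁ i h1) b₁ with hb₂
  have hb₂' : bc B₀ (g i) b₂ = b := by rw [hb₂, ← bc_comp, hg, hb₁]
  set y₂ := bc C₀ (f i₀ i h0) y with hy₂
  have hy₂' : bc C₀ (g i) y₂ = bc C₀ (g i₀) y := by rw [hy₂, ← bc_comp, hg]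
  have hw : bc C₀ (g i) (y₂ - phi A₀ B₀ C₀ (G i) b₂) = 0 := by
    rw [map_sub, phi_natural, hb₂', hb, hy₂', sub_self]
  obtain ⟨j, σ, hσ, hkill⟩ := bc_exists_kill f g hg hsurj hker C₀ i _ hw
  refine ⟨j, σ.comp (f i₀ i h0), ?_, bc B₀ σ b₂, ?_, ?_⟩
  · rw [← AlgHom.comp_assoc, hσ, hg]
  · rw [map_sub, sub_eq_zero] at hkill
    rw [← phi_natural, ← hkill, hy₂, ← bc_comp]
  · rw [← bc_comp, hσ, hb₂']

include hg hsurj hker in
theorem exists_index_phi_surjective [Algebra.FiniteType B₀ C₀]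
    (h : Function.Surjective (phi A₀ B₀ C₀ A)) :
    ∃ i, Function.Surjective (phi A₀ B₀ C₀ (G i)) := by
  obtain ⟨s, hs⟩ := (Algebra.FiniteType.out : (⊤ : Subalgebra B₀ C₀).FG)
  obtain ⟨i₀⟩ := ‹Nonempty ι›
  obtain ⟨i, -, hi⟩ := exists_forall_of_stable
    (fun (x : C₀) (i : ι) => ∃ b : B₀ ⊗[A₀] G i, phi A₀ B₀ C₀ (G i) b = x ⊗ₜ[A₀] (1 : G i))
    (by
      rintro x i j hij ⟨b, hb⟩
      refine ⟨bc B₀ (f i j hij) b, ?_⟩
      rw [← phi_natural, hb, bc_tmul_one]) i₀ s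
    (by
      intro x _
      obtain ⟨b, hb⟩ := h (x ⊗ₜ 1)
      obtain ⟨j, σ, -, b', hb', -⟩ := exists_phi_eq_of_phi_eq f g hg hsurj hker B₀ C₀ i₀
        (x ⊗ₜ 1) b (by rw [hb, bc_tmul_one])
      exact ⟨j, b', by rw [hb', bc_tmul_one]⟩)
  exact ⟨i, phi_surjective_of_generators A₀ B₀ C₀ (G i) s hs (fun x hx => hi x hx)⟩

end

end Groth.Agent.Lib.Helper25
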