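import Mathlib.LinearAlgebra.TensorProduct.DirectLimit
import Mathlib.LinearAlgebra.TensorProduct.RightExactness
import Mathlib.LinearAlgebra.TensorProduct.Finiteness
import Mathlib.Algebra.Colimit.Module
import Mathlib.RingTheory.TensorProduct.Basic

set_option autoImplicit false
universe u v

namespace Groth.Agent.Lib.Helper25

open TensorProduct

section

variable {ι : Type u} [Preorder ι] [IsDirected ι (· ≤ ·)] [Nonempty ι]
  {A₀ : Type u} [CommRing A₀] {G : ι → Type u} [∀ i, CommRing (G i)] [∀ i, Algebra A₀ (G i)]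
  (f : ∀ i j, i ≤ j → (G i →ₐ[A₀] G j)) {A : Type u} [CommRing A] [Algebra A₀ A]
  (g : ∀ i, G i →ₐ[A₀] A) (hg : ∀ i j (h : i ≤ j), (g j).comp (f i j h) = g i)
  (hsurj : ∀ a : A, ∃ i, ∃ x : G i, g i x = a)
  (hker : ∀ i (x : G i), g i x = 0 → ∃ j, ∃ h : i ≤ j, f i j h x = 0)

omit [IsDirected ι (· ≤ ·)] [Nonempty ι] in
include hg hker in
theorem exists_trans_kill_finset (i : ι) (s : Finset (G i)) (hs : ∀ x ∈ s, g i x = 0) :
    ∃ j, ∃ σ : G i →ₐ[A₀] G j, (g j).comp σ = g i ∧ ∀ x ∈ s, σ x = 0 := by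
  classical
  induction s using Finset.induction_on with
  | empty => exact ⟨i, AlgHom.id A₀ _, by simp, by simp⟩
  | insert a s ha ih =>
    obtain ⟨j, σ, hσ, hσs⟩ := ih (fun x hx => hs x (Finset.mem_insert_of_mem hx))
    have h1 : g j (σ a) = 0 := by
      rw [← AlgHom.comp_apply, hσ]; exact hs a (Finset.mem_insert_self a s)
    obtain ⟨k, hjk, hk⟩ := hker j _ h1
    refine ⟨k, (f j k hjk).comp σ, ?_, ?_⟩
    · rw [← AlgHom.comp_assoc, hg, hσ]
    · intro x hx
      rcases Finset.mem_insert.mp hx with rfl | hx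
      · exact hk
      · simp [hσs x hx]

include hg hsurj in
theorem exists_lTensor_eq (M : Type v) [AddCommGroup M] [Module A₀ M] (z : M ⊗[A₀] A) :
    ∃ i, ∃ w : M ⊗[A₀] G i, LinearMap.lTensor M (g i).toLinearMap w = z := by
  induction z using TensorProduct.induction_on with
  | zero => obtain ⟨i⟩ := ‹Nonempty ι›; exact ⟨i, 0, map_zero _⟩
  | tmul m a => obtain ⟨i, x, rfl⟩ := hsurj a; exact ⟨i, m ⊗ₜ x, by simp⟩
  | add z₁ z₂ h₁ h₂ =>
    obtain ⟨i₁, w₁, rfl⟩ := h₁
    obtain ⟨i₂, w₂, rfl⟩ := h₂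
    obtain ⟨k, h1, h2⟩ := exists_ge_ge i₁ i₂
    refine ⟨k, LinearMap.lTensor M (f i₁ k h1).toLinearMap w₁ +
      LinearMap.lTensor M (f i₂ k h2).toLinearMap w₂, ?_⟩
    have e1 : (g k).toLinearMap ∘ₗ (f i₁ k h1).toLinearMap = (g i₁).toLinearMap := by
      rw [← AlgHom.comp_toLinearMap, hg]
    have e2 : (g k).toLinearMap ∘ₗ (f i₂ k h2).toLinearMap = (g i₂).toLinearMap := by
      rw [← AlgHom.comp_toLinearMap, hg]
    rw [map_add, ← LinearMap.comp_apply, ← LinearMap.lTensor_comp, ← LinearMap.comp_apply,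
      ← LinearMap.lTensor_comp, e1, e2]

include hg hsurj hker in
theorem exists_trans_lTensor_eq_zero (M : Type v) [AddCommGroup M] [Module A₀ M] (i : ι)
    (w : M ⊗[A₀] G i) (hw : LinearMap.lTensor M (g i).toLinearMap w = 0) :
    ∃ j, ∃ σ : G i →ₐ[A₀] G j, (g j).comp σ = g i ∧ LinearMap.lTensor M σ.toLinearMap w = 0 := by
  classical
  let Ar : ι → Submodule A₀ A := fun i => LinearMap.range (g i).toLinearMap
  have hmono : ∀ i j, i ≤ j → Ar i ≤ Ar j := by
    rintro i j h _ ⟨x, rfl⟩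
    exact ⟨f i j h x, DFunLike.congr_fun (hg i j h) x⟩
  let inc : ∀ i j, i ≤ j → Ar i →ₗ[A₀] Ar j := fun i j h => Submodule.inclusion (hmono i j h)
  haveI : DirectedSystem (fun i => Ar i) (fun i j h => inc i j h) :=
    ⟨fun _ _ => rfl, fun _ _ _ _ _ _ => rfl⟩
  let Φ : Module.DirectLimit (fun i => Ar i) inc →ₗ[A₀] A :=
    Module.DirectLimit.lift A₀ ι _ inc (fun i => (Ar i).subtype) (fun i j h x => rfl)
  have hΦinj : Function.Injective Φ :=
    Module.DirectLimit.lift_injective _ _ (fun i => Subtype.val_injective)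
  have hΦsurj : Function.Surjective Φ := by
    intro a
    obtain ⟨i, x, rfl⟩ := hsurj a
    exact ⟨Module.DirectLimit.of A₀ ι _ inc i ⟨g i x, x, rfl⟩, by simp [Φ]⟩
  let e : Module.DirectLimit (fun i => Ar i) inc ≃ₗ[A₀] A := LinearEquiv.ofBijective Φ ⟨hΦinj, hΦsurj⟩
  let gr : ∀ i, G i →ₗ[A₀] Ar i := fun i => (g i).toLinearMap.rangeRestrict
  have hgr : ∀ i j (h : i ≤ j), inc i j h ∘ₗ gr i = gr j ∘ₗ (f i j h).toLinearMap := by
    intro i j h
    ext x
    exact (DFunLike.congr_fun (hg i j h) x).symm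
  set z := LinearMap.lTensor M (gr i) w with hz
  have key : Module.DirectLimit.of A₀ ι (fun i => M ⊗[A₀] Ar i)
      (fun i j h => LinearMap.lTensor M (inc i j h)) i z = 0 := by
    apply (TensorProduct.directLimitRight inc M).symm.injective
    apply (LinearEquiv.lTensor M e).injective
    rw [map_zero, map_zero]
    have h1 : ∀ y : M ⊗[A₀] Ar i, (LinearEquiv.lTensor M e)
        ((TensorProduct.directLimitRight inc M).symm
          (Module.DirectLimit.of A₀ ι (fun i => M ⊗[A₀] Ar i)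
            (fun i j h => LinearMap.lTensor M (inc i j h)) i y)) =
        LinearMap.lTensor M (Ar i).subtype y := by
      intro y
      induction y using TensorProduct.induction_on with
      | zero => simp
      | tmul m a => simp [e, Φ]
      | add y₁ y₂ h₁ h₂ => simp only [map_add, h₁, h₂]
    rw [h1, hz, ← LinearMap.comp_apply, ← LinearMap.lTensor_comp]
    have : (Ar i).subtype ∘ₗ gr i = (g i).toLinearMap := by ext x; rfl
    rw [this, hw]
  obtain ⟨j, hij, hj⟩ := Module.DirectLimit.of.zero_exact key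
  let u := LinearMap.lTensor M (f i j hij).toLinearMap w
  have hu : LinearMap.lTensor M (gr j) u = 0 := by
    rw [← LinearMap.comp_apply, ← LinearMap.lTensor_comp, ← hgr, LinearMap.lTensor_comp,
      LinearMap.comp_apply]
    exact hj
  have hex := lTensor_exact M (LinearMap.exact_subtype_ker_map (gr j))
    (LinearMap.surjective_rangeRestrict _)
  obtain ⟨v, hv⟩ := (hex u).mp hu
  obtain ⟨S, hS⟩ := TensorProduct.exists_finset v
  obtain ⟨j', σ, hσ, hσS⟩ := exists_trans_kill_finset f g hg hker j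
    (S.image (fun p => ((p.2 : LinearMap.ker (gr j)) : G j))) (by
      intro x hx
      obtain ⟨p, -, rfl⟩ := Finset.mem_image.mp hx
      have := p.2.2
      rw [LinearMap.mem_ker] at this
      exact congrArg Subtype.val this)
  refine ⟨j', σ.comp (f i j hij), ?_, ?_⟩
  · rw [← AlgHom.comp_assoc, hσ, hg]
  · rw [AlgHom.comp_toLinearMap, LinearMap.lTensor_comp, LinearMap.comp_apply]
    change LinearMap.lTensor M σ.toLinearMap u = 0
    rw [← hv, hS, map_sum, map_sum]
    apply Finset.sum_eq_zero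
    intro p hp
    simp only [LinearMap.lTensor_tmul, Submodule.subtype_apply, AlgHom.toLinearMap_apply]
    rw [hσS _ (Finset.mem_image_of_mem _ hp), tmul_zero]

end

end Groth.Agent.Lib.Helper25
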