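import Groth.Agent.Lib.Helper25.ColimBC

set_option autoImplicit false
universe u v

namespace Groth.Agent.Lib.Helper25

open TensorProduct

section

variable (A₀ : Type u) [CommRing A₀] (B₀ : Type u) [CommRing B₀] [Algebra A₀ B₀]
  (C₀ : Type u) [CommRing C₀] [Algebra A₀ C₀] [Algebra B₀ C₀] [IsScalarTower A₀ B₀ C₀]
  (H : Type u) [CommRing H] [Algebra A₀ H]

/-- The "flat form" of the base change map `B₀ ⊗ H → C₀ ⊗ H`. -/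
noncomputable abbrev phi : B₀ ⊗[A₀] H →ₐ[A₀] C₀ ⊗[A₀] H :=
  Algebra.TensorProduct.map (IsScalarTower.toAlgHom A₀ B₀ C₀) (AlgHom.id A₀ H)

/-- The comparison isomorphism `(B₀ ⊗ H) ⊗[B₀] C₀ ≃ C₀ ⊗ H`. -/
noncomputable def theta : (B₀ ⊗[A₀] H) ⊗[B₀] C₀ ≃+* C₀ ⊗[A₀] H :=
  ((Algebra.TensorProduct.comm B₀ (B₀ ⊗[A₀] H) C₀).trans
    (Algebra.TensorProduct.cancelBaseChange A₀ B₀ B₀ C₀ H)).toRingEquiv

theorem theta_algebraMap (b : B₀ ⊗[A₀] H) :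
    theta A₀ B₀ C₀ H (algebraMap (B₀ ⊗[A₀] H) ((B₀ ⊗[A₀] H) ⊗[B₀] C₀) b) = phi A₀ B₀ C₀ H b := by
  induction b using TensorProduct.induction_on with
  | zero => simp
  | tmul b h =>
    simp [theta, Algebra.TensorProduct.algebraMap_apply, Algebra.smul_def]
  | add x y hx hy => simp only [map_add, hx, hy]

theorem theta_comp_algebraMap :
    (theta A₀ B₀ C₀ H : (B₀ ⊗[A₀] H) ⊗[B₀] C₀ →+* C₀ ⊗[A₀] H).comp
      (algebraMap (B₀ ⊗[A₀] H) ((B₀ ⊗[A₀] H) ⊗[B₀] C₀)) =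
    ((phi A₀ B₀ C₀ H).toRingHom : B₀ ⊗[A₀] H →+* C₀ ⊗[A₀] H) :=
  RingHom.ext (theta_algebraMap A₀ B₀ C₀ H)

theorem theta_one_tmul (c : C₀) :
    theta A₀ B₀ C₀ H ((1 : B₀ ⊗[A₀] H) ⊗ₜ[B₀] c) = c ⊗ₜ[A₀] (1 : H) := by
  simp [theta, Algebra.TensorProduct.one_def]

end

end Groth.Agent.Lib.Helper25
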