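import Groth.Agent.Lib.Helper25.DCompSingle3
import Groth.Agent.S7057

/-!
# Existence of derived completion for finitely generated ideals
-/

set_option autoImplicit false
universe u

namespace Groth.Agent.Lib.Helper25.DCompExists

open CategoryTheory CategoryTheory.Limits DerivedCategory
open Groth.Agent.Lib.Helper25.DCompTri Groth.Agent.Lib.Helper25.DCompSingle

attribute [local instance] HasDerivedCategory.standard

variable {A : Type u} [CommRing A]

/-- derived completion with respect to finitely many elements, one after the other -/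
theorem exists_finset (s : Finset A) : ∀ K : Dual.D A, ∃ (C : Dual.D A) (η : K ⟶ C),
    (∀ f ∈ s, Orth (Dual.inD A (Localization.Away f)) C) ∧
    ∀ L : Dual.D A, (∀ f ∈ s, Orth (Dual.inD A (Localization.Away f)) L) →
      Function.Bijective (fun φ : C ⟶ L => η ≫ φ) := by
  classical
  induction s using Finset.induction_on with
  | empty =>
    intro K
    refine ⟨K, 𝟙 K, by simp, fun L _ => ⟨fun a b h => ?_, fun ψ => ⟨ψ, by simp⟩⟩⟩
    simpa using h
  | insert a s ha ih =>
    intro K
    obtain ⟨C', η', hC', hu'⟩ := ih K
    obtain ⟨C, η'', hC, hpres, hu''⟩ := exists_single a C'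
    refine ⟨C, η' ≫ η'', ?_, ?_⟩
    · intro f hf
      rcases Finset.mem_insert.1 hf with rfl | hf
      · exact hC
      · exact hpres f (hC' f hf)
    · intro L hL
      have h1 := hu'' L (hL a (Finset.mem_insert_self a s))
      have h2 := hu' L (fun f hf => hL f (Finset.mem_insert_of_mem hf))
      have h3 : (fun φ : C ⟶ L => (η' ≫ η'') ≫ φ) =
          (fun ψ : C' ⟶ L => η' ≫ ψ) ∘ (fun φ : C ⟶ L => η'' ≫ φ) := by
        funext φ
        simp
      rw [h3]
      exact h2.comp h1

/-- derived completeness can be checked on generators -/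
theorem isDerivedComplete_of_orth (s : Finset A) (C : Dual.D A)
    (h : ∀ f ∈ s, Orth (Dual.inD A (Localization.Away f)) C) :
    DRing.IsDerivedComplete (Ideal.span (s : Set A)) C := by
  intro g hg
  rw [Groth.Agent.Lib.Helper84.DComp.away_orth_iff]
  intro i
  apply Groth.Agent.S7057.seqBij_of_mem_span (s : Set A) _ g hg
  intro f hf
  exact (Groth.Agent.Lib.Helper84.DComp.away_orth_iff f C).1 (h f hf) i

/-- For a finitely generated ideal, the inclusion of the derived complete objects has a left
adjoint. -/
theorem hasDerivedCompletion (I : Ideal A) (hI : I.FG) : DRing.HasDerivedCompletion I := by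
  obtain ⟨s, rfl⟩ := hI
  have key : ∀ K : Dual.D A, ∃ (C : DRing.DComp (Ideal.span (s : Set A))) (η : K ⟶ C.obj),
      ∀ L : DRing.DComp (Ideal.span (s : Set A)), Function.Bijective
        (fun φ : C ⟶ L => η ≫ (ObjectProperty.ι (DRing.IsDerivedComplete
          (Ideal.span (s : Set A)))).map φ) := by
    intro K
    obtain ⟨C, η, hC, hu⟩ := exists_finset s K
    refine ⟨⟨C, isDerivedComplete_of_orth s C hC⟩, η, ?_⟩
    intro L
    have h1 := hu L.obj (fun f hf => L.property f (Ideal.subset_span hf))
    have h2 : Function.Bijective (fun φ : (⟨C, isDerivedComplete_of_orth s C hC⟩ :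
        DRing.DComp (Ideal.span (s : Set A))) ⟶ L =>
        (ObjectProperty.ι (DRing.IsDerivedComplete (Ideal.span (s : Set A)))).map φ) :=
      (ObjectProperty.fullyFaithfulι _).map_bijective _ _
    exact h1.comp h2
  choose Fobj η hη using key
  let e : ∀ (K : Dual.D A) (L : DRing.DComp (Ideal.span (s : Set A))),
      (Fobj K ⟶ L) ≃ (K ⟶ (ObjectProperty.ι (DRing.IsDerivedComplete
        (Ideal.span (s : Set A)))).obj L) :=
    fun K L => Equiv.ofBijective _ (hη K L)
  exact (Adjunction.adjunctionOfEquivLeft e (by
    intro X Y Y' g h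
    simp [e])).isRightAdjoint

end Groth.Agent.Lib.Helper25.DCompExists
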