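import Groth.Agent.Lib.Helper25.DCompSingle3
import Groth.Agent.Lib.Helper25.DCompExists
import Mathlib.Algebra.Homology.DerivedCategory.HomologySequence

/-!
# Cohomological amplitude of the derived completion (explicit model)
-/

set_option autoImplicit false
universe u

namespace Groth.Agent.Lib.Helper25.DCompAmp

open CategoryTheory CategoryTheory.Limits MonoidalCategory HomologicalComplex CochainComplex
open CochainComplex.HomComplex DerivedCategory CategoryTheory.Pretriangulated
open Groth.Agent.Lib.Helper25.TensorCx Groth.Agent.Lib.Helper25.HomTensor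
open Groth.Agent.Lib.Helper25.HomCxAdj Groth.Agent.Lib.Helper25.HomCxPre
open Groth.Agent.Lib.Helper25.TensorKProj Groth.Agent.Lib.Helper25.DerAdj
open Groth.Agent.Lib.Helper25.DCompEval Groth.Agent.Lib.Helper25.DCompTri
open Groth.Agent.Lib.Helper25.SingleTensor Groth.Agent.Lib.Helper25.KFlat
open Groth.Agent.Lib.Helper25.DerCompleteHom Groth.Agent.Lib.Helper25.DCompSingle

attribute [local instance] HasDerivedCategory.standard

variable {A : Type u} [CommRing A]

/-- no maps `A_f ⟶ K[n]` if `H^n(K) = 0 = H^{n-1}(K)` -/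
theorem subsingleton_of_isZero_homology (f : A) (K : Dual.D A) (n n' : ℤ) (hn : 1 + n' = n)
    (h1 : IsZero ((homologyFunctor (ModuleCat.{u} A) n).obj K))
    (h2 : IsZero ((homologyFunctor (ModuleCat.{u} A) n').obj K)) :
    Subsingleton (Dual.inD A (Localization.Away f) ⟶ K⟦n⟧) := by
  rw [Groth.Agent.Lib.Helper84.DComp.single_orth_iff (ModuleCat.of A (Localization.Away f)) K n]
  exact (Groth.Agent.Lib.Helper84.TwoTermOrth.orth_iff (Groth.Agent.Lib.Helper84.AwayRes.resSC f)
    (Groth.Agent.Lib.Helper84.AwayRes.resSC_shortExact f) n n' hn K).2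
    ⟨fun g _ => h1.eq_of_tgt _ _, fun h => ⟨0, h2.eq_of_tgt _ _⟩⟩

/-- `H^j(Hom•(T, K₀)) = 0` if there are no maps `A_f ⟶ K₀[j]` -/
theorem isZero_homology_homCx {f : A} (R : AwayRes f) (K₀ : Cx A) (j : ℤ)
    (h : Subsingleton (Dual.inD A (Localization.Away f) ⟶ (Q.obj K₀)⟦j⟧)) :
    IsZero ((homologyFunctor (ModuleCat.{u} A) j).obj (Q.obj (DRing.homCx R.T K₀))) := by
  refine IsZero.of_iso ?_ ((homologyFunctorFactors (ModuleCat.{u} A) j).app (DRing.homCx R.T K₀))
  change IsZero ((DRing.homCx R.T K₀).homology j)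
  rw [← HomologicalComplex.exactAt_iff_isZero_homology,
    HomologicalComplex.exactAt_iff' _ (j - 1) j (j + 1) (by simp) (by simp),
    ShortComplex.moduleCat_exact_iff]
  intro z hz
  change Cochain R.T K₀ j at z
  change δ j (j + 1) z = 0 at hz
  change ∃ w : Cochain R.T K₀ (j - 1), δ (j - 1) j w = z
  let zc : Cocycle R.T K₀ j := Cocycle.mk z (j + 1) rfl hz
  have h2 : zc ∈ coboundaries R.T K₀ j := by
    rw [← CohomologyClass.toHom_mk_eq_zero_iff, CohomologyClass.toHom_mk]
    apply (CochainComplex.IsKProjective.Qh_map_bijective R.T _).injective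
    rw [Functor.map_zero]
    change Q.map (Cocycle.equivHomShift.symm zc) = 0
    let α : Dual.inD A (Localization.Away f) ≅
        Q.obj (sgl (ModuleCat.of A (Localization.Away f))) :=
      (DerivedCategory.singleFunctorIsoCompQ (ModuleCat.{u} A) 0).app _
    have key : (α.hom ≫ inv (Q.map R.π)) ≫ Q.map (Cocycle.equivHomShift.symm zc) ≫
        (Q.commShiftIso j).hom.app K₀ = 0 := h.elim _ _
    apply (cancel_epi (α.hom ≫ inv (Q.map R.π))).1
    apply (cancel_mono ((Q.commShiftIso j).hom.app K₀)).1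
    rw [comp_zero, zero_comp, Category.assoc]
    exact key
  obtain ⟨w, hw⟩ := (mem_coboundaries_iff _ (j - 1) (by omega)).1 h2
  exact ⟨w, hw⟩

end Groth.Agent.Lib.Helper25.DCompAmp

namespace Groth.Agent.Lib.Helper25.DCompAmp

open CategoryTheory CategoryTheory.Limits MonoidalCategory HomologicalComplex CochainComplex
open CochainComplex.HomComplex DerivedCategory CategoryTheory.Pretriangulated
open Groth.Agent.Lib.Helper25.TensorCx Groth.Agent.Lib.Helper25.HomTensor
open Groth.Agent.Lib.Helper25.HomCxAdj Groth.Agent.Lib.Helper25.HomCxPre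
open Groth.Agent.Lib.Helper25.TensorKProj Groth.Agent.Lib.Helper25.DerAdj
open Groth.Agent.Lib.Helper25.DCompEval Groth.Agent.Lib.Helper25.DCompTri
open Groth.Agent.Lib.Helper25.SingleTensor Groth.Agent.Lib.Helper25.KFlat
open Groth.Agent.Lib.Helper25.DerCompleteHom Groth.Agent.Lib.Helper25.DCompSingle

attribute [local instance] HasDerivedCategory.standard

variable {A : Type u} [CommRing A]

/-- Derived completion with respect to one element. -/
theorem exists_single' (f : A) (K : Dual.D A) :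
    ∃ (C : Dual.D A) (η : K ⟶ C),
      Orth (Dual.inD A (Localization.Away f)) C ∧
      (∀ g : A, Orth (Dual.inD A (Localization.Away g)) K →
        Orth (Dual.inD A (Localization.Away g)) C) ∧
      (∀ L : Dual.D A, Orth (Dual.inD A (Localization.Away f)) L →
        Function.Bijective (fun φ : C ⟶ L => η ≫ φ)) ∧
      ∀ i i' : ℤ, i + 1 = i' → IsZero ((homologyFunctor (ModuleCat.{u} A) i).obj K) →
        IsZero ((homologyFunctor (ModuleCat.{u} A) i').obj K) →
        IsZero ((homologyFunctor (ModuleCat.{u} A) i).obj C) := by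
  obtain ⟨R⟩ := nonempty_awayRes f
  let K₀ : Cx A := Q.objPreimage K
  let e : Q.obj K₀ ≅ K := Q.objObjPreimageIso K
  let N₀ : Cx A := DRing.homCx R.T K₀
  let ρ : N₀ ⟶ K₀ := evalAt R.T K₀ R.t R.ht
  let Tri := Q.mapTriangle.obj (mappingCone.triangle ρ)
  have hTri : Tri ∈ distTriang _ := mappingCone_triangle_distinguished ρ
  have hN₀ : QuasiIso (f • 𝟙 N₀) := quasiIso_smul_homCx f R.T K₀ R.quasiIso_smul
  refine ⟨Tri.obj₃, e.inv ≫ Tri.mor₂, ?_, ?_, ?_, ?_⟩
  · rw [R.orth_iff]
    intro m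
    refine subsingleton_hom_obj₃ Tri hTri (Q.obj (R.T⟦m⟧)) (Q.obj ((R.T⟦m⟧)⟦(-1 : ℤ)⟧))
      ((Q.commShiftIso (-1 : ℤ)).app (R.T⟦m⟧)) ?_ ?_
    · exact (bijective_comp_evalAt' R (R.T⟦m⟧)
        (quasiIso_smul_shift f R.T R.quasiIso_smul m) K₀).surjective
    · exact (bijective_comp_evalAt' R ((R.T⟦m⟧)⟦(-1 : ℤ)⟧)
        (quasiIso_smul_shift f _ (quasiIso_smul_shift f R.T R.quasiIso_smul m) (-1)) K₀).injective
  · intro g hg
    obtain ⟨Rg⟩ := nonempty_awayRes g
    have hK₀ : Orth (Dual.inD A (Localization.Away g)) (Q.obj K₀) := hg.of_iso e.symm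
    apply Orth.of_triangle Tri hTri
    · change Orth (Dual.inD A (Localization.Away g)) (Q.obj N₀)
      rw [Rg.orth_iff]
      intro m
      apply subsingleton_hom_homCx (Rg.T⟦m⟧) R.T K₀
      exact subsingleton_hom_of_quasiIso_smul g ((Rg.T⟦m⟧) ⊗ R.T : Cx A)
        (quasiIso_smul_tensor g _ R.T (quasiIso_smul_shift g Rg.T Rg.quasiIso_smul m) R.kflat)
        (Q.obj K₀) hK₀
    · exact hK₀
  · intro L hL
    have h0 : Subsingleton (Tri.obj₁ ⟶ L) := subsingleton_hom_of_quasiIso_smul f N₀ hN₀ L hL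
    have h1 : Subsingleton (Tri.obj₁⟦(1 : ℤ)⟧ ⟶ L) := by
      have h := subsingleton_hom_of_quasiIso_smul f (N₀⟦(1 : ℤ)⟧)
        (quasiIso_smul_shift f N₀ hN₀ 1) L hL
      constructor
      intro a b
      have := h.elim (((Q.commShiftIso (1 : ℤ)).app N₀).hom ≫ a)
        (((Q.commShiftIso (1 : ℤ)).app N₀).hom ≫ b)
      exact (cancel_epi _).1 this
    have hb := bijective_precomp_mor₂ Tri hTri L h0 h1
    constructor
    · intro a b hab
      apply hb.injective
      have hab' : (e.inv ≫ Tri.mor₂) ≫ a = (e.inv ≫ Tri.mor₂) ≫ b := hab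
      rw [Category.assoc, Category.assoc] at hab'
      exact (cancel_epi e.inv).1 hab'
    · intro ψ
      obtain ⟨φ, hφ⟩ := hb.surjective (e.hom ≫ ψ)
      refine ⟨φ, ?_⟩
      have hφ' : Tri.mor₂ ≫ φ = e.hom ≫ ψ := hφ
      change (e.inv ≫ Tri.mor₂) ≫ φ = ψ
      have h3 : (e.inv ≫ Tri.mor₂) ≫ φ = e.inv ≫ (Tri.mor₂ ≫ φ) := Category.assoc _ _ _
      exact h3.trans ((congrArg (fun x => e.inv ≫ x) hφ').trans (Iso.inv_hom_id_assoc e ψ))
  · intro i i' hi h1 h2
    have h1' : IsZero ((homologyFunctor (ModuleCat.{u} A) i).obj (Q.obj K₀)) :=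
      IsZero.of_iso h1 ((homologyFunctor (ModuleCat.{u} A) i).mapIso e)
    have h2' : IsZero ((homologyFunctor (ModuleCat.{u} A) i').obj (Q.obj K₀)) :=
      IsZero.of_iso h2 ((homologyFunctor (ModuleCat.{u} A) i').mapIso e)
    have h3 : IsZero ((homologyFunctor (ModuleCat.{u} A) i').obj (Q.obj N₀)) :=
      isZero_homology_homCx R K₀ i'
        (subsingleton_of_isZero_homology f (Q.obj K₀) i' i (by omega) h2' h1')
    have hex := HomologySequence.exact₃ Tri hTri i i' hi
    exact hex.isZero_of_both_zeros (h1'.eq_of_src _ _) (h3.eq_of_tgt _ _)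


/-- derived completion with respect to finitely many elements, with amplitude control -/
theorem exists_finset' (s : Finset A) : ∀ K : Dual.D A, ∃ (C : Dual.D A) (η : K ⟶ C),
    (∀ f ∈ s, Orth (Dual.inD A (Localization.Away f)) C) ∧
    (∀ L : Dual.D A, (∀ f ∈ s, Orth (Dual.inD A (Localization.Away f)) L) →
      Function.Bijective (fun φ : C ⟶ L => η ≫ φ)) ∧
    ∀ i : ℤ, (∀ j : ℤ, i ≤ j → j ≤ i + s.card →
      IsZero ((homologyFunctor (ModuleCat.{u} A) j).obj K)) →
      IsZero ((homologyFunctor (ModuleCat.{u} A) i).obj C) := by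
  classical
  induction s using Finset.induction_on with
  | empty =>
    intro K
    refine ⟨K, 𝟙 K, by simp, fun L _ => ⟨fun a b h => ?_, fun ψ => ⟨ψ, by simp⟩⟩, ?_⟩
    · simpa using h
    · intro i h
      exact h i le_rfl (by simp)
  | insert a s ha ih =>
    intro K
    obtain ⟨C', η', hC', hu', hamp'⟩ := ih K
    obtain ⟨C, η'', hC, hpres, hu'', hamp''⟩ := exists_single' a C'
    refine ⟨C, η' ≫ η'', ?_, ?_, ?_⟩
    · intro f hf
      rcases Finset.mem_insert.1 hf with rfl | hf
      · exact hC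
      · exact hpres f (hC' f hf)
    · intro L hL
      have h1 := hu'' L (hL a (Finset.mem_insert_self a s))
      have h2 := hu' L (fun f hf => hL f (Finset.mem_insert_of_mem hf))
      have h3 : (fun φ : C ⟶ L => (η' ≫ η'') ≫ φ) =
          (fun ψ : C' ⟶ L => η' ≫ ψ) ∘ (fun φ : C ⟶ L => η'' ≫ φ) := by
        funext φ
        simp
      rw [h3]
      exact h2.comp h1
    · intro i h
      rw [Finset.card_insert_of_notMem ha] at h
      apply hamp'' i (i + 1) rfl
      · apply hamp' i
        intro j hj1 hj2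
        exact h j hj1 (by push_cast; omega)
      · apply hamp' (i + 1)
        intro j hj1 hj2
        exact h j (by omega) (by push_cast; omega)

end Groth.Agent.Lib.Helper25.DCompAmp
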