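import Groth.Agent.Lib.Helper25.DCompAmp2

/-!
# Derived completion preserves cohomological bounds of morphisms (S7091, S7092)
-/

set_option autoImplicit false
universe u

namespace Groth.Agent.Lib.Helper25.DCompAmp

open CategoryTheory CategoryTheory.Limits DerivedCategory CategoryTheory.Pretriangulated

attribute [local instance] HasDerivedCategory.standard

variable {A : Type u} [CommRing A]

theorem eq_eqToHom_comp_self {C : Type*} [Category C] {X Y : C} (f : X ⟶ Y) (h1 : X = X)
    (h2 : Y = Y) : f = eqToHom h1 ≫ f ≫ eqToHom h2 := by simp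

theorem aux7091 (I : Ideal A) (hI : I.FG)
    [DRing.HasDerivedCompletion I] {K L : Dual.D A} (φ : K ⟶ L)
    (hiso : ∀ i : ℤ, 1 ≤ i → IsIso ((DerivedCategory.homologyFunctor (ModuleCat.{u} A) i).map φ))
    (hepi : Epi ((DerivedCategory.homologyFunctor (ModuleCat.{u} A) 0).map φ)) :
    (∀ i : ℤ, 1 ≤ i → IsIso ((DerivedCategory.homologyFunctor (ModuleCat.{u} A) i).map
        ((DRing.derivedCompletion I).map φ).hom)) ∧
      Epi ((DerivedCategory.homologyFunctor (ModuleCat.{u} A) 0).map
        ((DRing.derivedCompletion I).map φ).hom) := by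
  obtain ⟨s, hs⟩ := hI
  obtain ⟨M, g, d, hT⟩ := distinguished_cocone_triangle φ
  obtain ⟨M', g', d', hT'⟩ := distinguished_cocone_triangle ((DRing.derivedCompletion I).map φ).hom
  have hM : ∀ j : ℤ, 0 ≤ j → IsZero ((homologyFunctor (ModuleCat.{u} A) j).obj M) := by
    intro j hj
    apply isZero_homology_obj₃ (Triangle.mk φ g d) hT j (j + 1) rfl
    · change Epi ((homologyFunctor (ModuleCat.{u} A) j).map φ)
      rcases eq_or_lt_of_le hj with rfl | hj'
      · exact hepi
      · have := hiso j (by omega)
        infer_instance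
    · change Mono ((homologyFunctor (ModuleCat.{u} A) (j + 1)).map φ)
      have := hiso (j + 1) (by omega)
      infer_instance
  have hM' : ∀ i : ℤ, 0 ≤ i → IsZero ((homologyFunctor (ModuleCat.{u} A) i).obj M') := by
    intro i hi
    exact isZero_homology_cone I s hs φ (Triangle.mk φ g d)
      (Triangle.mk ((DRing.derivedCompletion I).map φ).hom g' d') hT hT' rfl rfl rfl rfl
      (eq_eqToHom_comp_self _ _ _) (eq_eqToHom_comp_self _ _ _) i (fun j hj _ => hM j (by omega))
  constructor
  · intro i hi
    have h1 := (epi_mono_of_isZero_homology_obj₃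
      (Triangle.mk ((DRing.derivedCompletion I).map φ).hom g' d') hT' i (i + 1) rfl
      (hM' i (by omega))).1
    have h2 := (epi_mono_of_isZero_homology_obj₃
      (Triangle.mk ((DRing.derivedCompletion I).map φ).hom g' d') hT' (i - 1) i (by omega)
      (hM' (i - 1) (by omega))).2
    have h1' : Epi ((homologyFunctor (ModuleCat.{u} A) i).map
      ((DRing.derivedCompletion I).map φ).hom) := h1
    have h2' : Mono ((homologyFunctor (ModuleCat.{u} A) i).map
      ((DRing.derivedCompletion I).map φ).hom) := h2
    exact isIso_of_mono_of_epi _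
  · exact (epi_mono_of_isZero_homology_obj₃
      (Triangle.mk ((DRing.derivedCompletion I).map φ).hom g' d') hT' 0 1 rfl
      (hM' 0 le_rfl)).1

theorem aux7092 (I : Ideal A) (s : Finset A)
    (hs : Ideal.span (s : Set A) = I) [DRing.HasDerivedCompletion I] {K L : Dual.D A} (φ : K ⟶ L)
    (hiso : ∀ i : ℤ, i ≤ -1 → IsIso ((DerivedCategory.homologyFunctor (ModuleCat.{u} A) i).map φ))
    (hmono : Mono ((DerivedCategory.homologyFunctor (ModuleCat.{u} A) 0).map φ)) :
    (∀ i : ℤ, i ≤ -(s.card : ℤ) - 1 → IsIso ((DerivedCategory.homologyFunctor (ModuleCat.{u} A) i).map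
        ((DRing.derivedCompletion I).map φ).hom)) ∧
      Mono ((DerivedCategory.homologyFunctor (ModuleCat.{u} A) (-(s.card : ℤ))).map
        ((DRing.derivedCompletion I).map φ).hom) := by
  obtain ⟨M, g, d, hT⟩ := distinguished_cocone_triangle φ
  obtain ⟨M', g', d', hT'⟩ := distinguished_cocone_triangle ((DRing.derivedCompletion I).map φ).hom
  have hM : ∀ j : ℤ, j ≤ -1 → IsZero ((homologyFunctor (ModuleCat.{u} A) j).obj M) := by
    intro j hj
    apply isZero_homology_obj₃ (Triangle.mk φ g d) hT j (j + 1) rfl
    · change Epi ((homologyFunctor (ModuleCat.{u} A) j).map φ)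
      have := hiso j hj
      infer_instance
    · change Mono ((homologyFunctor (ModuleCat.{u} A) (j + 1)).map φ)
      rcases eq_or_lt_of_le hj with rfl | hj'
      · exact hmono
      · have := hiso (j + 1) (by omega)
        infer_instance
  have hM' : ∀ i : ℤ, i ≤ -(s.card : ℤ) - 1 →
      IsZero ((homologyFunctor (ModuleCat.{u} A) i).obj M') := by
    intro i hi
    exact isZero_homology_cone I s hs φ (Triangle.mk φ g d)
      (Triangle.mk ((DRing.derivedCompletion I).map φ).hom g' d') hT hT' rfl rfl rfl rfl
      (eq_eqToHom_comp_self _ _ _) (eq_eqToHom_comp_self _ _ _) i (fun j _ hj => hM j (by omega))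
  constructor
  · intro i hi
    have h1 := (epi_mono_of_isZero_homology_obj₃
      (Triangle.mk ((DRing.derivedCompletion I).map φ).hom g' d') hT' i (i + 1) rfl
      (hM' i hi)).1
    have h2 := (epi_mono_of_isZero_homology_obj₃
      (Triangle.mk ((DRing.derivedCompletion I).map φ).hom g' d') hT' (i - 1) i (by omega)
      (hM' (i - 1) (by omega))).2
    have h1' : Epi ((homologyFunctor (ModuleCat.{u} A) i).map
      ((DRing.derivedCompletion I).map φ).hom) := h1
    have h2' : Mono ((homologyFunctor (ModuleCat.{u} A) i).map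
      ((DRing.derivedCompletion I).map φ).hom) := h2
    exact isIso_of_mono_of_epi _
  · exact (epi_mono_of_isZero_homology_obj₃
      (Triangle.mk ((DRing.derivedCompletion I).map φ).hom g' d') hT'
      (-(s.card : ℤ) - 1) (-(s.card : ℤ)) (by omega) (hM' _ le_rfl)).2

end Groth.Agent.Lib.Helper25.DCompAmp
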