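import Groth.Agent.Lib.Helper25.DCompAmp2

/-!
# Cohomological amplitude of the derived completion, extended-integer bounds
-/

set_option autoImplicit false
universe u

namespace Groth.Agent.Lib.Helper25.DCompAmp

open CategoryTheory CategoryTheory.Limits DerivedCategory CategoryTheory.Pretriangulated
open Groth.Agent.Lib.Helper25.DCompTri Groth.Agent.Lib.Helper25.DCompRefl
open Groth.Agent.Lib.Helper25.DCompExists

attribute [local instance] HasDerivedCategory.standard

variable {A : Type u} [CommRing A]

/-- `H^i(K^) = 0` as soon as `H^j(K) = 0` for `i ≤ j ≤ i + #s` -/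
theorem isZero_homology_completion (I : Ideal A) (s : Finset A)
    (hs : Ideal.span (s : Set A) = I) [DRing.HasDerivedCompletion I] (K : Dual.D A) (i : ℤ)
    (h : ∀ j : ℤ, i ≤ j → j ≤ i + s.card →
      IsZero ((homologyFunctor (ModuleCat.{u} A) j).obj K)) :
    IsZero ((homologyFunctor (ModuleCat.{u} A) i).obj ((DRing.derivedCompletion I).obj K).obj) := by
  obtain ⟨C, η, hC, hu, hamp⟩ := exists_finset' s K
  have hCP : DRing.IsDerivedComplete I C := by
    have := isDerivedComplete_of_orth s C hC
    rwa [hs] at this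
  have hη : IsRefl (DRing.IsDerivedComplete I) η := by
    intro E hE
    exact hu E (fun f hf => hE f (by rw [← hs]; exact Ideal.subset_span hf))
  obtain ⟨iso⟩ := IsRefl.nonempty_iso (isRefl_unit _ (DRing.derivedCompletionAdj I) K) hη
    ((DRing.derivedCompletion I).obj K).property hCP
  exact IsZero.of_iso (hamp i h) ((homologyFunctor (ModuleCat.{u} A) i).mapIso iso)

theorem aux7832 (I : Ideal A) (r : ℕ)
    (hI : ∃ s : Finset A, s.card ≤ r ∧ Ideal.span (s : Set A) = I) [DRing.HasDerivedCompletion I]
    (K : Dual.D A) (a : WithBot ℤ) (b : WithTop ℤ)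
    (hKa : ∀ i : ℤ, (i : WithBot ℤ) < a → Subsingleton (Dual.HD A K i))
    (hKb : ∀ i : ℤ, b < (i : WithTop ℤ) → Subsingleton (Dual.HD A K i)) (i : ℤ)
    (hi : ((i + r : ℤ) : WithBot ℤ) < a ∨ b < (i : WithTop ℤ)) :
    Subsingleton (Dual.HD A ((DRing.derivedCompletion I).obj K).obj i) := by
  obtain ⟨s, hsr, hs⟩ := hI
  apply ModuleCat.isZero_iff_subsingleton.1
  apply isZero_homology_completion I s hs K i
  intro j hj1 hj2
  apply ModuleCat.isZero_iff_subsingleton.2
  rcases hi with hi | hi
  · apply hKa j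
    refine lt_of_le_of_lt ?_ hi
    exact WithBot.coe_le_coe.2 (by
      have : (s.card : ℤ) ≤ r := by exact_mod_cast hsr
      omega)
  · apply hKb j
    exact lt_of_lt_of_le hi (WithTop.coe_le_coe.2 hj1)

end Groth.Agent.Lib.Helper25.DCompAmp
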