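import Groth.Agent.Lib.Helper25.DerAdj

/-!
# Evaluation at a degree-zero cycle, and the bijection it induces on derived maps
-/

set_option autoImplicit false
universe u

namespace Groth.Agent.Lib.Helper25.DCompEval

open CategoryTheory CategoryTheory.Limits MonoidalCategory HomologicalComplex CochainComplex
open CochainComplex.HomComplex DerivedCategory
open Groth.Agent.Lib.Helper25.TensorCx Groth.Agent.Lib.Helper25.HomTensor
open Groth.Agent.Lib.Helper25.HomCxAdj Groth.Agent.Lib.Helper25.HomCxPre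
open Groth.Agent.Lib.Helper25.TensorKProj Groth.Agent.Lib.Helper25.DerAdj

attribute [local instance] HasDerivedCategory.standard

variable {A : Type u} [CommRing A]

/-- evaluation of `Hom•(E, M)` at a cycle `t ∈ E^0` -/
noncomputable def evalAt (E M : Cx A) (t : E.X 0) (ht : E.d 0 1 t = 0) : DRing.homCx E M ⟶ M where
  f n := ModuleCat.ofHom ((evalV E M 0 n (zero_add n)).flip t)
  comm' i j hij := by
    ext z
    change Cochain E M i at z
    have hij' : i + 1 = j := hij
    change (M.d i j).hom ((z.v 0 i (zero_add i)).hom t) = ((δ i j z).v 0 j (zero_add j)).hom t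
    symm
    rw [δ_v i j hij' z 0 j (zero_add j) i 1 (by omega) (by omega)]
    rw [ModuleCat.hom_add, LinearMap.add_apply, Units.smul_def, ModuleCat.hom_zsmul,
      LinearMap.smul_apply, ModuleCat.hom_comp, ModuleCat.hom_comp, LinearMap.comp_apply,
      LinearMap.comp_apply]
    have ht' : (E.d 0 1).hom t = 0 := ht
    rw [ht', map_zero, smul_zero, add_zero]

theorem evalAt_f_apply (E M : Cx A) (t : E.X 0) (ht : E.d 0 1 t = 0) (n : ℤ)
    (z : (DRing.homCx E M).X n) :
    ((evalAt E M t ht).f n).hom z = ((toCochain E M n z).v 0 n (zero_add n)).hom t := rfl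

/-- `x ↦ x ⊗ t` for a cycle `t ∈ E^0` -/
noncomputable def rtMap (X E : Cx A) (t : E.X 0) (ht : E.d 0 1 t = 0) : X ⟶ (X ⊗ E : Cx A) where
  f n := ModuleCat.ofHom (inc X E n 0 n (add_zero n) ∘ₗ (TensorProduct.mk A (X.X n) (E.X 0)).flip t)
  comm' i j hij := by
    ext x
    have hij' : i + 1 = j := hij
    subst hij'
    change ((X ⊗ E : Cx A).d i (i + 1)).hom (tm X E i 0 i (add_zero i) x t) =
      tm X E (i + 1) 0 (i + 1) (add_zero _) ((X.d i (i + 1)).hom x) t
    have h := d_tm X E i 0 i (i + 1) (add_zero i) rfl x t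
    have ht' : (E.d 0 (0 + 1)) t = 0 := ht
    rw [ht', tm_zero_right, smul_zero, add_zero] at h
    exact h

theorem rtMap_f_apply (X E : Cx A) (t : E.X 0) (ht : E.d 0 1 t = 0) (n : ℤ) (x : X.X n) :
    ((rtMap X E t ht).f n).hom x = tm X E n 0 n (add_zero n) x t := rfl

/-- the key identity: uncurrying and evaluating -/
theorem rtMap_uncurry {X E M : Cx A} (t : E.X 0) (ht : E.d 0 1 t = 0)
    (f : X ⟶ DRing.homCx E M) :
    rtMap X E t ht ≫ uncurry E f = f ≫ evalAt E M t ht := by
  apply HomologicalComplex.hom_ext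
  intro n
  apply ModuleCat.hom_ext
  apply LinearMap.ext
  intro x
  change ((uncurry E f).f n).hom (((rtMap X E t ht).f n).hom x) =
    ((evalAt E M t ht).f n).hom ((f.f n).hom x)
  rw [rtMap_f_apply, evalAt_f_apply, uncurry_f_tm E f n 0 n (add_zero n) x t]

/-- If `x ↦ x ⊗ t` is a quasi-isomorphism on `X`, then evaluation at `t` induces a bijection on
maps from `X` in the derived category. -/
theorem bijective_comp_evalAt (X E M : Cx A) [X.IsKProjective] [E.IsKProjective]
    (t : E.X 0) (ht : E.d 0 1 t = 0) (hrt : QuasiIso (rtMap X E t ht)) :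
    Function.Bijective (fun φ : Q.obj X ⟶ Q.obj (DRing.homCx E M) =>
      φ ≫ Q.map (evalAt E M t ht)) := by
  have := isKProjective_tensor X E
  have : IsIso (Q.map (rtMap X E t ht)) :=
    (isIso_Q_map_iff_quasiIso (φ := rtMap X E t ht)).2 hrt
  constructor
  · intro φ₁ φ₂ h
    obtain ⟨f₁, rfl⟩ := exists_map_eq X _ φ₁
    obtain ⟨f₂, rfl⟩ := exists_map_eq X _ φ₂
    have h0 : Q.map f₁ ≫ Q.map (evalAt E M t ht) = Q.map f₂ ≫ Q.map (evalAt E M t ht) := h
    have h' : Q.map ((f₁ - f₂) ≫ evalAt E M t ht) = 0 := by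
      rw [Functor.map_comp, Functor.map_sub, Preadditive.sub_comp]
      exact sub_eq_zero.2 h0
    rw [← rtMap_uncurry, Functor.map_comp] at h'
    have h'' : Q.map (uncurry E (f₁ - f₂)) = 0 :=
      (cancel_epi (Q.map (rtMap X E t ht))).1 (h'.trans comp_zero.symm)
    rw [Qmap_eq_zero_iff, ← nonempty_homotopy_zero_iff, ← Qmap_eq_zero_iff, Functor.map_sub] at h''
    exact sub_eq_zero.1 h''
  · intro ψ
    obtain ⟨g, rfl⟩ := exists_map_eq X _ ψ
    obtain ⟨h, hh⟩ := exists_map_eq (X ⊗ E : Cx A) M (inv (Q.map (rtMap X E t ht)) ≫ Q.map g)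
    refine ⟨Q.map (curry E h), ?_⟩
    change Q.map (curry E h) ≫ Q.map (evalAt E M t ht) = Q.map g
    rw [← Functor.map_comp, ← rtMap_uncurry, uncurry_curry, Functor.map_comp, hh,
      IsIso.hom_inv_id_assoc]

end Groth.Agent.Lib.Helper25.DCompEval
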