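import Mathlib.CategoryTheory.Triangulated.Pretriangulated
import Mathlib.CategoryTheory.Triangulated.TriangleShift
import Mathlib.CategoryTheory.Triangulated.Yoneda

/-!
# Orthogonality lemmas in pretriangulated categories (used for derived completion)
-/

set_option autoImplicit false

namespace Groth.Agent.Lib.Helper25.DCompTri

open CategoryTheory CategoryTheory.Limits CategoryTheory.Pretriangulated

variable {C : Type*} [Category C] [Preadditive C] [HasZeroObject C] [HasShift C ℤ]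
  [∀ n : ℤ, (shiftFunctor C n).Additive] [Pretriangulated C]

/-- right orthogonality to `W` in all degrees -/
def Orth (W Y : C) : Prop := ∀ n : ℤ, Subsingleton (W ⟶ Y⟦n⟧)

theorem Orth.of_iso {W Y Y' : C} (e : Y ≅ Y') (h : Orth W Y) : Orth W Y' := by
  intro n
  constructor
  intro a b
  have := (h n).elim (a ≫ e.inv⟦n⟧') (b ≫ e.inv⟦n⟧')
  have hm : Mono (e.inv⟦n⟧') := by
    have : IsIso (e.inv⟦n⟧') := inferInstance
    infer_instance
  exact (cancel_mono (e.inv⟦n⟧')).1 this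

theorem Orth.shift {W Y : C} (h : Orth W Y) (m : ℤ) : Orth W (Y⟦m⟧) := by
  intro n
  constructor
  intro a b
  have := (h (m + n)).elim (a ≫ (shiftFunctorAdd' C m n (m + n) rfl).inv.app Y)
    (b ≫ (shiftFunctorAdd' C m n (m + n) rfl).inv.app Y)
  exact (cancel_mono _).1 this

/-- `Orth W` is closed under cones -/
theorem Orth.of_triangle {W : C} (T : Triangle C) (hT : T ∈ distTriang C)
    (h₁ : Orth W T.obj₁) (h₂ : Orth W T.obj₂) : Orth W T.obj₃ := by
  intro n
  have hT' := Triangle.shift_distinguished T hT n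
  have key : ∀ φ : W ⟶ T.obj₃⟦n⟧, φ = 0 := by
    intro φ
    have h0 : φ ≫ ((Triangle.shiftFunctor C n).obj T).mor₃ = 0 :=
      ((h₁.shift n) 1).elim _ _
    obtain ⟨ψ, hψ⟩ := Triangle.coyoneda_exact₃ _ hT' φ h0
    have : ψ = 0 := (h₂ n).elim _ _
    rw [hψ, this]
    exact zero_comp
  constructor
  intro a b
  rw [key a, key b]

/-- if precomposition with `mor₁` is bijective on maps from `V` and from `V⟦-1⟧`, there are no
nonzero maps from `V` to the cone -/
theorem subsingleton_hom_obj₃ (T : Triangle C) (hT : T ∈ distTriang C) (V V' : C)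
    (e : V' ≅ V⟦(-1 : ℤ)⟧)
    (hs : Function.Surjective (fun φ : V ⟶ T.obj₁ => φ ≫ T.mor₁))
    (hi : Function.Injective (fun φ : V' ⟶ T.obj₁ => φ ≫ T.mor₁)) :
    Subsingleton (V ⟶ T.obj₃) := by
  have key : ∀ φ : V ⟶ T.obj₃, φ = 0 := by
    intro φ
    let α : V ⟶ T.obj₁⟦(1 : ℤ)⟧ := φ ≫ T.mor₃
    have hα : α ≫ T.mor₁⟦(1 : ℤ)⟧' = 0 := by
      change (φ ≫ T.mor₃) ≫ T.mor₁⟦(1 : ℤ)⟧' = 0
      rw [Category.assoc, comp_distTriang_mor_zero₃₁ T hT, comp_zero]
    let β : V' ⟶ T.obj₁ := e.hom ≫ α⟦(-1 : ℤ)⟧' ≫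
      (shiftFunctorCompIsoId C (1 : ℤ) (-1) (by omega)).hom.app T.obj₁
    have hβ : β ≫ T.mor₁ = 0 := by
      have nat := (shiftFunctorCompIsoId C (1 : ℤ) (-1) (by omega)).hom.naturality T.mor₁
      simp only [Functor.comp_obj, Functor.comp_map, Functor.id_obj, Functor.id_map] at nat
      change (e.hom ≫ α⟦(-1 : ℤ)⟧' ≫ _) ≫ T.mor₁ = 0
      rw [Category.assoc, Category.assoc, ← nat, ← Functor.map_comp_assoc, hα, Functor.map_zero,
        zero_comp, comp_zero]
    have hβ0 : β = 0 := hi (by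
      change β ≫ T.mor₁ = 0 ≫ T.mor₁
      rw [hβ, zero_comp])
    have hα' : α⟦(-1 : ℤ)⟧' = 0 := by
      have h1 : e.hom ≫ α⟦(-1 : ℤ)⟧' ≫
          (shiftFunctorCompIsoId C (1 : ℤ) (-1) (by omega)).hom.app T.obj₁ = 0 := hβ0
      have h2 := (cancel_epi e.hom).1 (h1.trans comp_zero.symm)
      exact (cancel_mono _).1 (h2.trans zero_comp.symm)
    have hα0 : α = 0 :=
      (shiftFunctor C (-1 : ℤ)).map_injective (hα'.trans (Functor.map_zero _ _ _).symm)
    obtain ⟨ψ, hψ⟩ := Triangle.coyoneda_exact₃ T hT φ hα0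
    obtain ⟨ψ', hψ'⟩ := hs ψ
    have hψ'' : ψ' ≫ T.mor₁ = ψ := hψ'
    rw [hψ, ← hψ'', Category.assoc, comp_distTriang_mor_zero₁₂ T hT, comp_zero]
  constructor
  intro a b
  rw [key a, key b]

/-- the cone map is a reflection onto the objects `L` receiving no maps from `obj₁` and
`obj₁⟦1⟧` -/
theorem bijective_precomp_mor₂ (T : Triangle C) (hT : T ∈ distTriang C) (L : C)
    (h0 : Subsingleton (T.obj₁ ⟶ L)) (h1 : Subsingleton (T.obj₁⟦(1 : ℤ)⟧ ⟶ L)) :
    Function.Bijective (fun φ : T.obj₃ ⟶ L => T.mor₂ ≫ φ) := by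
  constructor
  · intro a b hab
    have h : T.mor₂ ≫ (a - b) = 0 := by
      rw [Preadditive.comp_sub]
      exact sub_eq_zero.2 hab
    obtain ⟨g, hg⟩ := Triangle.yoneda_exact₃ T hT (a - b) h
    have : g = 0 := h1.elim _ _
    rw [this, comp_zero] at hg
    exact sub_eq_zero.1 hg
  · intro ψ
    have h : T.mor₁ ≫ ψ = 0 := h0.elim _ _
    obtain ⟨g, hg⟩ := Triangle.yoneda_exact₂ T hT ψ h
    exact ⟨g, hg.symm⟩

end Groth.Agent.Lib.Helper25.DCompTri
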