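import Groth.Agent.Lib.Helper25.DCompEval
import Groth.Agent.Lib.Helper25.DCompTri
import Groth.Agent.Lib.Helper25.DerCompleteHom2
import Groth.Agent.Lib.Helper84.DComp
import Groth.Prelude.Def_DRing3

/-!
# Derived completion with respect to one element

For `f : A` and `K : D(A)` we construct `η : K ⟶ C` with `C` derived `f`-complete, such that
every map from `K` to a derived `f`-complete object factors uniquely through `η`; moreover `C` is
derived `g`-complete whenever `K` is.
-/

set_option autoImplicit false
universe u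

namespace Groth.Agent.Lib.Helper25.DCompSingle

open CategoryTheory CategoryTheory.Limits MonoidalCategory HomologicalComplex CochainComplex
open CochainComplex.HomComplex DerivedCategory CategoryTheory.Pretriangulated
open Groth.Agent.Lib.Helper25.TensorCx Groth.Agent.Lib.Helper25.HomTensor
open Groth.Agent.Lib.Helper25.HomCxAdj Groth.Agent.Lib.Helper25.HomCxPre
open Groth.Agent.Lib.Helper25.TensorKProj Groth.Agent.Lib.Helper25.DerAdj
open Groth.Agent.Lib.Helper25.DCompEval Groth.Agent.Lib.Helper25.DCompTri
open Groth.Agent.Lib.Helper25.SingleTensor Groth.Agent.Lib.Helper25.KFlat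
open Groth.Agent.Lib.Helper25.DerCompleteHom

attribute [local instance] HasDerivedCategory.standard

variable {A : Type u} [CommRing A]

/-! ### The class of complexes on which `f` acts by a quasi-isomorphism -/

theorem quasiIso_smul_of_quasiIso (f : A) {X Y : Cx A} (π : X ⟶ Y) (hπ : QuasiIso π)
    (hY : QuasiIso (f • 𝟙 Y)) : QuasiIso (f • 𝟙 X) := by
  have h1 : (f • 𝟙 X) ≫ π = π ≫ (f • 𝟙 Y) := by
    rw [Linear.smul_comp, Linear.comp_smul, Category.id_comp, Category.comp_id]
  have h2 : QuasiIso ((f • 𝟙 X) ≫ π) := by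
    rw [h1]
    infer_instance
  exact quasiIso_of_comp_right (f • 𝟙 X) π

theorem quasiIso_smul_shift (f : A) (X : Cx A) (hX : QuasiIso (f • 𝟙 X)) (n : ℤ) :
    QuasiIso (f • 𝟙 (X⟦n⟧)) := by
  have h1 : f • 𝟙 (X⟦n⟧) = (f • 𝟙 X)⟦n⟧' := by
    ext i : 1
    rfl
  rw [h1]
  infer_instance

theorem smul_id_tensor (g : A) (X T : Cx A) : g • 𝟙 (X ⊗ T : Cx A) = (g • 𝟙 X) ▷ T := by
  apply HomologicalComplex.hom_ext
  intro m
  apply ModuleCat.hom_ext
  apply lin_ext X T
  intro p a hpa k l
  erw [whiskerRight_tm (g • 𝟙 X) T p a m hpa k l]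
  change g • tm X T p a m hpa k l = tm X T p a m hpa (g • k) l
  rw [tm_smul_left]

theorem quasiIso_smul_tensor (g : A) (X T : Cx A) (hX : QuasiIso (g • 𝟙 X)) (hT : IsKFlat T) :
    QuasiIso (g • 𝟙 (X ⊗ T : Cx A)) := by
  rw [smul_id_tensor]
  exact quasiIso_whiskerRight_of_isKFlat T hT _ hX

theorem smul_id_homCx (f : A) (T M : Cx A) :
    f • 𝟙 (DRing.homCx T M) = homCxPre (f • 𝟙 T) M := by
  apply HomologicalComplex.hom_ext
  intro i
  apply ModuleCat.hom_ext
  apply LinearMap.ext
  intro z
  change Cochain T M i at z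
  change f • z = (Cochain.ofHom (f • 𝟙 T)).comp z (zero_add i)
  apply Cochain.ext
  intro p q hpq
  rw [Cochain.zero_cochain_comp_v, Cochain.ofHom_v, Cochain.smul_v]
  have h1 : (f • 𝟙 T : T ⟶ T).f p = f • 𝟙 (T.X p) := rfl
  rw [h1, Linear.smul_comp, Category.id_comp]

theorem quasiIso_smul_homCx (f : A) (T M : Cx A) [T.IsKProjective] (hT : QuasiIso (f • 𝟙 T)) :
    QuasiIso (f • 𝟙 (DRing.homCx T M)) := by
  rw [smul_id_homCx]
  obtain ⟨e, he⟩ := (CochainComplex.IsKProjective.quasiIso_iff (f • 𝟙 T)).1 hT
  rw [← he]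
  exact (homCxPreHomotopyEquiv e M).quasiIso_hom

/-! ### Resolutions of `A_f` -/

/-- a K-projective K-flat resolution of `A_f` with a cycle lifting `1` -/
structure AwayRes (f : A) where
  T : Cx A
  π : T ⟶ sgl (ModuleCat.of A (Localization.Away f))
  kproj : T.IsKProjective
  qis : QuasiIso π
  kflat : IsKFlat T
  t : T.X 0
  ht : T.d 0 1 t = 0
  hπt : π.f 0 t = (singleObjXSelf (ComplexShape.up ℤ) 0
    (ModuleCat.of A (Localization.Away f))).inv (1 : Localization.Away f)

attribute [instance] AwayRes.kproj AwayRes.qis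

theorem nonempty_awayRes (f : A) : Nonempty (AwayRes f) := by
  obtain ⟨T, π, hTK, hπ, hTflat, -, -⟩ :=
    Groth.Agent.Lib.Helper15.KProjRes.exists_kprojective_resolution
      (sgl (ModuleCat.of A (Localization.Away f)))
  have := hπ
  let y : (sgl (ModuleCat.of A (Localization.Away f))).X 0 :=
    (singleObjXSelf (ComplexShape.up ℤ) 0
      (ModuleCat.of A (Localization.Away f))).inv (1 : Localization.Away f)
  have hy : (sgl (ModuleCat.of A (Localization.Away f))).d 0 1 y = 0 := by
    have := sgl_subsingleton (ModuleCat.of A (Localization.Away f)) 1 (by norm_num)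
    exact Subsingleton.elim _ _
  obtain ⟨x, w, hx, hw⟩ := QisElem.surj_of_quasiIso π (-1) 0 1 (by norm_num) (by norm_num) y hy
  have hw0 : w = 0 := by
    have := sgl_subsingleton (ModuleCat.of A (Localization.Away f)) (-1) (by norm_num)
    exact Subsingleton.elim _ _
  rw [hw0, map_zero, sub_eq_zero] at hw
  exact ⟨⟨T, π, hTK, hπ, hTflat, x, hx, hw.symm⟩⟩

theorem quasiIso_smul_sgl (f : A) :
    QuasiIso (f • 𝟙 (sgl (ModuleCat.of A (Localization.Away f)))) := by
  have hu : IsUnit (algebraMap A (Localization.Away f) f) :=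
    IsLocalization.Away.algebraMap_isUnit f
  obtain ⟨u, hu'⟩ := hu
  have hbij : ∀ i : ℤ, Function.Bijective
      (fun x : (sgl (ModuleCat.of A (Localization.Away f))).X i => f • x) := by
    intro i
    by_cases hi : i = 0
    · subst hi
      let s := singleObjXSelf (ComplexShape.up ℤ) 0 (ModuleCat.of A (Localization.Away f))
      have hsm : ∀ z : Localization.Away f, f • z = (u : Localization.Away f) * z := by
        intro z
        rw [hu', Algebra.smul_def]
      constructor
      · intro x y hxy
        have hxy' : f • x = f • y := hxy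
        have h1 : f • s.hom x = f • s.hom y := by
          rw [← map_smul, ← map_smul, hxy']
        rw [hsm, hsm] at h1
        have h2 : s.hom x = s.hom y := by
          have := congrArg (fun z => (↑u⁻¹ : Localization.Away f) * z) h1
          simpa using this
        have h3 := congrArg s.inv h2
        simpa using h3
      · intro y
        refine ⟨s.inv ((↑u⁻¹ : Localization.Away f) * s.hom y), ?_⟩
        change f • s.inv ((↑u⁻¹ : Localization.Away f) * s.hom y) = y
        rw [← map_smul, hsm, ← mul_assoc, Units.mul_inv, one_mul]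
        simp
    · have := sgl_subsingleton (ModuleCat.of A (Localization.Away f)) i hi
      exact ⟨fun _ _ _ => Subsingleton.elim _ _, fun y => ⟨y, Subsingleton.elim _ _⟩⟩
  let E : sgl (ModuleCat.of A (Localization.Away f)) ≅ sgl (ModuleCat.of A (Localization.Away f)) :=
    HomologicalComplex.Hom.isoOfComponents
      (fun i => (LinearEquiv.ofBijective
        (LinearMap.lsmul A ((sgl (ModuleCat.of A (Localization.Away f))).X i) f)
        (hbij i)).toModuleIso)
      (by
        intro i j hij
        ext x
        change ((sgl (ModuleCat.of A (Localization.Away f))).d i j).hom (f • x) =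
          f • ((sgl (ModuleCat.of A (Localization.Away f))).d i j).hom x
        rw [map_smul])
  have hE : f • 𝟙 (sgl (ModuleCat.of A (Localization.Away f))) = E.hom := by
    ext i : 1
    rfl
  rw [hE]
  infer_instance

theorem AwayRes.quasiIso_smul {f : A} (R : AwayRes f) : QuasiIso (f • 𝟙 R.T) :=
  quasiIso_smul_of_quasiIso f R.π R.qis (quasiIso_smul_sgl f)

end Groth.Agent.Lib.Helper25.DCompSingle
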