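import Groth.Agent.Lib.Helper25.DCompSingle2

/-!
# Derived completion with respect to one element: existence
-/

set_option autoImplicit false
universe u

namespace Groth.Agent.Lib.Helper25.DCompSingle

open CategoryTheory CategoryTheory.Limits MonoidalCategory HomologicalComplex CochainComplex
open CochainComplex.HomComplex DerivedCategory CategoryTheory.Pretriangulated
open Groth.Agent.Lib.Helper25.TensorCx Groth.Agent.Lib.Helper25.HomTensor
open Groth.Agent.Lib.Helper25.HomCxAdj Groth.Agent.Lib.Helper25.HomCxPre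
open Groth.Agent.Lib.Helper25.TensorKProj Groth.Agent.Lib.Helper25.DerAdj
open Groth.Agent.Lib.Helper25.DCompEval Groth.Agent.Lib.Helper25.DCompTri
open Groth.Agent.Lib.Helper25.SingleTensor Groth.Agent.Lib.Helper25.KFlat
open Groth.Agent.Lib.Helper25.DerCompleteHom

attribute [local instance] HasDerivedCategory.standard

variable {A : Type u} [CommRing A]

/-- Derived completion with respect to one element. -/
theorem exists_single (f : A) (K : Dual.D A) :
    ∃ (C : Dual.D A) (η : K ⟶ C),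
      Orth (Dual.inD A (Localization.Away f)) C ∧
      (∀ g : A, Orth (Dual.inD A (Localization.Away g)) K →
        Orth (Dual.inD A (Localization.Away g)) C) ∧
      ∀ L : Dual.D A, Orth (Dual.inD A (Localization.Away f)) L →
        Function.Bijective (fun φ : C ⟶ L => η ≫ φ) := by
  obtain ⟨R⟩ := nonempty_awayRes f
  let K₀ : Cx A := Q.objPreimage K
  let e : Q.obj K₀ ≅ K := Q.objObjPreimageIso K
  let N₀ : Cx A := DRing.homCx R.T K₀
  let ρ : N₀ ⟶ K₀ := evalAt R.T K₀ R.t R.ht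
  let Tri := Q.mapTriangle.obj (mappingCone.triangle ρ)
  have hTri : Tri ∈ distTriang _ := mappingCone_triangle_distinguished ρ
  have hN₀ : QuasiIso (f • 𝟙 N₀) := quasiIso_smul_homCx f R.T K₀ R.quasiIso_smul
  refine ⟨Tri.obj₃, e.inv ≫ Tri.mor₂, ?_, ?_, ?_⟩
  · rw [R.orth_iff]
    intro m
    refine subsingleton_hom_obj₃ Tri hTri (Q.obj (R.T⟦m⟧)) (Q.obj ((R.T⟦m⟧)⟦(-1 : ℤ)⟧))
      ((Q.commShiftIso (-1 : ℤ)).app (R.T⟦m⟧)) ?_ ?_
    · exact (bijective_comp_evalAt' R (R.T⟦m⟧)
        (quasiIso_smul_shift f R.T R.quasiIso_smul m) K₀).surjective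
    · exact (bijective_comp_evalAt' R ((R.T⟦m⟧)⟦(-1 : ℤ)⟧)
        (quasiIso_smul_shift f _ (quasiIso_smul_shift f R.T R.quasiIso_smul m) (-1)) K₀).injective
  · intro g hg
    obtain ⟨Rg⟩ := nonempty_awayRes g
    have hK₀ : Orth (Dual.inD A (Localization.Away g)) (Q.obj K₀) := hg.of_iso e.symm
    apply Orth.of_triangle Tri hTri
    · change Orth (Dual.inD A (Localization.Away g)) (Q.obj N₀)
      rw [Rg.orth_iff]
      intro m
      apply subsingleton_hom_homCx (Rg.T⟦m⟧) R.T K₀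
      exact subsingleton_hom_of_quasiIso_smul g ((Rg.T⟦m⟧) ⊗ R.T : Cx A)
        (quasiIso_smul_tensor g _ R.T (quasiIso_smul_shift g Rg.T Rg.quasiIso_smul m) R.kflat)
        (Q.obj K₀) hK₀
    · exact hK₀
  · intro L hL
    have h0 : Subsingleton (Tri.obj₁ ⟶ L) := subsingleton_hom_of_quasiIso_smul f N₀ hN₀ L hL
    have h1 : Subsingleton (Tri.obj₁⟦(1 : ℤ)⟧ ⟶ L) := by
      have h := subsingleton_hom_of_quasiIso_smul f (N₀⟦(1 : ℤ)⟧)
        (quasiIso_smul_shift f N₀ hN₀ 1) L hL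
      constructor
      intro a b
      have := h.elim (((Q.commShiftIso (1 : ℤ)).app N₀).hom ≫ a)
        (((Q.commShiftIso (1 : ℤ)).app N₀).hom ≫ b)
      exact (cancel_epi _).1 this
    have hb := bijective_precomp_mor₂ Tri hTri L h0 h1
    constructor
    · intro a b hab
      apply hb.injective
      have hab' : (e.inv ≫ Tri.mor₂) ≫ a = (e.inv ≫ Tri.mor₂) ≫ b := hab
      rw [Category.assoc, Category.assoc] at hab'
      exact (cancel_epi e.inv).1 hab'
    · intro ψ
      obtain ⟨φ, hφ⟩ := hb.surjective (e.hom ≫ ψ)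
      refine ⟨φ, ?_⟩
      have hφ' : Tri.mor₂ ≫ φ = e.hom ≫ ψ := hφ
      change (e.inv ≫ Tri.mor₂) ≫ φ = ψ
      have h3 : (e.inv ≫ Tri.mor₂) ≫ φ = e.inv ≫ (Tri.mor₂ ≫ φ) := Category.assoc _ _ _
      exact h3.trans ((congrArg (fun x => e.inv ≫ x) hφ').trans (Iso.inv_hom_id_assoc e ψ))

end Groth.Agent.Lib.Helper25.DCompSingle
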