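import Groth.Agent.Lib.Helper25.DualCx
import Mathlib.LinearAlgebra.Dual.Lemmas

/-!
# The double dual of a complex of finite projective modules

`P ≅ dualCx (dualCx P)`, hence `P` is also a right dual of `dualCx P`.
-/

set_option autoImplicit false
universe u

namespace Groth.Agent.Lib.Helper25.DualCx

open CategoryTheory CategoryTheory.Limits MonoidalCategory HomologicalComplex TensorProduct
open Groth.Agent.Lib.Helper25.TensorCx

variable {R : Type u} [CommRing R] (P : Cx R)

/-- a linear form as an element of the dual complex -/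
noncomputable def ofDual (q : ℤ) : Module.Dual R (P.X (-q)) →ₗ[R] ((dualCx P).X q) := LinearMap.id

theorem toDual_ofDual (q : ℤ) (φ : Module.Dual R (P.X (-q))) : toDual P q (ofDual P q φ) = φ := rfl

theorem toDual_injective (q : ℤ) : Function.Injective (toDual P q) := fun _ _ h => h

/-- the sign-twisted evaluation `P^p → ((P^{-(-p)})^*)^*` -/
noncomputable def ddLin (p : ℤ) : P.X p →ₗ[R] (dualCx (dualCx P)).X p :=
  (p.negOnePow : ℤˣ) •
    (ofDual (dualCx P) p ∘ₗ (toDual P (-p)).flip ∘ₗ castL P (by omega : p = -(-p)))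

theorem ddLin_apply (p : ℤ) (x : P.X p) (ψ : (dualCx P).X (-p)) :
    toDual (dualCx P) p (ddLin P p x) ψ =
      (p.negOnePow : ℤˣ) • toDual P (-p) ψ (castL P (by omega : p = -(-p)) x) := by
  unfold ddLin
  rw [Units.smul_def, LinearMap.smul_apply, map_zsmul, LinearMap.smul_apply, ← Units.smul_def]
  rfl

theorem ddLin_bijective [∀ i, Module.Finite R (P.X i)] [∀ i, Module.Projective R (P.X i)]
    (p : ℤ) : Function.Bijective (ddLin P p) := by
  have h1 : Function.Bijective (ofDual (dualCx P) p ∘ₗ (toDual P (-p)).flip ∘ₗ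
      castL P (by omega : p = -(-p))) := by
    have hb : Function.Bijective (Module.Dual.eval R (P.X (-(-p)))) :=
      Module.bijective_dual_eval R (P.X (-(-p)))
    have hc : Function.Bijective (castL P (by omega : p = -(-p))) := by
      refine ⟨fun x y h => ?_, fun y => ⟨castL P (by omega : -(-p) = p) y, ?_⟩⟩
      · have := congrArg (castL P (by omega : -(-p) = p)) h
        rwa [castL_castL, castL_castL] at this
      · rw [castL_castL]
        rfl
    exact hb.comp hc
  unfold ddLin
  constructor
  · intro x y h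
    apply h1.1
    have h' := congrArg (fun z => (p.negOnePow : ℤˣ) • z) h
    simp only [Units.smul_def, LinearMap.smul_apply, smul_smul] at h'
    rw [← Units.val_mul, ← Int.negOnePow_add] at h'
    have e : (p + p).negOnePow = 1 := (Int.negOnePow_even _ ⟨p, rfl⟩)
    rw [e] at h'
    simpa using h'
  · intro y
    obtain ⟨x, hx⟩ := h1.2 ((p.negOnePow : ℤˣ) • y)
    refine ⟨x, ?_⟩
    rw [Units.smul_def, LinearMap.smul_apply, ← Units.smul_def, hx, smul_smul, ← Int.negOnePow_add]
    have e : (p + p).negOnePow = 1 := (Int.negOnePow_even _ ⟨p, rfl⟩)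
    rw [e, one_smul]

theorem ddLin_comm (p p' : ℤ) (x : P.X p) :
    ((dualCx (dualCx P)).d p p').hom (ddLin P p x) = ddLin P p' ((P.d p p').hom x) := by
  apply toDual_injective
  apply LinearMap.ext
  intro ψ
  rw [dualCx_d_apply, ddLin_apply, ddLin_apply, dualCx_d_apply, d_castL, castL_d, smul_smul,
    smul_smul, ← Int.negOnePow_add, ← Int.negOnePow_add]
  by_cases h : p + 1 = p'
  · subst h
    congr 1
    rw [Int.negOnePow_eq_iff]
    exact ⟨0, by omega⟩
  · rw [P.shape p (-(-p')) (by simp; omega)]
    simp


variable [∀ i, Module.Finite R (P.X i)] [∀ i, Module.Projective R (P.X i)]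

/-- `P ≅ P^∨∨` -/
noncomputable def ddIso : P ≅ dualCx (dualCx P) :=
  HomologicalComplex.Hom.isoOfComponents
    (fun p => (LinearEquiv.ofBijective (ddLin P p) (ddLin_bijective P p)).toModuleIso)
    (fun p p' _ => by
      apply ModuleCat.hom_ext
      apply LinearMap.ext
      intro x
      exact (ddLin_comm P p p' x))

instance dualCx_finite (q : ℤ) : Module.Finite R ((dualCx P).X q) :=
  inferInstanceAs (Module.Finite R (Module.Dual R (P.X (-q))))

instance dualCx_projective (q : ℤ) : Module.Projective R ((dualCx P).X q) :=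
  inferInstanceAs (Module.Projective R (Module.Dual R (P.X (-q))))

omit [∀ i, Module.Finite R (P.X i)] [∀ i, Module.Projective R (P.X i)] in
theorem dualCx_isZero (a b : ℤ) (hP : ∀ i : ℤ, i < a ∨ b < i → IsZero (P.X i)) (q : ℤ)
    (hq : q < -b ∨ -a < q) : IsZero ((dualCx P).X q) := by
  have hz : IsZero (P.X (-q)) := hP (-q) (by omega)
  have := ModuleCat.subsingleton_of_isZero hz
  have : Subsingleton (Module.Dual R (P.X (-q))) := ⟨fun f g => LinearMap.ext fun x => by
    rw [Subsingleton.elim x 0, map_zero, map_zero]⟩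
  exact ModuleCat.isZero_of_subsingleton (ModuleCat.of R (Module.Dual R (P.X (-q))))

/-- `P` is a right dual of `dualCx P`. -/
noncomputable def exactPairingSwap (a b : ℤ) (hP : ∀ i : ℤ, i < a ∨ b < i → IsZero (P.X i)) :
    ExactPairing (dualCx P) P :=
  haveI := exactPairing (dualCx P) (-b) (-a) (dualCx_isZero P a b hP)
  exactPairingCongrRight (ddIso P)

end Groth.Agent.Lib.Helper25.DualCx
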