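import Groth.Agent.Lib.Helper25.HomTensor
import Groth.Agent.Lib.Helper25.DualCx2
import Mathlib.CategoryTheory.Adjunction.Unique

/-!
# The tensor-hom adjunction for complexes of modules, and `Hom•(E, K) ≅ K ⊗ E^∨`
-/

set_option autoImplicit false
universe u

namespace Groth.Agent.Lib.Helper25.HomCxAdj

open CategoryTheory CategoryTheory.Limits MonoidalCategory HomologicalComplex TensorProduct
open CochainComplex.HomComplex
open Groth.Agent.Lib.Helper25.TensorCx Groth.Agent.Lib.Helper25.HomTensor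

variable {R : Type u} [CommRing R] (E : Cx R)

theorem fwd_zero {K M : Cx R} {n : ℤ} : fwd (0 : Cochain K (DRing.homCx E M) n) = 0 :=
  (equiv K E M n).map_zero

theorem bwd_zero {K M : Cx R} {n : ℤ} : bwd (0 : Cochain (K ⊗ E : Cx R) M n) = 0 :=
  (equiv K E M n).symm.map_zero

theorem bwd_δ {K M : Cx R} {n n' : ℤ} (hn : n + 1 = n') (ψ : Cochain (K ⊗ E : Cx R) M n) :
    bwd (δ n n' ψ) = δ n n' (bwd ψ) := by
  have h := fwd_δ hn (bwd ψ)
  rw [fwd_bwd] at h
  rw [← h, bwd_fwd]

/-- uncurrying a chain map -/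
noncomputable def uncurry {K M : Cx R} (f : K ⟶ DRing.homCx E M) : (K ⊗ E : Cx R) ⟶ M :=
  Cocycle.homOf (Cocycle.mk (fwd (Cochain.ofHom f)) 1 (zero_add 1) (by
    rw [← fwd_δ (zero_add 1), δ_ofHom, fwd_zero]))

/-- currying a chain map -/
noncomputable def curry {K M : Cx R} (g : (K ⊗ E : Cx R) ⟶ M) : K ⟶ DRing.homCx E M :=
  Cocycle.homOf (Cocycle.mk (bwd (Cochain.ofHom g)) 1 (zero_add 1) (by
    rw [← bwd_δ E (zero_add 1), δ_ofHom, bwd_zero]))

theorem ofHom_uncurry {K M : Cx R} (f : K ⟶ DRing.homCx E M) :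
    Cochain.ofHom (uncurry E f) = fwd (Cochain.ofHom f) :=
  Cocycle.cochain_ofHom_homOf_eq_coe _

theorem ofHom_curry {K M : Cx R} (g : (K ⊗ E : Cx R) ⟶ M) :
    Cochain.ofHom (curry E g) = bwd (Cochain.ofHom g) :=
  Cocycle.cochain_ofHom_homOf_eq_coe _

theorem uncurry_curry {K M : Cx R} (g : (K ⊗ E : Cx R) ⟶ M) : uncurry E (curry E g) = g := by
  apply Cochain.ofHom_injective
  rw [ofHom_uncurry, ofHom_curry, fwd_bwd]

theorem curry_uncurry {K M : Cx R} (f : K ⟶ DRing.homCx E M) : curry E (uncurry E f) = f := by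
  apply Cochain.ofHom_injective
  rw [ofHom_curry, ofHom_uncurry, bwd_fwd]

theorem uncurry_f_tm {K M : Cx R} (f : K ⟶ DRing.homCx E M) (p a m : ℤ) (h : p + a = m)
    (k : K.X p) (l : E.X a) :
    ((uncurry E f).f m).hom (tm K E p a m h k l) =
      ((toCochain E M p ((f.f p).hom k)).v a m (by omega)).hom l := by
  have h1 := Cochain.congr_v (ofHom_uncurry E f) m m (add_zero m)
  rw [Cochain.ofHom_v] at h1
  rw [h1, fwd_tm (Cochain.ofHom f) m m (add_zero m) p a h p (add_zero p) k l, Cochain.ofHom_v]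

theorem uncurry_naturality_left {K' K M : Cx R} (g : K' ⟶ K) (f : K ⟶ DRing.homCx E M) :
    uncurry E (g ≫ f) = (g ▷ E) ≫ uncurry E f := by
  apply HomologicalComplex.hom_ext
  intro m
  apply ModuleCat.hom_ext
  apply lin_ext K' E
  intro p a hpa k l
  rw [uncurry_f_tm E (g ≫ f) p a m hpa k l]
  have hR : ((g ▷ E ≫ uncurry E f).f m).hom (tm K' E p a m hpa k l) =
      ((uncurry E f).f m).hom (((g ▷ E).f m).hom (tm K' E p a m hpa k l)) := rfl
  rw [hR]
  erw [whiskerRight_tm g E p a m hpa k l]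
  rw [uncurry_f_tm E f p a m hpa _ l]
  rfl

theorem uncurry_naturality_right {K M M' : Cx R} (f : K ⟶ DRing.homCx E M) (h : M ⟶ M') :
    uncurry E (f ≫ DRing.homCxMap E h) = uncurry E f ≫ h := by
  apply HomologicalComplex.hom_ext
  intro m
  apply ModuleCat.hom_ext
  apply lin_ext K E
  intro p a hpa k l
  rw [uncurry_f_tm E (f ≫ DRing.homCxMap E h) p a m hpa k l]
  have hR : ((uncurry E f ≫ h).f m).hom (tm K E p a m hpa k l) =
      (h.f m).hom (((uncurry E f).f m).hom (tm K E p a m hpa k l)) := rfl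
  rw [hR, uncurry_f_tm E f p a m hpa k l]
  change (((toCochain E M p ((f.f p).hom k)).comp (Cochain.ofHom h) (add_zero p)).v a m
    (by omega)).hom l = _
  rw [Cochain.comp_zero_cochain_v, Cochain.ofHom_v]
  rfl

/-- The tensor-hom adjunction `(- ⊗ E) ⊣ Hom•(E, -)` on complexes of modules. -/
noncomputable def adj : tensorRight E ⊣ DRing.homCxFunctor E :=
  Adjunction.mkOfHomEquiv
    { homEquiv := fun K M =>
        { toFun := fun g => curry E g
          invFun := fun f => uncurry E f
          left_inv := fun g => uncurry_curry E g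
          right_inv := fun f => curry_uncurry E f }
      homEquiv_naturality_left_symm := fun g f => uncurry_naturality_left E g f
      homEquiv_naturality_right := fun {K M M'} g h => by
        change curry E (g ≫ h) = curry E g ≫ DRing.homCxMap E h
        have := uncurry_naturality_right E (curry E g) h
        rw [uncurry_curry] at this
        rw [← this, curry_uncurry] }

/-- For a bounded complex `E` of finite projective modules, `Hom•(E, K) ≅ K ⊗ E^∨`. -/
noncomputable def homCxIsoTensorDual [∀ i, Module.Finite R (E.X i)]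
    [∀ i, Module.Projective R (E.X i)] (a b : ℤ)
    (hE : ∀ i : ℤ, i < a ∨ b < i → IsZero (E.X i)) (K : Cx R) :
    DRing.homCx E K ≅ (K ⊗ DualCx.dualCx E : Cx R) :=
  haveI := DualCx.exactPairing E a b hE
  (((adj E).rightAdjointUniq (tensorRightAdjunction E (DualCx.dualCx E))).app K)

end Groth.Agent.Lib.Helper25.HomCxAdj
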