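import Groth.Agent.Lib.Helper25.DNak
import Groth.Agent.Lib.Helper25.DCompSingle3
import Groth.Agent.Lib.Helper25.DualCx2
import Groth.Agent.Lib.Helper25.HomCxAdj
import Groth.Agent.Lib.Helper54.LBaseChangeKProj

/-!
# Derived completeness of `Hom•(E, X)` and of `X ⊗ F` for `F` bounded above finite free
(towards S7103, S7095)
-/

set_option autoImplicit false
universe u

open CategoryTheory CategoryTheory.Limits CategoryTheory.Pretriangulated DerivedCategory
open MonoidalCategory

attribute [local instance] HasDerivedCategory.standard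

namespace Groth.Agent.Lib.Helper25.DCompTensor

open Groth.Agent.Lib.Helper25.TensorCx Groth.Agent.Lib.Helper25.KFlat
open Groth.Agent.Lib.Helper25.DCompTri Groth.Agent.Lib.Helper25.DCompSingle
open Groth.Agent.Lib.Helper25.DerAdj Groth.Agent.Lib.Helper25.DerCompleteHom
open Groth.Agent.Lib.Helper25.HomCxAdj Groth.Agent.Lib.Helper25.DualCx
open Groth.Agent.Lib.Helper84.DComp Groth.Agent.Lib.Helper84.DCompAlg

variable {A : Type u} [CommRing A]

/-- `Hom•(E, M)` is derived complete when `M` is, for `E` K-projective and K-flat. -/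
theorem isDerivedComplete_homCx (I : Ideal A) (E M : Cx A) [E.IsKProjective] (hE : IsKFlat E)
    (hM : DRing.IsDerivedComplete I (Q.obj M)) :
    DRing.IsDerivedComplete I (Q.obj (DRing.homCx E M)) := by
  intro g hg
  obtain ⟨Rg⟩ := nonempty_awayRes g
  have hM' : Orth (Dual.inD A (Localization.Away g)) (Q.obj M) := hM g hg
  change Orth (Dual.inD A (Localization.Away g)) (Q.obj (DRing.homCx E M))
  rw [Rg.orth_iff]
  intro m
  haveI := Rg.kproj
  apply subsingleton_hom_homCx (Rg.T⟦m⟧) E M
  exact subsingleton_hom_of_quasiIso_smul g ((Rg.T⟦m⟧) ⊗ E : Cx A)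
    (quasiIso_smul_tensor g _ E (quasiIso_smul_shift g Rg.T Rg.quasiIso_smul m) hE)
    (Q.obj M) hM'

/-- `X ⊗ G` is derived complete when `X` is, for `G` a bounded complex of finite projective
modules. -/
theorem isDerivedComplete_tensor_of_bounded (I : Ideal A) (X G : Cx A)
    [∀ i, Module.Finite A (G.X i)] [∀ i, Module.Projective A (G.X i)] (a b : ℤ)
    (hG : ∀ i : ℤ, i < a ∨ b < i → IsZero (G.X i))
    (hX : DRing.IsDerivedComplete I (Q.obj X)) :
    DRing.IsDerivedComplete I (Q.obj (X ⊗ G : Cx A)) := by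
  have hz := dualCx_isZero G a b hG
  haveI : (dualCx G).IsKProjective :=
    Groth.Agent.Lib.Helper54.LDerived.isKProjective_of_vanishesAbove (dualCx G) (-a)
      (fun i hi => hz i (Or.inr hi)) (fun i => inferInstance)
  have hKF : IsKFlat (dualCx G) :=
    isKFlat_of_boundedAbove_of_flat (dualCx G) (-a) (fun i hi => hz i (Or.inr hi))
      (fun i => inferInstance)
  have h1 := isDerivedComplete_homCx I (dualCx G) X hKF hX
  have e : DRing.homCx (dualCx G) X ≅ (X ⊗ G : Cx A) :=
    homCxIsoTensorDual (dualCx G) (-b) (-a) hz X ≪≫ (whiskerLeftIso X (ddIso G)).symm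
  exact isDerivedComplete_of_iso I (Q.mapIso e) h1

/-! ### Quotient complexes and brutal truncations -/

section Quot

open Groth.Agent.Lib.Helper25.KFlatFP

variable (F : Cx A) (S : ∀ p : ℤ, Submodule A (F.X p))
  (hS : ∀ (p q : ℤ) (x : F.X p), x ∈ S p → (F.d p q).hom x ∈ S q)

/-- The quotient complex by a family of submodules stable under the differential. -/
noncomputable def quotCx : Cx A where
  X p := ModuleCat.of A (F.X p ⧸ S p)
  d p q := ModuleCat.ofHom ((S p).mapQ (S q) (F.d p q).hom (fun x hx => hS p q x hx))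
  shape p q hpq := by
    ext y
    change (S q).mkQ ((F.d p q).hom y) = 0
    rw [F.shape p q hpq]
    simp
  d_comp_d' p q r _ _ := by
    ext y
    change (S r).mkQ ((F.d q r).hom ((F.d p q).hom y)) = 0
    have := Groth.Agent.Lib.Helper25.KFlat.d_d_apply F p q r y
    erw [this]
    simp

/-- The projection to the quotient complex. -/
noncomputable def quotπ : F ⟶ quotCx F S hS where
  f p := ModuleCat.ofHom (S p).mkQ
  comm' p q _ := by
    ext x
    rfl

noncomputable def quotSC : ShortComplex (Cx A) :=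
  ShortComplex.mk (subCxι F S hS) (quotπ F S hS) (by
    ext p x
    change (S p).mkQ ((S p).subtype x) = 0
    simp)

theorem quotSC_shortExact : (quotSC F S hS).ShortExact := by
  apply HomologicalComplex.shortExact_of_degreewise_shortExact
  intro p
  exact ModuleCat.shortComplex_shortExact _
    (show Function.Exact (S p).subtype (S p).mkQ from LinearMap.exact_subtype_mkQ _)
    (Submodule.subtype_injective _) (Submodule.mkQ_surjective _)

end Quot

section Brutal

open Groth.Agent.Lib.Helper25.KFlatFP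

variable (F : Cx A) (m : ℤ)

/-- the submodules defining the brutal truncation `σ_{≥ m}` -/
noncomputable def brS (p : ℤ) : Submodule A (F.X p) := if m ≤ p then ⊤ else ⊥

theorem brS_top (p : ℤ) (hp : m ≤ p) : brS F m p = ⊤ := by
  unfold brS
  rw [if_pos hp]

theorem brS_bot (p : ℤ) (hp : p < m) : brS F m p = ⊥ := by
  unfold brS
  rw [if_neg (by omega)]

theorem brS_stable (p q : ℤ) (x : F.X p) (hx : x ∈ brS F m p) : (F.d p q).hom x ∈ brS F m q := by
  by_cases hpq : p + 1 = q
  · by_cases hp : m ≤ p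
    · rw [brS_top F m q (by omega)]
      trivial
    · rw [brS_bot F m p (by omega), Submodule.mem_bot] at hx
      rw [hx, map_zero]
      exact Submodule.zero_mem _
  · have : F.d p q = 0 := F.shape p q hpq
    rw [this]
    exact Submodule.zero_mem _

/-- `σ_{≥ m} F` -/
noncomputable abbrev brGE : Cx A := subCx F (brS F m) (brS_stable F m)

/-- `σ_{< m} F` -/
noncomputable abbrev brLT : Cx A := quotCx F (brS F m) (brS_stable F m)

noncomputable abbrev brSC : ShortComplex (Cx A) := quotSC F (brS F m) (brS_stable F m)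

theorem brSC_shortExact : (brSC F m).ShortExact := quotSC_shortExact F _ _

noncomputable def brGEEquiv (p : ℤ) (hp : m ≤ p) : (brGE F m).X p ≃ₗ[A] F.X p :=
  LinearEquiv.ofTop (brS F m p) (brS_top F m p hp)

theorem isZero_brGE (p : ℤ) (hp : p < m) : IsZero ((brGE F m).X p) := by
  have : Subsingleton ((brGE F m).X p) := by
    change Subsingleton (brS F m p)
    rw [brS_bot F m p hp]
    infer_instance
  exact ModuleCat.isZero_of_subsingleton _

theorem isZero_brGE' (p : ℤ) (hp : IsZero (F.X p)) : IsZero ((brGE F m).X p) := by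
  have := ModuleCat.subsingleton_of_isZero hp
  have : Subsingleton ((brGE F m).X p) := by
    change Subsingleton (brS F m p)
    exact ⟨fun x y => Subtype.ext (Subsingleton.elim _ _)⟩
  exact ModuleCat.isZero_of_subsingleton _

noncomputable def brLTEquiv (p : ℤ) (hp : p < m) : (brLT F m).X p ≃ₗ[A] F.X p :=
  Submodule.quotEquivOfEqBot (brS F m p) (brS_bot F m p hp)

theorem isZero_brLT (p : ℤ) (hp : m ≤ p) : IsZero ((brLT F m).X p) := by
  have : Subsingleton ((brLT F m).X p) := by
    change Subsingleton (F.X p ⧸ brS F m p)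
    rw [Submodule.Quotient.subsingleton_iff]
    exact brS_top F m p hp
  exact ModuleCat.isZero_of_subsingleton _

end Brutal

section Amp

theorem isZero_tensor_X (K L : Cx A) (n : ℤ)
    (h : ∀ p q : ℤ, p + q = n → IsZero (K.X p) ∨ IsZero (L.X q)) :
    IsZero ((K ⊗ L : Cx A).X n) := by
  have : Subsingleton ((K ⊗ L : Cx A).X n) := by
    refine ⟨fun x y => ?_⟩
    apply ext_comp
    intro p q hpq
    have : Subsingleton (TensorProduct A (K.X p) (L.X q)) := by
      rcases h p q hpq with h1 | h1
      · have := ModuleCat.subsingleton_of_isZero h1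
        infer_instance
      · have := ModuleCat.subsingleton_of_isZero h1
        infer_instance
    exact Subsingleton.elim _ _
  exact ModuleCat.isZero_of_subsingleton _

/-- right t-exactness of the tensor product with a bounded above complex of flat modules -/
theorem exactAt_tensor_of_le (X G : Cx A) (b m : ℤ) (hX : ∀ i : ℤ, b < i → X.ExactAt i)
    (hG : ∀ j : ℤ, m ≤ j → IsZero (G.X j)) (hflat : ∀ j : ℤ, Module.Flat A (G.X j)) (k : ℤ)
    (hk : b + m ≤ k) : (X ⊗ G : Cx A).ExactAt k := by
  have : X.IsLE b := (CochainComplex.isLE_iff X b).2 hX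
  have hKF : IsKFlat G :=
    isKFlat_of_boundedAbove_of_flat G (m - 1) (fun q hq => hG q (by omega)) hflat
  have hq : QuasiIso ((X.ιTruncLE b) ▷ G) :=
    quasiIso_whiskerRight_of_isKFlat G hKF _ inferInstance
  rw [← _root_.exactAt_iff_of_quasiIsoAt ((X.ιTruncLE b) ▷ G) k]
  apply ShortComplex.exact_of_isZero_X₂
  apply isZero_tensor_X
  intro p q hpq
  by_cases hp : b < p
  · left
    exact CochainComplex.isZero_of_isStrictlyLE _ b p hp
  · right
    exact hG q (by omega)

end Amp

section Main

open Groth.Agent.Lib.Helper25.DNak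

/-- `X ⊗ F` is derived complete when `X` is derived complete with cohomology bounded above and
`F` is a bounded above complex of finite free modules. -/
theorem isDerivedComplete_tensor (I : Ideal A) (X F : Cx A) (b c : ℤ)
    (hXb : ∀ i : ℤ, b < i → X.ExactAt i) (hX : DRing.IsDerivedComplete I (Q.obj X))
    (hFc : ∀ j : ℤ, c < j → IsZero (F.X j))
    (hFf : ∀ j : ℤ, Module.Finite A (F.X j) ∧ Module.Free A (F.X j)) :
    DRing.IsDerivedComplete I (Q.obj (X ⊗ F : Cx A)) := by
  rw [isDerivedComplete_iff]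
  intro f hf n
  -- truncate `F` below `m`
  set m : ℤ := n - b - 1 with hm
  have hfin : ∀ i, Module.Finite A ((brGE F m).X i) := by
    intro i
    by_cases hi : m ≤ i
    · haveI := (hFf i).1
      exact Module.Finite.equiv (brGEEquiv F m i hi).symm
    · have := ModuleCat.subsingleton_of_isZero (isZero_brGE F m i (by omega))
      infer_instance
  have hproj : ∀ i, Module.Projective A ((brGE F m).X i) := by
    intro i
    by_cases hi : m ≤ i
    · haveI := (hFf i).2
      exact Module.Projective.of_equiv (brGEEquiv F m i hi).symm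
    · have := ModuleCat.subsingleton_of_isZero (isZero_brGE F m i (by omega))
      infer_instance
  have hG : DRing.IsDerivedComplete I (Q.obj (X ⊗ brGE F m : Cx A)) :=
    isDerivedComplete_tensor_of_bounded I X (brGE F m) m c (by
      rintro i (hi | hi)
      · exact isZero_brGE F m i hi
      · exact isZero_brGE' F m i (hFc i hi)) hX
  have hflat₃ : ∀ j, Module.Flat A ((brLT F m).X j) := by
    intro j
    by_cases hj : j < m
    · haveI := (hFf j).2
      exact Module.Flat.of_linearEquiv (brLTEquiv F m j hj)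
    · have := ModuleCat.subsingleton_of_isZero (isZero_brLT F m j (by omega))
      infer_instance
  have hS := shortExact_whiskerLeft X (brSC F m) (brSC_shortExact F m) hflat₃
  have h₃ : ∀ k : ℤ, b + m ≤ k → (X ⊗ brLT F m : Cx A).ExactAt k :=
    exactAt_tensor_of_le X (brLT F m) b m hXb (fun j hj => isZero_brLT F m j hj) hflat₃
  have hmono : Mono (HomologicalComplex.homologyMap (X ◁ (brSC F m).f) n) :=
    mono_homologyMap_f hS (n - 1) n (by omega) (h₃ (n - 1) (by omega))
  have hepi : Epi (HomologicalComplex.homologyMap (X ◁ (brSC F m).f) n) :=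
    epi_homologyMap_f hS n (h₃ n (by omega))
  have hiso : IsIso (HomologicalComplex.homologyMap (X ◁ (brSC F m).f) n) :=
    isIso_of_mono_of_epi _
  have e₁ := ((homologyFunctorFactors (ModuleCat.{u} A) n).app (X ⊗ brGE F m : Cx A)).toLinearEquiv
  have e₂ := (asIso (HomologicalComplex.homologyMap (X ◁ (brSC F m).f) n)).toLinearEquiv
  have e₃ := ((homologyFunctorFactors (ModuleCat.{u} A) n).app (X ⊗ F : Cx A)).toLinearEquiv
  have h1 : SeqBij f (Dual.HD A (Q.obj (X ⊗ brGE F m : Cx A)) n) :=
    (isDerivedComplete_iff _ _).1 hG f hf n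
  exact seqBij_of_linearEquiv e₃.symm f
    (seqBij_of_linearEquiv e₂ f (seqBij_of_linearEquiv e₁ f h1))

end Main

section Univ

open Groth.Agent.Lib.Helper25.TensorKProj

/-- If precomposition with `Q g` is bijective on maps to derived complete objects, so is
precomposition with `Q (g ▷ F)`, for `F` K-projective and K-flat (complex version). -/
theorem bijective_precomp_whiskerRight₀ (I : Ideal A) (P P' F : Cx A) [P.IsKProjective]
    [P'.IsKProjective] [F.IsKProjective] (hF : IsKFlat F) (g : P ⟶ P')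
    (hg : ∀ E : Dual.D A, DRing.IsDerivedComplete I E →
      Function.Bijective (fun φ : Q.obj P' ⟶ E => Q.map g ≫ φ))
    (M : Cx A) (hM : DRing.IsDerivedComplete I (Q.obj M)) :
    Function.Bijective (fun ψ : Q.obj (P' ⊗ F : Cx A) ⟶ Q.obj M => Q.map (g ▷ F) ≫ ψ) := by
  haveI := isKProjective_tensor P F
  haveI := isKProjective_tensor P' F
  have hY := hg _ (isDerivedComplete_homCx I F M hF hM)
  constructor
  · intro ψ₁ ψ₂ h
    obtain ⟨f₁, rfl⟩ := exists_map_eq (P' ⊗ F : Cx A) _ ψ₁
    obtain ⟨f₂, rfl⟩ := exists_map_eq (P' ⊗ F : Cx A) _ ψ₂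
    have h0 : Q.map (g ▷ F) ≫ Q.map f₁ = Q.map (g ▷ F) ≫ Q.map f₂ := h
    have h' : Q.map ((g ▷ F) ≫ (f₁ - f₂)) = 0 := by
      rw [Functor.map_comp, Functor.map_sub, Preadditive.comp_sub]
      exact sub_eq_zero.2 h0
    -- `(g ▷ F) ≫ (f₁ - f₂) = uncurry (g ≫ curry (f₁ - f₂))`
    have h1 : (g ▷ F) ≫ (f₁ - f₂) = uncurry F (g ≫ curry F (f₁ - f₂)) := by
      rw [uncurry_naturality_left, uncurry_curry]
    rw [h1, Qmap_eq_zero_iff, ← nonempty_homotopy_zero_iff, ← Qmap_eq_zero_iff,
      Functor.map_comp] at h'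
    have h2 : Q.map (curry F (f₁ - f₂)) = 0 :=
      hY.injective (h'.trans comp_zero.symm)
    rw [Qmap_eq_zero_iff, nonempty_homotopy_zero_iff, uncurry_curry, ← Qmap_eq_zero_iff,
      Functor.map_sub] at h2
    exact sub_eq_zero.1 h2
  · intro θ
    obtain ⟨θ₀, rfl⟩ := exists_map_eq (P ⊗ F : Cx A) _ θ
    obtain ⟨ζ, hζ⟩ := hY.surjective (Q.map (curry F θ₀))
    obtain ⟨ζ₀, rfl⟩ := exists_map_eq P' _ ζ
    refine ⟨Q.map (uncurry F ζ₀), ?_⟩
    change Q.map (g ▷ F) ≫ Q.map (uncurry F ζ₀) = Q.map θ₀
    rw [← Functor.map_comp, ← uncurry_naturality_left]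
    have h0 : Q.map (g ≫ ζ₀ - curry F θ₀) = 0 := by
      rw [Functor.map_sub, Functor.map_comp]
      exact sub_eq_zero.2 hζ
    rw [Qmap_eq_zero_iff, nonempty_homotopy_zero_iff, ← Qmap_eq_zero_iff, uncurry_sub,
      uncurry_curry, Functor.map_sub] at h0
    exact sub_eq_zero.1 h0

theorem bijective_precomp_whiskerRight (I : Ideal A) (P P' F : Cx A) [P.IsKProjective]
    [P'.IsKProjective] [F.IsKProjective] (hF : IsKFlat F) (g : P ⟶ P')
    (hg : ∀ E : Dual.D A, DRing.IsDerivedComplete I E →
      Function.Bijective (fun φ : Q.obj P' ⟶ E => Q.map g ≫ φ))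
    (E : Dual.D A) (hE : DRing.IsDerivedComplete I E) :
    Function.Bijective (fun ψ : Q.obj (P' ⊗ F : Cx A) ⟶ E => Q.map (g ▷ F) ≫ ψ) := by
  let e : Q.obj (Q.objPreimage E) ≅ E := Q.objObjPreimageIso E
  have h := bijective_precomp_whiskerRight₀ I P P' F hF g hg (Q.objPreimage E)
    (isDerivedComplete_of_iso I e.symm hE)
  constructor
  · intro ψ₁ ψ₂ h12
    have h12' : Q.map (g ▷ F) ≫ ψ₁ = Q.map (g ▷ F) ≫ ψ₂ := h12
    have : ψ₁ ≫ e.inv = ψ₂ ≫ e.inv := by
      apply h.injective
      change Q.map (g ▷ F) ≫ ψ₁ ≫ e.inv = Q.map (g ▷ F) ≫ ψ₂ ≫ e.inv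
      rw [← Category.assoc, h12', Category.assoc]
    exact (cancel_mono e.inv).1 this
  · intro θ
    obtain ⟨ψ, hψ⟩ := h.surjective (θ ≫ e.inv)
    refine ⟨ψ ≫ e.hom, ?_⟩
    change Q.map (g ▷ F) ≫ ψ ≫ e.hom = θ
    have hψ' : Q.map (g ▷ F) ≫ ψ = θ ≫ e.inv := hψ
    rw [← Category.assoc, hψ', Category.assoc, Iso.inv_hom_id, Category.comp_id]

end Univ

end Groth.Agent.Lib.Helper25.DCompTensor
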