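import Groth.Agent.Lib.Helper25.DCompTensor
import Groth.Agent.Lib.Helper25.DCompAmp2
import Groth.Agent.Lib.Helper25.LTensorCxCompute

/-!
# Derived completion commutes with `- ⊗^L F` for `F` bounded above finite free (S7103)
-/

set_option autoImplicit false
universe u

open CategoryTheory CategoryTheory.Limits CategoryTheory.Pretriangulated DerivedCategory
open MonoidalCategory

attribute [local instance] HasDerivedCategory.standard

namespace Groth.Agent.Lib.Helper25.DCompTensor

open Groth.Agent.Lib.Helper25.TensorCx Groth.Agent.Lib.Helper25.KFlat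
open Groth.Agent.Lib.Helper25.DCompTri Groth.Agent.Lib.Helper25.DCompRefl
open Groth.Agent.Lib.Helper25.DCompExists Groth.Agent.Lib.Helper25.DCompAmp
open Groth.Agent.Lib.Helper25.DerAdj Groth.Agent.Lib.Helper25.LTensorCxCompute
open Groth.Agent.Lib.Helper84.DComp Groth.Agent.Lib.Helper84.FlatAmp

variable {A : Type u} [CommRing A]

section Refl

variable {C : Type*} [Category C]

theorem isRefl_of_sq {P : ObjectProperty C} {X X' Y Y' : C} (u : X ⟶ X') (v : Y ⟶ Y')
    (α : X' ≅ Y') (β : X ≅ Y) (h : u ≫ α.hom = β.hom ≫ v) (hu : IsRefl P u) : IsRefl P v := by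
  intro E hE
  have hb := hu E hE
  constructor
  · intro ψ₁ ψ₂ h12
    have h12' : v ≫ ψ₁ = v ≫ ψ₂ := h12
    have h1 : u ≫ (α.hom ≫ ψ₁) = u ≫ (α.hom ≫ ψ₂) := by
      rw [← Category.assoc, ← Category.assoc, h, Category.assoc, Category.assoc, h12']
    exact (cancel_epi α.hom).1 (hb.injective h1)
  · intro θ
    obtain ⟨φ, hφ⟩ := hb.surjective (β.hom ≫ θ)
    have hφ' : u ≫ φ = β.hom ≫ θ := hφ
    refine ⟨α.inv ≫ φ, ?_⟩
    change v ≫ α.inv ≫ φ = θ
    have h2 : v ≫ α.inv = β.inv ≫ u := by
      rw [← cancel_mono α.hom, Category.assoc, Category.assoc, Iso.inv_hom_id, Category.comp_id, h,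
        Iso.inv_hom_id_assoc]
    rw [← Category.assoc, h2, Category.assoc, hφ', Iso.inv_hom_id_assoc]

end Refl

/-- derived completion preserves vanishing of cohomology above a given degree -/
theorem isZero_homology_completion (I : Ideal A) (s : Finset A)
    (hs : Ideal.span (s : Set A) = I) [DRing.HasDerivedCompletion I] (K : Dual.D A) (i : ℤ)
    (h : ∀ j : ℤ, i ≤ j → j ≤ i + s.card →
      IsZero ((homologyFunctor (ModuleCat.{u} A) j).obj K)) :
    IsZero ((homologyFunctor (ModuleCat.{u} A) i).obj
      ((DRing.derivedCompletion I).obj K).obj) := by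
  obtain ⟨C, η, hC, hu, hamp⟩ := exists_finset' s K
  have hCP : DRing.IsDerivedComplete I C := by
    have := isDerivedComplete_of_orth s C hC
    rwa [hs] at this
  have hη : IsRefl (DRing.IsDerivedComplete I) η := by
    intro E hE
    exact hu E (fun f hf => hE f (by rw [← hs]; exact Ideal.subset_span hf))
  obtain ⟨iso⟩ := IsRefl.nonempty_iso (isRefl_unit _ (DRing.derivedCompletionAdj I) K) hη
    ((DRing.derivedCompletion I).obj K).property hCP
  exact IsZero.of_iso (hamp i h) ((homologyFunctor (ModuleCat.{u} A) i).mapIso iso)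

section Counit

variable (F : Cx A) [DRing.HasLTensorCx A F]

/-- for K-flat `F`, the counit `Q X ⊗^L F ⟶ Q (X ⊗ F)` is an isomorphism for every `X` -/
theorem isIso_counit_app (hF : IsKFlat F) (X : Cx A) : IsIso ((counit F).app X) := by
  obtain ⟨P, π, hP, hπ, hPf, -, -⟩ :=
    Groth.Agent.Lib.Helper15.KProjRes.exists_kprojective_resolution X
  haveI := hP
  have h1 : IsIso ((counit F).app P) := isIso_counit_app_of_isKProjective F P
  have nat := (counit F).naturality π
  have h2 : IsIso ((Q ⋙ DRing.LTensorCx A F).map π) := by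
    have e1 : IsIso (Q.map π) := by rw [isIso_Q_map_iff_quasiIso]; exact hπ
    dsimp only [Functor.comp_map]
    infer_instance
  have h3 : IsIso ((DRing.tensorCxQ A F).map π) := by
    change IsIso (Q.map (π ▷ F))
    rw [isIso_Q_map_iff_quasiIso]
    exact quasiIso_whiskerRight_of_isKFlat F hF π hπ
  have h4 : IsIso ((Q ⋙ DRing.LTensorCx A F).map π ≫ (counit F).app X) := by
    rw [nat]
    infer_instance
  exact IsIso.of_isIso_comp_left ((Q ⋙ DRing.LTensorCx A F).map π) _

end Counit

/-- S7103 -/
theorem aux7103 [IsNoetherianRing A] (I : Ideal A)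
    [DRing.HasDerivedCompletion I] (F : DRing.Cx A) (c : ℤ) (hFc : DRing.VanishesAbove F c)
    (hFf : DRing.TermwiseFiniteFree F) [DRing.HasLTensorCx A F]
    (K : Dual.D A) (b : ℤ) (hK : ∀ i : ℤ, b < i → Subsingleton (Dual.HD A K i)) :
    DRing.IsDerivedComplete I
        ((DRing.LTensorCx A F).obj ((DRing.derivedCompletion I).obj K).obj) ∧
      ∀ E : Dual.D A, DRing.IsDerivedComplete I E →
        Function.Bijective
          (fun φ : (DRing.LTensorCx A F).obj ((DRing.derivedCompletion I).obj K).obj ⟶ E =>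
            (DRing.LTensorCx A F).map (DRing.toDerivedCompletion I K) ≫ φ) := by
  classical
  obtain ⟨s, hs⟩ := (isNoetherianRing_iff_ideal_fg A).1 inferInstance I
  -- `F` is K-projective and K-flat
  haveI : F.IsKProjective :=
    Groth.Agent.Lib.Helper54.LDerived.isKProjective_of_vanishesAbove F c hFc (fun i => by
      haveI := (hFf i).2
      infer_instance)
  have hKF : IsKFlat F := isKFlat_of_boundedAbove_of_flat F c hFc (fun i => by
    haveI := (hFf i).2
    infer_instance)
  set T := DRing.LTensorCx A F with hT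
  set Kc : Dual.D A := ((DRing.derivedCompletion I).obj K).obj with hKc
  set η : K ⟶ Kc := DRing.toDerivedCompletion I K with hη
  -- resolutions
  obtain ⟨P, π, hP, hπ, -, -, -⟩ :=
    Groth.Agent.Lib.Helper15.KProjRes.exists_kprojective_resolution (Q.objPreimage K)
  obtain ⟨P', π', hP', hπ', -, -, -⟩ :=
    Groth.Agent.Lib.Helper15.KProjRes.exists_kprojective_resolution (Q.objPreimage Kc)
  haveI := hP
  haveI := hP'
  have : IsIso (Q.map π) := by rw [isIso_Q_map_iff_quasiIso]; exact hπ
  have : IsIso (Q.map π') := by rw [isIso_Q_map_iff_quasiIso]; exact hπ'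
  let eK : Q.obj P ≅ K := asIso (Q.map π) ≪≫ Q.objObjPreimageIso K
  let e' : Q.obj P' ≅ Kc := asIso (Q.map π') ≪≫ Q.objObjPreimageIso Kc
  obtain ⟨g, hg⟩ := exists_map_eq P P' (eK.hom ≫ η ≫ e'.inv)
  -- the counit isomorphisms
  have hcP : IsIso ((counit F).app P) := isIso_counit_app F hKF P
  have hcP' : IsIso ((counit F).app P') := isIso_counit_app F hKF P'
  let α : T.obj Kc ≅ Q.obj (P' ⊗ F : Cx A) := T.mapIso e'.symm ≪≫ asIso ((counit F).app P')
  let β : T.obj K ≅ Q.obj (P ⊗ F : Cx A) := T.mapIso eK.symm ≪≫ asIso ((counit F).app P)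
  have hsq : T.map η ≫ α.hom = β.hom ≫ Q.map (g ▷ F) := by
    have nat : T.map (Q.map g) ≫ (counit F).app P' = (counit F).app P ≫ Q.map (g ▷ F) :=
      (counit F).naturality g
    have h1 : η ≫ e'.inv = eK.inv ≫ Q.map g := by
      rw [hg, Iso.inv_hom_id_assoc]
    change T.map η ≫ T.map e'.inv ≫ (counit F).app P' =
      (T.map eK.inv ≫ (counit F).app P) ≫ Q.map (g ▷ F)
    rw [← Functor.map_comp_assoc, h1, Functor.map_comp, Category.assoc, nat, Category.assoc]
  -- `Q g` is a reflection arrow
  have hrefl : IsRefl (DRing.IsDerivedComplete I) (Q.map g) := by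
    refine isRefl_of_sq η (Q.map g) e'.symm eK.symm ?_
      (isRefl_unit _ (DRing.derivedCompletionAdj I) K)
    change η ≫ e'.inv = eK.inv ≫ Q.map g
    rw [hg, Iso.inv_hom_id_assoc]
  constructor
  · -- derived completeness
    have hX : DRing.IsDerivedComplete I (Q.obj P') :=
      isDerivedComplete_of_iso I e'.symm ((DRing.derivedCompletion I).obj K).property
    have hXb : ∀ i : ℤ, b < i → P'.ExactAt i := by
      intro i hi
      have hz : IsZero ((homologyFunctor (ModuleCat.{u} A) i).obj Kc) :=
        isZero_homology_completion I s hs K i (fun j hj _ =>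
          @ModuleCat.isZero_of_subsingleton _ _ _ (hK j (by omega)))
      exact exactAt_of_subsingleton_HD _ i (subsingleton_HD_of_iso e'.symm i
        (ModuleCat.subsingleton_of_isZero hz))
    have h1 := isDerivedComplete_tensor I P' F b c hXb hX hFc hFf
    exact isDerivedComplete_of_iso I α.symm h1
  · -- universal property
    have h2 : IsRefl (DRing.IsDerivedComplete I) (Q.map (g ▷ F)) :=
      fun E hE => bijective_precomp_whiskerRight I P P' F hKF g hrefl E hE
    have h3 : IsRefl (DRing.IsDerivedComplete I) (T.map η) :=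
      isRefl_of_sq (Q.map (g ▷ F)) (T.map η) α.symm β.symm (by
        change Q.map (g ▷ F) ≫ α.inv = β.inv ≫ T.map η
        rw [← cancel_mono α.hom, Category.assoc, Category.assoc, Iso.inv_hom_id, Category.comp_id,
          hsq, Iso.inv_hom_id_assoc]) h2
    exact h3

end Groth.Agent.Lib.Helper25.DCompTensor
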