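import Groth.Agent.Lib.Helper25.DCompTensor2
import Groth.Agent.Lib.Helper25.SingleTensor
import Groth.Agent.Lib.Helper43.FlatFPPC

/-!
# Derived completion commutes with `- ⊗^L M` for `M` finite over a Noetherian ring (S7095)
-/

set_option autoImplicit false
universe u

open CategoryTheory CategoryTheory.Limits CategoryTheory.Pretriangulated DerivedCategory
open MonoidalCategory

attribute [local instance] HasDerivedCategory.standard

namespace Groth.Agent.Lib.Helper25.DCompTensor

open Groth.Agent.Lib.Helper25.TensorCx Groth.Agent.Lib.Helper25.KFlat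
open Groth.Agent.Lib.Helper25.DCompTri Groth.Agent.Lib.Helper25.DCompRefl
open Groth.Agent.Lib.Helper25.DCompExists Groth.Agent.Lib.Helper25.DCompAmp
open Groth.Agent.Lib.Helper25.DerAdj Groth.Agent.Lib.Helper25.SingleTensor
open Groth.Agent.Lib.Helper84.DComp Groth.Agent.Lib.Helper84.FlatAmp
open Groth.Agent.Lib.Helper84.TensCx Groth.Agent.Lib.Helper15

variable {A : Type u} [CommRing A]

/-- the core of S7103/S7095, for a functor `T` modelled by `- ⊗ F` on two resolutions -/
theorem core (I : Ideal A) (s : Finset A) (hs : Ideal.span (s : Set A) = I)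
    [DRing.HasDerivedCompletion I] (F : Cx A) (c : ℤ) (hFc : DRing.VanishesAbove F c)
    (hFf : DRing.TermwiseFiniteFree F) (K : Dual.D A) (b : ℤ)
    (hK : ∀ i : ℤ, b < i → Subsingleton (Dual.HD A K i)) (T : Dual.D A ⥤ Dual.D A)
    (P P' : Cx A) [P.IsKProjective] [P'.IsKProjective] (eK : Q.obj P ≅ K)
    (e' : Q.obj P' ≅ ((DRing.derivedCompletion I).obj K).obj) (g : P ⟶ P')
    (hg : Q.map g = eK.hom ≫ DRing.toDerivedCompletion I K ≫ e'.inv)
    (α : T.obj ((DRing.derivedCompletion I).obj K).obj ≅ Q.obj (P' ⊗ F : Cx A))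
    (β : T.obj K ≅ Q.obj (P ⊗ F : Cx A))
    (hsq : T.map (DRing.toDerivedCompletion I K) ≫ α.hom = β.hom ≫ Q.map (g ▷ F)) :
    DRing.IsDerivedComplete I (T.obj ((DRing.derivedCompletion I).obj K).obj) ∧
      ∀ E : Dual.D A, DRing.IsDerivedComplete I E →
        Function.Bijective
          (fun φ : T.obj ((DRing.derivedCompletion I).obj K).obj ⟶ E =>
            T.map (DRing.toDerivedCompletion I K) ≫ φ) := by
  haveI : F.IsKProjective :=
    Groth.Agent.Lib.Helper54.LDerived.isKProjective_of_vanishesAbove F c hFc (fun i => by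
      haveI := (hFf i).2
      infer_instance)
  have hKF : IsKFlat F := isKFlat_of_boundedAbove_of_flat F c hFc (fun i => by
    haveI := (hFf i).2
    infer_instance)
  have hrefl : IsRefl (DRing.IsDerivedComplete I) (Q.map g) := by
    refine isRefl_of_sq (DRing.toDerivedCompletion I K) (Q.map g) e'.symm eK.symm ?_
      (isRefl_unit _ (DRing.derivedCompletionAdj I) K)
    change DRing.toDerivedCompletion I K ≫ e'.inv = eK.inv ≫ Q.map g
    rw [hg, Iso.inv_hom_id_assoc]
  constructor
  · have hX : DRing.IsDerivedComplete I (Q.obj P') :=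
      isDerivedComplete_of_iso I e'.symm ((DRing.derivedCompletion I).obj K).property
    have hXb : ∀ i : ℤ, b < i → P'.ExactAt i := by
      intro i hi
      have hz : IsZero ((homologyFunctor (ModuleCat.{u} A) i).obj
          ((DRing.derivedCompletion I).obj K).obj) :=
        isZero_homology_completion I s hs K i (fun j hj _ =>
          @ModuleCat.isZero_of_subsingleton _ _ _ (hK j (by omega)))
      exact exactAt_of_subsingleton_HD _ i (subsingleton_HD_of_iso e'.symm i
        (ModuleCat.subsingleton_of_isZero hz))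
    have h1 := isDerivedComplete_tensor I P' F b c hXb hX hFc hFf
    exact isDerivedComplete_of_iso I α.symm h1
  · have h2 : IsRefl (DRing.IsDerivedComplete I) (Q.map (g ▷ F)) :=
      fun E hE => bijective_precomp_whiskerRight I P P' F hKF g hrefl E hE
    have h3 : IsRefl (DRing.IsDerivedComplete I) (T.map (DRing.toDerivedCompletion I K)) :=
      isRefl_of_sq (Q.map (g ▷ F)) (T.map (DRing.toDerivedCompletion I K)) α.symm β.symm (by
        change Q.map (g ▷ F) ≫ α.inv = β.inv ≫ T.map (DRing.toDerivedCompletion I K)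
        rw [← cancel_mono α.hom, Category.assoc, Category.assoc, Iso.inv_hom_id, Category.comp_id,
          hsq, Iso.inv_hom_id_assoc]) h2
    exact h3

section Bridge

variable (M : ModuleCat.{u} A) {F : Cx A} (f : F ⟶ sgl M)

/-- `P ⊗ F ⟶ M[0] ⊗ P` -/
noncomputable def bridgeA (P : Cx A) : (P ⊗ F : Cx A) ⟶ (sgl M ⊗ P : Cx A) :=
  (braid P F).hom ≫ (f ▷ P)

/-- `P ⊗ M ≅ M[0] ⊗ P` (termwise tensor product on the left) -/
noncomputable def bridgeB (P : Cx A) : LDerived.tensorCx A M P ≅ (sgl M ⊗ P : Cx A) :=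
  tensRightIso M P ≪≫ singleTensorIso M P

theorem bridgeA_naturality {P P' : Cx A} (g : P ⟶ P') :
    (g ▷ F) ≫ bridgeA M f P' = bridgeA M f P ≫ (sgl M ◁ g) := by
  unfold bridgeA
  rw [← Category.assoc, braid_whiskerRight, Category.assoc, Category.assoc, whisker_exchange]

theorem singleTensorIso_naturality {P P' : Cx A} (g : P ⟶ P') :
    (tens M).map g ≫ (singleTensorIso M P').hom = (singleTensorIso M P).hom ≫ (sgl M ◁ g) := by
  apply HomologicalComplex.hom_ext
  intro n
  apply ModuleCat.hom_ext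
  apply TensorProduct.ext'
  intro m k
  change inS M P' n (m ⊗ₜ[A] (g.f n k)) =
    (sgl M ◁ g : (sgl M ⊗ P : Cx A) ⟶ sgl M ⊗ P').f n (inS M P n (m ⊗ₜ[A] k))
  rw [inS_tmul, inS_tmul]
  exact (whiskerLeft_tm (sgl M) g 0 n n (zero_add n) _ k).symm

theorem tensRightIso_naturality {P P' : Cx A} (g : P ⟶ P') :
    ((MonoidalCategory.tensorRight M).mapHomologicalComplex (ComplexShape.up ℤ)).map g ≫
      (tensRightIso M P').hom = (tensRightIso M P).hom ≫ (tens M).map g := by
  apply HomologicalComplex.hom_ext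
  intro n
  exact BraidedCategory.braiding_naturality_left (g.f n) M

theorem bridgeB_naturality {P P' : Cx A} (g : P ⟶ P') :
    ((MonoidalCategory.tensorRight M).mapHomologicalComplex (ComplexShape.up ℤ)).map g ≫
      (bridgeB M P').hom = (bridgeB M P).hom ≫ (sgl M ◁ g) := by
  unfold bridgeB
  simp only [Iso.trans_hom]
  rw [← Category.assoc, tensRightIso_naturality, Category.assoc, singleTensorIso_naturality,
    Category.assoc]

theorem quasiIso_bridgeA (hf : QuasiIso f) (P : Cx A) (hP : IsKFlat P) :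
    QuasiIso (bridgeA M f P) := by
  have : QuasiIso (f ▷ P) := quasiIso_whiskerRight_of_isKFlat P hP f hf
  unfold bridgeA
  infer_instance

end Bridge

/-- S7095 -/
theorem aux7095 [IsNoetherianRing A] (I : Ideal A)
    [DRing.HasDerivedCompletion I] (M : Type u) [AddCommGroup M] [Module A M] [Module.Finite A M]
    [DRing.HasLTensor A (ModuleCat.of A M)] (K : Dual.D A) (b : ℤ)
    (hK : ∀ i : ℤ, b < i → Subsingleton (Dual.HD A K i)) :
    DRing.IsDerivedComplete I
        ((DRing.LTensor A (ModuleCat.of A M)).obj ((DRing.derivedCompletion I).obj K).obj) ∧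
      ∀ E : Dual.D A, DRing.IsDerivedComplete I E →
        Function.Bijective
          (fun φ : (DRing.LTensor A (ModuleCat.of A M)).obj
              ((DRing.derivedCompletion I).obj K).obj ⟶ E =>
            (DRing.LTensor A (ModuleCat.of A M)).map (DRing.toDerivedCompletion I K) ≫ φ) := by
  classical
  obtain ⟨s, hs⟩ := (isNoetherianRing_iff_ideal_fg A).1 inferInstance I
  -- a finite free resolution of `M`
  obtain ⟨F, c, hFc, hFf, ⟨eF⟩⟩ :=
    Groth.Agent.Lib.Helper43.FlatFPPC.isPseudoCoherentModule'_of_finite A M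
  haveI : F.IsKProjective :=
    Groth.Agent.Lib.Helper54.LDerived.isKProjective_of_vanishesAbove F c hFc (fun i => by
      haveI := (hFf i).2
      infer_instance)
  let eF' : Q.obj F ≅ Q.obj (sgl (ModuleCat.of A M)) :=
    eF ≪≫ (DerivedCategory.singleFunctorIsoCompQ (ModuleCat.{u} A) 0).app (ModuleCat.of A M)
  obtain ⟨f, hf⟩ := exists_map_eq F (sgl (ModuleCat.of A M)) eF'.hom
  have hfq : QuasiIso f := by
    rw [← isIso_Q_map_iff_quasiIso, hf]
    infer_instance
  set T := DRing.LTensor A (ModuleCat.of A M) with hT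
  set Kc : Dual.D A := ((DRing.derivedCompletion I).obj K).obj with hKc
  set η : K ⟶ Kc := DRing.toDerivedCompletion I K with hη
  obtain ⟨P, π, hP, hπ, hPf, -, -⟩ :=
    Groth.Agent.Lib.Helper15.KProjRes.exists_kprojective_resolution (Q.objPreimage K)
  obtain ⟨P', π', hP', hπ', hPf', -, -⟩ :=
    Groth.Agent.Lib.Helper15.KProjRes.exists_kprojective_resolution (Q.objPreimage Kc)
  haveI := hP
  haveI := hP'
  have : IsIso (Q.map π) := by rw [isIso_Q_map_iff_quasiIso]; exact hπ
  have : IsIso (Q.map π') := by rw [isIso_Q_map_iff_quasiIso]; exact hπ'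
  let eK : Q.obj P ≅ K := asIso (Q.map π) ≪≫ Q.objObjPreimageIso K
  let e' : Q.obj P' ≅ Kc := asIso (Q.map π') ≪≫ Q.objObjPreimageIso Kc
  obtain ⟨g, hg⟩ := exists_map_eq P P' (eK.hom ≫ η ≫ e'.inv)
  have hA : IsIso (Q.map (bridgeA (ModuleCat.of A M) f P)) := by
    rw [isIso_Q_map_iff_quasiIso]
    exact quasiIso_bridgeA _ f hfq P hPf
  have hA' : IsIso (Q.map (bridgeA (ModuleCat.of A M) f P')) := by
    rw [isIso_Q_map_iff_quasiIso]
    exact quasiIso_bridgeA _ f hfq P' hPf'
  let θ : ∀ (X : Cx A) [X.IsKProjective], IsIso (Q.map (bridgeA (ModuleCat.of A M) f X)) →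
      (T.obj (Q.obj X) ≅ Q.obj (X ⊗ F : Cx A)) := fun X _ h =>
    LDerived.ltIso A (ModuleCat.of A M) X ≪≫ Q.mapIso (bridgeB (ModuleCat.of A M) X) ≪≫
      (@asIso _ _ _ _ (Q.map (bridgeA (ModuleCat.of A M) f X)) h).symm
  let α : T.obj Kc ≅ Q.obj (P' ⊗ F : Cx A) := T.mapIso e'.symm ≪≫ θ P' hA'
  let β : T.obj K ≅ Q.obj (P ⊗ F : Cx A) := T.mapIso eK.symm ≪≫ θ P hA
  refine core I s hs F c hFc hFf K b hK T P P' eK e' g hg α β ?_
  have h1 : η ≫ e'.inv = eK.inv ≫ Q.map g := by
    rw [hg, Iso.inv_hom_id_assoc]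
  have n1 := LDerived.ltMap_naturality A (ModuleCat.of A M) g
  have n2 : Q.map (((MonoidalCategory.tensorRight (ModuleCat.of A M)).mapHomologicalComplex
      (ComplexShape.up ℤ)).map g) ≫ Q.map (bridgeB (ModuleCat.of A M) P').hom =
      Q.map (bridgeB (ModuleCat.of A M) P).hom ≫ Q.map (sgl (ModuleCat.of A M) ◁ g) := by
    rw [← Functor.map_comp, ← Functor.map_comp, bridgeB_naturality]
  have n3 : Q.map (sgl (ModuleCat.of A M) ◁ g) ≫ inv (Q.map (bridgeA (ModuleCat.of A M) f P')) =
      inv (Q.map (bridgeA (ModuleCat.of A M) f P)) ≫ Q.map (g ▷ F) := by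
    rw [IsIso.comp_inv_eq, Category.assoc, ← Functor.map_comp (Q) (g ▷ F), bridgeA_naturality,
      Functor.map_comp, IsIso.inv_hom_id_assoc]
  change T.map η ≫ T.map e'.inv ≫ LDerived.ltMap A (ModuleCat.of A M) P' ≫
      Q.map (bridgeB (ModuleCat.of A M) P').hom ≫
        inv (Q.map (bridgeA (ModuleCat.of A M) f P')) =
    (T.map eK.inv ≫ LDerived.ltMap A (ModuleCat.of A M) P ≫
      Q.map (bridgeB (ModuleCat.of A M) P).hom ≫
        inv (Q.map (bridgeA (ModuleCat.of A M) f P))) ≫ Q.map (g ▷ F)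
  rw [← Functor.map_comp_assoc, h1, Functor.map_comp_assoc, reassoc_of% n1, reassoc_of% n2, n3]
  simp only [Category.assoc]

end Groth.Agent.Lib.Helper25.DCompTensor
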