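import Groth.Agent.Lib.Helper84.NilLT
import Groth.Agent.Lib.Helper84.DComp
import Groth.Agent.Lib.Helper84.DCompAlg
import Groth.Agent.Lib.Helper25.DCompAmp2

/-!
# Derived Nakayama (S7055, S7056)

Induction on the generators of the ideal: for a termwise flat complex `P` whose image in `D(A)`
is derived complete with respect to `(s)`, if `N ⊗ P` is exact above `b` for all modules `N`
killed by `s`, then `P` is exact above `b`.
-/

set_option autoImplicit false
universe u

open CategoryTheory CategoryTheory.Limits CategoryTheory.Pretriangulated DerivedCategory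
open DRing MonoidalCategory

attribute [local instance] HasDerivedCategory.standard

namespace Groth.Agent.Lib.Helper25.DNak

open Groth.Agent.Lib.Helper84 Groth.Agent.Lib.Helper84.TensCx Groth.Agent.Lib.Helper84.NilTorAmp
open Groth.Agent.Lib.Helper84.DCompAlg Groth.Agent.Lib.Helper84.DComp
open Groth.Agent.Lib.Helper25.DCompAmp

variable {A : Type u} [CommRing A]

/-- `N ⊗ P` is exact above `b` for all modules `N` killed by `s` -/
def TorVanS (P : Cx A) (s : Finset A) (b : ℤ) : Prop :=
  ∀ N : ModuleCat.{u} A, (∀ a ∈ s, ∀ x : N, a • x = 0) → ∀ i : ℤ, b < i →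
    ((tens N).obj P).ExactAt i

/-- the unit isomorphism `A ⊗ P ≅ P` -/
noncomputable def tensUnitIso (P : Cx A) : (tens (𝟙_ (ModuleCat.{u} A))).obj P ≅ P :=
  HomologicalComplex.Hom.isoOfComponents (fun i => λ_ (P.X i)) (by
    intro i j _
    exact (leftUnitor_naturality (P.d i j)).symm)

/-- the short exact sequence of complexes obtained by tensoring a short exact sequence of modules
with a termwise flat complex -/
noncomputable abbrev tensSC (S : ShortComplex (ModuleCat.{u} A)) (P : Cx A) : ShortComplex (Cx A) :=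
  ShortComplex.mk (tensMap S.f P) (tensMap S.g P) (by
    apply HomologicalComplex.hom_ext
    intro j
    have : (S.f ▷ P.X j) ≫ (S.g ▷ P.X j) = 0 := by
      rw [← comp_whiskerRight, S.zero]
      simp
    exact this)

theorem tensSC_shortExact {P : Cx A} (hP : TermwiseFlat P) (S : ShortComplex (ModuleCat.{u} A))
    (hS : S.ShortExact) : (tensSC S P).ShortExact := by
  apply HomologicalComplex.shortExact_of_degreewise_shortExact
  intro j
  have := hP j
  have hinj : Function.Injective S.f.hom := (ModuleCat.mono_iff_injective _).1 hS.mono_f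
  have hsurj : Function.Surjective S.g.hom := (ModuleCat.epi_iff_surjective _).1 hS.epi_g
  have hex : Function.Exact S.f.hom S.g.hom :=
    (ShortComplex.ShortExact.moduleCat_exact_iff_function_exact S).1 hS.exact
  exact ModuleCat.shortComplex_shortExact _
    (show Function.Exact (S.f.hom.rTensor (P.X j)) (S.g.hom.rTensor (P.X j)) from
      rTensor_exact (P.X j) hex hsurj)
    (Module.Flat.rTensor_preserves_injective_linearMap S.f.hom hinj)
    (LinearMap.rTensor_surjective (P.X j) hsurj)

section SES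

variable {S : ShortComplex (Cx A)} (hS : S.ShortExact)

include hS

theorem mono_homologyMap_g (i : ℤ) (h : S.X₁.ExactAt i) :
    Mono (HomologicalComplex.homologyMap S.g i) := by
  have hex := hS.homology_exact₂ i
  rw [HomologicalComplex.exactAt_iff_isZero_homology] at h
  exact hex.mono_g (h.eq_of_src _ _)

theorem epi_homologyMap_g (i j : ℤ) (hij : i + 1 = j) (h : S.X₁.ExactAt j) :
    Epi (HomologicalComplex.homologyMap S.g i) := by
  have hex := hS.homology_exact₃ i j hij
  rw [HomologicalComplex.exactAt_iff_isZero_homology] at h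
  exact hex.epi_f (h.eq_of_tgt _ _)

theorem epi_homologyMap_f (i : ℤ) (h : S.X₃.ExactAt i) :
    Epi (HomologicalComplex.homologyMap S.f i) := by
  have hex := hS.homology_exact₂ i
  rw [HomologicalComplex.exactAt_iff_isZero_homology] at h
  exact hex.epi_f (h.eq_of_tgt _ _)

theorem mono_homologyMap_f (i j : ℤ) (hij : i + 1 = j) (h : S.X₃.ExactAt i) :
    Mono (HomologicalComplex.homologyMap S.f j) := by
  have hex := hS.homology_exact₁ i j hij
  rw [HomologicalComplex.exactAt_iff_isZero_homology] at h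
  exact hex.mono_g (h.eq_of_src _ _)

end SES

section Cone

variable {X Y : Cx A} (ψ : X ⟶ Y)

theorem epi_iff_of_sq {C : Type*} [Category C] {X₁ X₂ Y₁ Y₂ : C} (a : X₁ ⟶ X₂) (b : Y₁ ⟶ Y₂)
    (c : X₁ ⟶ Y₁) (d : X₂ ⟶ Y₂) [IsIso a] [IsIso b] (h : c ≫ b = a ≫ d) : Epi c ↔ Epi d := by
  constructor
  · intro hc
    have h1 : Epi (a ≫ d) := by rw [← h]; exact epi_comp c b
    exact epi_of_epi a d
  · intro hd
    have h1 : Epi (c ≫ b) := by rw [h]; exact epi_comp a d
    have h2 : c = (c ≫ b) ≫ inv b := by simp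
    rw [h2]; exact epi_comp (c ≫ b) (inv b)

theorem mono_iff_of_sq {C : Type*} [Category C] {X₁ X₂ Y₁ Y₂ : C} (a : X₁ ⟶ X₂) (b : Y₁ ⟶ Y₂)
    (c : X₁ ⟶ Y₁) (d : X₂ ⟶ Y₂) [IsIso a] [IsIso b] (h : c ≫ b = a ≫ d) : Mono c ↔ Mono d := by
  constructor
  · intro hc
    have h1 : Mono (a ≫ d) := by rw [← h]; exact mono_comp c b
    have h2 : d = inv a ≫ (a ≫ d) := by simp
    rw [h2]; exact mono_comp (inv a) (a ≫ d)
  · intro hd
    have h1 : Mono (c ≫ b) := by rw [h]; exact mono_comp a d
    exact mono_of_mono c b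

theorem epi_Q_iff (i : ℤ) :
    Epi ((homologyFunctor (ModuleCat.{u} A) i).map (Q.map ψ)) ↔
      Epi (HomologicalComplex.homologyMap ψ i) :=
  epi_iff_of_sq ((homologyFunctorFactors (ModuleCat.{u} A) i).hom.app X)
    ((homologyFunctorFactors (ModuleCat.{u} A) i).hom.app Y) _ _
    ((homologyFunctorFactors (ModuleCat.{u} A) i).hom.naturality ψ)

theorem mono_Q_iff (i : ℤ) :
    Mono ((homologyFunctor (ModuleCat.{u} A) i).map (Q.map ψ)) ↔
      Mono (HomologicalComplex.homologyMap ψ i) :=
  mono_iff_of_sq ((homologyFunctorFactors (ModuleCat.{u} A) i).hom.app X)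
    ((homologyFunctorFactors (ModuleCat.{u} A) i).hom.app Y) _ _
    ((homologyFunctorFactors (ModuleCat.{u} A) i).hom.naturality ψ)

/-- the cone is exact at `i` if `H^i(ψ)` is epi and `H^{i+1}(ψ)` is mono -/
theorem exactAt_mappingCone (i : ℤ) (h1 : Epi (HomologicalComplex.homologyMap ψ i))
    (h2 : Mono (HomologicalComplex.homologyMap ψ (i + 1))) :
    (CochainComplex.mappingCone ψ).ExactAt i := by
  have hT := mappingCone_triangle_distinguished ψ
  rw [HomologicalComplex.exactAt_iff_isZero_homology]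
  refine IsZero.of_iso (isZero_homology_obj₃ _ hT i (i + 1) rfl ?_ ?_)
    ((homologyFunctorFactors (ModuleCat.{u} A) i).app _).symm
  · exact (epi_Q_iff ψ i).2 h1
  · exact (mono_Q_iff ψ (i + 1)).2 h2

/-- if the cone is exact at `i` then `H^i(ψ)` is epi -/
theorem epi_of_exactAt_mappingCone (i : ℤ) (h : (CochainComplex.mappingCone ψ).ExactAt i) :
    Epi (HomologicalComplex.homologyMap ψ i) := by
  have hT := mappingCone_triangle_distinguished ψ
  rw [HomologicalComplex.exactAt_iff_isZero_homology] at h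
  rw [← epi_Q_iff]
  exact (epi_mono_of_isZero_homology_obj₃ _ hT i (i + 1) rfl
    (IsZero.of_iso h ((homologyFunctorFactors (ModuleCat.{u} A) i).app _))).1

end Cone

section Main

theorem tensMap_comp {N₁ N₂ N₃ : ModuleCat.{u} A} (u : N₁ ⟶ N₂) (v : N₂ ⟶ N₃) (P : Cx A) :
    tensMap (u ≫ v) P = tensMap u P ≫ tensMap v P := by
  apply HomologicalComplex.hom_ext
  intro j
  exact comp_whiskerRight u v (P.X j)

theorem tens_map_smul (N : ModuleCat.{u} A) (P : Cx A) (f : A) :
    (tens N).map (f • 𝟙 P) = tensMap (f • 𝟙 N) P := by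
  apply HomologicalComplex.hom_ext
  intro j
  change N ◁ ((f • 𝟙 P : P ⟶ P).f j) = (f • 𝟙 N) ▷ P.X j
  rw [HomologicalComplex.smul_f_apply, HomologicalComplex.id_f, MonoidalLinear.whiskerLeft_smul,
    MonoidalLinear.smul_whiskerRight, whiskerLeft_id, id_whiskerRight]

theorem homologyMap_smul_id (P : Cx A) (f : A) (i : ℤ) :
    HomologicalComplex.homologyMap (f • 𝟙 P) i = f • 𝟙 (P.homology i) := by
  have h : (HomologicalComplex.shortComplexFunctor (ModuleCat.{u} A) (ComplexShape.up ℤ) i).map
      (f • 𝟙 P) = f • 𝟙 (P.sc i) := by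
    ext x <;> rfl
  change ShortComplex.homologyMap _ = _
  rw [h, ShortComplex.homologyMap_smul, ShortComplex.homologyMap_id]
  rfl

/-- the kernel/image/cokernel sequences of multiplication by `f` on a module -/
noncomputable def smulLin (N : ModuleCat.{u} A) (f : A) : N →ₗ[A] N := LinearMap.lsmul A N f

noncomputable abbrev sc₁ (N : ModuleCat.{u} A) (f : A) : ShortComplex (ModuleCat.{u} A) :=
  ModuleCat.shortComplexOfCompEqZero (LinearMap.ker (smulLin N f)).subtype
    (smulLin N f).rangeRestrict (by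
      ext x
      exact LinearMap.mem_ker.1 x.2)

noncomputable abbrev sc₂ (N : ModuleCat.{u} A) (f : A) : ShortComplex (ModuleCat.{u} A) :=
  ModuleCat.shortComplexOfCompEqZero (LinearMap.range (smulLin N f)).subtype
    (LinearMap.range (smulLin N f)).mkQ (by ext x; simp)

theorem sc₁_shortExact (N : ModuleCat.{u} A) (f : A) : (sc₁ N f).ShortExact := by
  refine ModuleCat.shortComplex_shortExact _ ?_ (Submodule.subtype_injective _)
    (LinearMap.surjective_rangeRestrict _)
  change Function.Exact (LinearMap.ker (smulLin N f)).subtype (smulLin N f).rangeRestrict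
  intro y
  constructor
  · intro hy
    have : (smulLin N f) y = 0 := congrArg Subtype.val hy
    exact ⟨⟨y, this⟩, rfl⟩
  · rintro ⟨x, rfl⟩
    apply Subtype.ext
    exact x.2

theorem sc₂_shortExact (N : ModuleCat.{u} A) (f : A) : (sc₂ N f).ShortExact :=
  ModuleCat.shortComplex_shortExact _ (LinearMap.exact_subtype_mkQ _)
    (Submodule.subtype_injective _) (Submodule.mkQ_surjective _)

theorem sc_comp (N : ModuleCat.{u} A) (f : A) : (sc₁ N f).g ≫ (sc₂ N f).f = f • 𝟙 N := by
  ext x
  rfl

theorem isDerivedComplete_mono {I J : Ideal A} (h : I ≤ J) {K : Dual.D A}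
    (hK : DRing.IsDerivedComplete J K) : DRing.IsDerivedComplete I K :=
  fun f hf n => hK f (h hf) n

/-- the key step: if `N` is killed by `s'` and `N' ⊗ P` is exact above `b` for `N'` killed by
`insert f s'`, then `N ⊗ cone(f : P → P)` is exact above `b`. -/
theorem exactAt_tens_cone {P : Cx A} (hP : TermwiseFlat P) (f : A) (s' : Finset A) (b : ℤ)
    [DecidableEq A]
    (hT : TorVanS P (insert f s') b) (N : ModuleCat.{u} A)
    (hN : ∀ a ∈ s', ∀ x : N, a • x = 0) (i : ℤ) (hi : b < i) :
    ((tens N).obj (CochainComplex.mappingCone (f • 𝟙 P))).ExactAt i := by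
  rw [_root_.exactAt_iff_of_quasiIsoAt
    (CochainComplex.mappingCone.mapHomologicalComplexIso (f • 𝟙 P) (tensorLeft N)).hom i]
  have hS₁ := tensSC_shortExact hP _ (sc₁_shortExact N f)
  have hS₂ := tensSC_shortExact hP _ (sc₂_shortExact N f)
  -- the kernel and the cokernel are killed by `insert f s'`
  have hker : ∀ a ∈ insert f s', ∀ x : (sc₁ N f).X₁, a • x = 0 := by
    intro a ha x
    rcases Finset.mem_insert.1 ha with rfl | ha'
    · apply Subtype.ext
      exact LinearMap.mem_ker.1 x.2
    · apply Subtype.ext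
      exact hN a ha' x.1
  have hcoker : ∀ a ∈ insert f s', ∀ x : (sc₂ N f).X₃, a • x = 0 := by
    intro a ha x
    obtain ⟨y, rfl⟩ := Submodule.mkQ_surjective _ x
    rcases Finset.mem_insert.1 ha with rfl | ha'
    · rw [← map_smul, Submodule.mkQ_apply, Submodule.Quotient.mk_eq_zero]
      exact ⟨y, rfl⟩
    · rw [← map_smul, hN a ha' y, map_zero]
  have h₁ : ∀ j, b < j → ((tensSC (sc₁ N f) P).X₁).ExactAt j := fun j hj => hT _ hker j hj
  have h₃ : ∀ j, b < j → ((tensSC (sc₂ N f) P).X₃).ExactAt j := fun j hj => hT _ hcoker j hj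
  have hfac : (tens N).map (f • 𝟙 P) = tensMap (sc₁ N f).g P ≫ tensMap (sc₂ N f).f P := by
    rw [tens_map_smul, ← sc_comp, tensMap_comp]
  have hfac' : ∀ j, HomologicalComplex.homologyMap ((tens N).map (f • 𝟙 P)) j =
      HomologicalComplex.homologyMap (tensMap (sc₁ N f).g P) j ≫
        HomologicalComplex.homologyMap (tensMap (sc₂ N f).f P) j := by
    intro j
    rw [hfac, HomologicalComplex.homologyMap_comp]
  apply exactAt_mappingCone
  · rw [hfac']
    have e1 : Epi (HomologicalComplex.homologyMap (tensMap (sc₁ N f).g P) i) :=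
      epi_homologyMap_g hS₁ i (i + 1) rfl (h₁ (i + 1) (by omega))
    have e2 : Epi (HomologicalComplex.homologyMap (tensMap (sc₂ N f).f P) i) :=
      epi_homologyMap_f hS₂ i (h₃ i hi)
    exact epi_comp _ _
  · rw [hfac']
    have m1 : Mono (HomologicalComplex.homologyMap (tensMap (sc₁ N f).g P) (i + 1)) :=
      mono_homologyMap_g hS₁ (i + 1) (h₁ (i + 1) (by omega))
    have m2 : Mono (HomologicalComplex.homologyMap (tensMap (sc₂ N f).f P) (i + 1)) :=
      mono_homologyMap_f hS₂ i (i + 1) rfl (h₃ i hi)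
    exact mono_comp _ _

theorem main [DecidableEq A] (s : Finset A) : ∀ (P : Cx A) (b : ℤ), TermwiseFlat P →
    DRing.IsDerivedComplete (Ideal.span (s : Set A)) (Q.obj P) → TorVanS P s b →
    ∀ i : ℤ, b < i → P.ExactAt i := by
  induction s using Finset.induction_on with
  | empty =>
    intro P b _ _ hT i hi
    have := hT (𝟙_ (ModuleCat.{u} A)) (by simp) i hi
    exact (_root_.exactAt_iff_of_quasiIsoAt (tensUnitIso P).hom i).1 this
  | insert f s' hfs ih =>
    intro P b hP hc hT i hi
    have hle : Ideal.span (s' : Set A) ≤ Ideal.span ((insert f s' : Finset A) : Set A) :=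
      Ideal.span_mono (by
        intro x hx
        exact Finset.mem_insert_of_mem hx)
    have hc' := isDerivedComplete_mono hle hc
    have hC : ∀ j : ℤ, b < j → (CochainComplex.mappingCone (f • 𝟙 P)).ExactAt j := by
      apply ih (CochainComplex.mappingCone (f • 𝟙 P)) b (termwiseFlat_mappingCone _ hP hP)
      · exact isDerivedComplete_obj₃ _ _ (mappingCone_triangle_distinguished (f • 𝟙 P)) hc' hc'
      · intro N hN j hj
        exact exactAt_tens_cone hP f s' b hT N hN j hj
    have hepi := epi_of_exactAt_mappingCone (f • 𝟙 P) i (hC i hi)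
    rw [homologyMap_smul_id] at hepi
    have hsurj : Function.Surjective (fun x : P.homology i => f • x) :=
      (ModuleCat.epi_iff_surjective _).1 hepi
    have hf : f ∈ Ideal.span ((insert f s' : Finset A) : Set A) :=
      Ideal.subset_span (Finset.mem_insert_self f s')
    have hseq : SeqBij f (P.homology i) :=
      seqBij_of_linearEquiv ((homologyFunctorFactors (ModuleCat.{u} A) i).app P).toLinearEquiv f
        ((isDerivedComplete_iff _ _).1 hc f hf i)
    have hsub := subsingleton_of_smul_surjective f hseq.1 hsurj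
    rw [HomologicalComplex.exactAt_iff_isZero_homology]
    exact ModuleCat.isZero_of_subsingleton _

end Main

section Assembly

open Groth.Agent.Lib.Helper15 Groth.Agent.Lib.Helper25.KFlat Groth.Agent.Lib.Helper84.NilLT
open Groth.Agent.Lib.Helper84.FlatAmp

/-- `A ⧸ I` as a restriction of scalars of the unit `A ⧸ I`-module -/
noncomputable def quotResLin (I : Ideal A) :
    ((ModuleCat.restrictScalars (Ideal.Quotient.mk I)).obj (𝟙_ (ModuleCat.{u} (A ⧸ I)))) ≃ₗ[A]
      (A ⧸ I) where
  toFun := fun x => x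
  invFun := fun x => x
  left_inv := fun _ => rfl
  right_inv := fun _ => rfl
  map_add' := fun _ _ => rfl
  map_smul' := fun r x => by
    change (Ideal.Quotient.mk I r) * (show A ⧸ I from x) = r • (show A ⧸ I from x)
    rw [Algebra.smul_def]
    rfl

noncomputable def quotResIso (I : Ideal A) :
    (ModuleCat.restrictScalars (Ideal.Quotient.mk I)).obj (𝟙_ (ModuleCat.{u} (A ⧸ I))) ≅
      ModuleCat.of A (A ⧸ I) :=
  (quotResLin I).toModuleIso

theorem torVanS_of_quotient (I : Ideal A) (s : Finset A) (hs : Ideal.span (s : Set A) = I)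
    (P : Cx A) (hKF : IsKFlat P) (b : ℤ)
    (h : ∀ i : ℤ, b < i → ((tens (ModuleCat.of A (A ⧸ I))).obj P).ExactAt i) :
    TorVanS P s b := by
  let φ : A →+* A ⧸ I := Ideal.Quotient.mk I
  have hφ : Function.Surjective φ := Ideal.Quotient.mk_surjective
  have hKF' : IsKFlat (LDerived.extCx φ P) := isKFlat_extCx φ P hKF
  have hex : ∀ i : ℤ, b < i → (LDerived.extCx φ P).ExactAt i := by
    intro i hi
    have h1 : ((tens ((ModuleCat.restrictScalars φ).obj (𝟙_ (ModuleCat.{u} (A ⧸ I))))).obj
        P).ExactAt i :=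
      NilBdd.torVanP_of_iso (p := fun j => b < j) (quotResIso I).symm (fun j hj => h j hj) i hi
    have h2 := (exactAt_tens_res_iff φ _ P i).1 h1
    exact (_root_.exactAt_iff_of_quasiIsoAt (tensUnitIso (LDerived.extCx φ P)).hom i).1 h2
  intro N hN i hi
  have hN' : ∀ r ∈ RingHom.ker φ, ∀ x : N, r • x = 0 := by
    intro r hr x
    have hr' : r ∈ Ideal.span (s : Set A) := by
      rw [hs]
      simpa [φ, Ideal.mk_ker] using hr
    refine Submodule.span_induction (p := fun r _ => r • x = 0) ?_ ?_ ?_ ?_ hr'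
    · intro a ha
      exact hN a ha x
    · exact zero_smul _ _
    · intro a b _ _ ha hb
      rw [add_smul, ha, hb, add_zero]
    · intro c a _ ha
      rw [smul_eq_mul, mul_smul, ha, smul_zero]
  obtain ⟨N', ⟨e⟩⟩ := exists_res_iso φ hφ N hN'
  have h1 : ((tens ((ModuleCat.restrictScalars φ).obj N')).obj P).ExactAt i :=
    (exactAt_tens_res_iff φ N' P i).2 (exactAt_tens_of_isKFlat _ hKF' b hex N' i hi)
  exact NilBdd.torVanP_of_iso (p := fun j => j = i) e (fun j hj => by rw [hj]; exact h1) i rfl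

variable (I : Ideal A) [DRing.HasLTensor A (ModuleCat.of A (A ⧸ I))]

theorem exists_model (K : Dual.D A) :
    ∃ P : Cx A, IsKFlat P ∧ TermwiseFlat P ∧ Nonempty (Q.obj P ≅ K) ∧
      Nonempty ((DRing.LTensor A (ModuleCat.of A (A ⧸ I))).obj K ≅
        Q.obj ((tens (ModuleCat.of A (A ⧸ I))).obj P)) := by
  obtain ⟨P, π, hP, hπ, hKF, hflat, -⟩ :=
    KProjRes.exists_kprojective_resolution (Q.objPreimage K)
  have : IsIso (Q.map π) := by
    rw [isIso_Q_map_iff_quasiIso]
    exact hπ
  have e : Q.obj P ≅ K := asIso (Q.map π) ≪≫ Q.objObjPreimageIso K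
  refine ⟨P, hKF, hflat, ⟨e⟩, ⟨?_⟩⟩
  exact (DRing.LTensor A (ModuleCat.of A (A ⧸ I))).mapIso e.symm ≪≫
    LTKFlat.ltIsoOfIsKFlat _ _ hKF ≪≫ Q.mapIso (FlatAmp.tensRightIso _ _)

/-- derived Nakayama, cohomological form -/
theorem subsingleton_HD_of_ltensor (hI : I.FG) (K : Dual.D A)
    (hc : DRing.IsDerivedComplete I K) (b : ℤ)
    (h : ∀ i : ℤ, b < i → Subsingleton
      (Dual.HD A ((DRing.LTensor A (ModuleCat.of A (A ⧸ I))).obj K) i)) :
    ∀ i : ℤ, b < i → Subsingleton (Dual.HD A K i) := by
  classical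
  obtain ⟨s, hs⟩ := hI
  obtain ⟨P, hKF, hflat, ⟨e⟩, ⟨e'⟩⟩ := exists_model I K
  have hT : TorVanS P s b := by
    apply torVanS_of_quotient I s hs P hKF b
    intro i hi
    exact exactAt_of_subsingleton_HD _ i (subsingleton_HD_of_iso e' i (h i hi))
  have hc' : DRing.IsDerivedComplete (Ideal.span (s : Set A)) (Q.obj P) := by
    rw [hs]
    exact isDerivedComplete_of_iso I e.symm hc
  intro i hi
  exact subsingleton_HD_of_iso e i (subsingleton_HD_of_exactAt _ i (main s P b hflat hc' hT i hi))

theorem aux7055 (hI : I.FG) (K : Dual.D A) (hc : DRing.IsDerivedComplete I K)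
    (h0 : Limits.IsZero ((DRing.LTensor A (ModuleCat.of A (A ⧸ I))).obj K)) :
    Limits.IsZero K := by
  have h : ∀ i : ℤ, Subsingleton (Dual.HD A K i) := by
    intro i
    refine subsingleton_HD_of_ltensor I hI K hc (i - 1) ?_ i (by omega)
    intro j _
    exact ModuleCat.subsingleton_of_isZero
      (Functor.map_isZero (homologyFunctor (ModuleCat.{u} A) j) h0)
  obtain ⟨P, -, -, ⟨e⟩, -⟩ := exists_model I K
  refine IsZero.of_iso (isZero_Q_obj_of_acyclic P ?_) e.symm
  intro i
  exact exactAt_of_subsingleton_HD _ i (subsingleton_HD_of_iso e.symm i (h i))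

theorem aux7056 (hI : I.FG) (K : Dual.D A) (hc : DRing.IsDerivedComplete I K) :
    (∀ i : ℤ, 0 < i → Subsingleton (Dual.HD A K i)) ↔
      ∀ i : ℤ, 0 < i → Subsingleton
        (Dual.HD A ((DRing.LTensor A (ModuleCat.of A (A ⧸ I))).obj K) i) := by
  constructor
  · intro h i hi
    obtain ⟨P, hKF, hflat, ⟨e⟩, ⟨e'⟩⟩ := exists_model I K
    have hex : ∀ j : ℤ, 0 < j → P.ExactAt j := fun j hj =>
      exactAt_of_subsingleton_HD _ j (subsingleton_HD_of_iso e.symm j (h j hj))
    exact subsingleton_HD_of_iso e'.symm i (subsingleton_HD_of_exactAt _ i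
      (exactAt_tens_of_isKFlat P hKF 0 hex _ i hi))
  · intro h
    exact subsingleton_HD_of_ltensor I hI K hc 0 h

end Assembly

end Groth.Agent.Lib.Helper25.DNak
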