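import Groth.Agent.Lib.Helper25.HomCxAdj2
import Groth.Agent.Lib.Helper25.TensorKProj
import Mathlib.Algebra.Homology.DerivedCategory.KProjective

/-!
# The derived tensor-hom adjunction for K-projective complexes, in the form needed for
derived completion

For K-projective `X`, `E`: maps `X ⟶ Hom•(E, M)` in `D(A)` correspond to maps `X ⊗ E ⟶ M`.
-/

set_option autoImplicit false
universe u

namespace Groth.Agent.Lib.Helper25.DerAdj

open CategoryTheory CategoryTheory.Limits MonoidalCategory HomologicalComplex CochainComplex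
open CochainComplex.HomComplex DerivedCategory
open Groth.Agent.Lib.Helper25.TensorCx Groth.Agent.Lib.Helper25.HomTensor
open Groth.Agent.Lib.Helper25.HomCxAdj Groth.Agent.Lib.Helper25.HomCxPre
open Groth.Agent.Lib.Helper25.TensorKProj

attribute [local instance] HasDerivedCategory.standard

variable {A : Type u} [CommRing A]

/-- maps out of a K-projective complex in `D(A)` come from chain maps -/
theorem exists_map_eq (P L : Cx A) [P.IsKProjective] (ψ : Q.obj P ⟶ Q.obj L) :
    ∃ g : P ⟶ L, Q.map g = ψ := by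
  obtain ⟨ψ', hψ'⟩ := (CochainComplex.IsKProjective.Qh_map_bijective P
    ((HomotopyCategory.quotient _ _).obj L)).surjective ψ
  obtain ⟨g, rfl⟩ := (HomotopyCategory.quotient _ _).map_surjective ψ'
  exact ⟨g, hψ'⟩

theorem Qmap_eq_zero_iff (P L : Cx A) [P.IsKProjective] (g : P ⟶ L) :
    Q.map g = 0 ↔ Nonempty (Homotopy g 0) := by
  rw [← HomotopyCategory.quotient_map_eq_zero_iff]
  constructor
  · intro h
    apply (CochainComplex.IsKProjective.Qh_map_bijective P _).injective
    rw [Functor.map_zero]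
    exact h
  · intro h
    change Qh.map ((HomotopyCategory.quotient _ _).map g) = 0
    rw [h, Functor.map_zero]

theorem uncurry_sub (E : Cx A) {K M : Cx A} (f f' : K ⟶ DRing.homCx E M) :
    uncurry E (f - f') = uncurry E f - uncurry E f' := by
  apply Cochain.ofHom_injective
  rw [Cochain.ofHom_sub, ofHom_uncurry, ofHom_uncurry, ofHom_uncurry, Cochain.ofHom_sub]
  exact (equiv K E M 0).map_sub _ _

/-- vanishing form of the derived adjunction -/
theorem subsingleton_hom_homCx (X E M : Cx A) [X.IsKProjective] [E.IsKProjective]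
    (h : Subsingleton (Q.obj (X ⊗ E : Cx A) ⟶ Q.obj M)) :
    Subsingleton (Q.obj X ⟶ Q.obj (DRing.homCx E M)) := by
  haveI := isKProjective_tensor X E
  have key : ∀ φ : Q.obj X ⟶ Q.obj (DRing.homCx E M), φ = 0 := by
    intro φ
    obtain ⟨f, rfl⟩ := exists_map_eq X _ φ
    rw [Qmap_eq_zero_iff, nonempty_homotopy_zero_iff, ← Qmap_eq_zero_iff]
    exact h.elim _ _
  constructor
  intro φ₁ φ₂
  rw [key φ₁, key φ₂]

/-- bijective form of the derived adjunction: precomposition in the middle variable with a map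
`u : E' ⟶ E` such that `X ◁ u` is a quasi-isomorphism is bijective on maps from `X`. -/
theorem bijective_comp_homCxPre (X E E' M : Cx A) [X.IsKProjective] [E.IsKProjective]
    [E'.IsKProjective] (u : E' ⟶ E) (hu : QuasiIso (X ◁ u)) :
    Function.Bijective (fun φ : Q.obj X ⟶ Q.obj (DRing.homCx E M) => φ ≫ Q.map (homCxPre u M)) := by
  haveI := isKProjective_tensor X E
  haveI := isKProjective_tensor X E'
  haveI : IsIso (Q.map (X ◁ u)) := (isIso_Q_map_iff_quasiIso (φ := X ◁ u)).2 hu
  constructor
  · intro φ₁ φ₂ h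
    obtain ⟨f₁, rfl⟩ := exists_map_eq X _ φ₁
    obtain ⟨f₂, rfl⟩ := exists_map_eq X _ φ₂
    have h0 : Q.map f₁ ≫ Q.map (homCxPre u M) = Q.map f₂ ≫ Q.map (homCxPre u M) := h
    have h' : Q.map ((f₁ - f₂) ≫ homCxPre u M) = 0 := by
      rw [Functor.map_comp, Functor.map_sub, Preadditive.sub_comp]
      exact sub_eq_zero.2 h0
    rw [Qmap_eq_zero_iff, nonempty_homotopy_zero_iff, uncurry_naturality_mid, ← Qmap_eq_zero_iff,
      Functor.map_comp] at h'
    have h'' : Q.map (uncurry E (f₁ - f₂)) = 0 :=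
      (cancel_epi (Q.map (X ◁ u))).1 (h'.trans comp_zero.symm)
    rw [Qmap_eq_zero_iff, ← nonempty_homotopy_zero_iff, ← Qmap_eq_zero_iff, Functor.map_sub] at h''
    exact sub_eq_zero.1 h''
  · intro ψ
    obtain ⟨g, rfl⟩ := exists_map_eq X _ ψ
    obtain ⟨h, hh⟩ := exists_map_eq (X ⊗ E : Cx A) M
      (inv (Q.map (X ◁ u)) ≫ Q.map (uncurry E' g))
    refine ⟨Q.map (curry E h), ?_⟩
    change Q.map (curry E h) ≫ Q.map (homCxPre u M) = Q.map g
    rw [← Functor.map_comp]
    have h0 : Q.map (curry E h ≫ homCxPre u M - g) = 0 := by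
      rw [Qmap_eq_zero_iff, nonempty_homotopy_zero_iff, ← Qmap_eq_zero_iff, uncurry_sub,
        uncurry_naturality_mid, uncurry_curry, Functor.map_sub, Functor.map_comp, hh,
        IsIso.hom_inv_id_assoc, sub_self]
    rw [Functor.map_sub] at h0
    exact sub_eq_zero.1 h0

end Groth.Agent.Lib.Helper25.DerAdj
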