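import Groth.Agent.Lib.Helper25.QisElem2
import Mathlib.RingTheory.Localization.BaseChange

/-!
# Localizing a complex on whose cohomology `f` acts bijectively is a quasi-isomorphism
-/

set_option autoImplicit false
universe u

namespace Groth.Agent.Lib.Helper25.LocQis

open CategoryTheory CategoryTheory.Limits HomologicalComplex CochainComplex
open Groth.Agent.Lib.Helper25.TensorCx

variable {A : Type u} [CommRing A]

theorem comm_apply {P X : Cx A} (π : P ⟶ X) (i j : ℤ) (x : P.X i) :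
    X.d i j (π.f i x) = π.f j (P.d i j x) := by
  have := ConcreteCategory.congr_hom (π.comm i j) x
  simp only [ModuleCat.hom_comp, LinearMap.coe_comp, Function.comp_apply] at this
  exact this

/-- `f` acts injectively on the cohomology of `P` (elementwise form) -/
def FInj (f : A) (P : Cx A) : Prop :=
  ∀ (n m k : ℤ) (_ : n + 1 = m) (_ : m + 1 = k) (x : P.X m), P.d m k x = 0 →
    ∀ w : P.X n, f • x = P.d n m w → ∃ w' : P.X n, P.d n m w' = x

/-- `f` acts surjectively on the cohomology of `P` (elementwise form) -/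
def FSurj (f : A) (P : Cx A) : Prop :=
  ∀ (n m k : ℤ) (_ : n + 1 = m) (_ : m + 1 = k) (x : P.X m), P.d m k x = 0 →
    ∃ (x' : P.X m) (w : P.X n), P.d m k x' = 0 ∧ x - f • x' = P.d n m w

theorem FInj.pow {f : A} {P : Cx A} (h : FInj f P) (N : ℕ) (n m k : ℤ) (hnm : n + 1 = m)
    (hmk : m + 1 = k) (x : P.X m) (hx : P.d m k x = 0) (w : P.X n)
    (hw : f ^ N • x = P.d n m w) : ∃ w' : P.X n, P.d n m w' = x := by
  induction N generalizing x w with
  | zero => exact ⟨w, by rw [← hw, pow_zero, one_smul]⟩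
  | succ N ih =>
    have h1 : P.d m k (f ^ N • x) = 0 := by rw [map_smul, hx, smul_zero]
    obtain ⟨w₁, hw₁⟩ := h n m k hnm hmk (f ^ N • x) h1 w (by rw [smul_smul, ← pow_succ', hw])
    exact ih x hx w₁ hw₁.symm

theorem FSurj.pow {f : A} {P : Cx A} (h : FSurj f P) (N : ℕ) (n m k : ℤ) (hnm : n + 1 = m)
    (hmk : m + 1 = k) (x : P.X m) (hx : P.d m k x = 0) :
    ∃ (x' : P.X m) (w : P.X n), P.d m k x' = 0 ∧ x - f ^ N • x' = P.d n m w := by
  induction N with
  | zero => exact ⟨x, 0, hx, by rw [pow_zero, one_smul, sub_self, map_zero]⟩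
  | succ N ih =>
    obtain ⟨x', w, hx', hw⟩ := ih
    obtain ⟨x'', w'', hx'', hw''⟩ := h n m k hnm hmk x' hx'
    refine ⟨x'', w + f ^ N • w'', hx'', ?_⟩
    rw [map_add, map_smul, ← hw, ← hw'', smul_sub, smul_smul, ← pow_succ]
    abel

/-- a bijective action on the terms gives a bijective action on cohomology -/
theorem fInj_of_bijective (f : A) (P : Cx A)
    (hP : ∀ i : ℤ, Function.Bijective (fun x : P.X i => f • x)) : FInj f P := by
  intro n m k hnm hmk x hx w hw
  obtain ⟨w₀, hw₀⟩ := (hP n).2 w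
  refine ⟨w₀, ?_⟩
  apply (hP m).1
  change f • P.d n m w₀ = f • x
  rw [hw, ← map_smul]
  exact congrArg _ hw₀

theorem fSurj_of_bijective (f : A) (P : Cx A)
    (hP : ∀ i : ℤ, Function.Bijective (fun x : P.X i => f • x)) : FSurj f P := by
  intro n m k hnm hmk x hx
  obtain ⟨x', hx'⟩ := (hP m).2 x
  refine ⟨x', 0, ?_, ?_⟩
  · apply (hP k).1
    change f • P.d m k x' = f • 0
    rw [← map_smul, smul_zero]
    have : f • x' = x := hx'
    rw [this, hx]
  · have : f • x' = x := hx'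
    rw [this, sub_self, map_zero]

/-- transport along a quasi-isomorphism -/
theorem fInj_of_quasiIso {f : A} {P X : Cx A} (π : P ⟶ X) [QuasiIso π] (h : FInj f X) :
    FInj f P := by
  intro n m k hnm hmk x hx w hw
  have h1 : X.d m k (π.f m x) = 0 := by
    rw [comm_apply, hx, map_zero]
  have h2 : f • π.f m x = X.d n m (π.f n w) := by
    rw [comm_apply, ← hw, map_smul]
  obtain ⟨w₀, hw₀⟩ := h n m k hnm hmk _ h1 _ h2
  exact QisElem.inj_of_quasiIso π n m k hnm hmk x hx w₀ hw₀.symm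

theorem fSurj_of_quasiIso {f : A} {P X : Cx A} (π : P ⟶ X) [QuasiIso π] (h : FSurj f X)
    (hi : FInj f X) : FSurj f P := by
  intro n m k hnm hmk x hx
  have h1 : X.d m k (π.f m x) = 0 := by
    rw [comm_apply, hx, map_zero]
  obtain ⟨x₀, w₀, hx₀, hw₀⟩ := h n m k hnm hmk _ h1
  obtain ⟨x', v, hx', hv⟩ := QisElem.surj_of_quasiIso π n m k hnm hmk x₀ hx₀
  have h2 : P.d m k (x - f • x') = 0 := by rw [map_sub, map_smul, hx, hx', smul_zero, sub_zero]
  have h3 : π.f m (x - f • x') = X.d n m (w₀ + f • v) := by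
    rw [map_sub, map_smul, map_add, map_smul, ← hv, ← hw₀, smul_sub]
    abel
  obtain ⟨w, hw⟩ := QisElem.inj_of_quasiIso π n m k hnm hmk _ h2 _ h3
  exact ⟨x', w, hx', hw.symm⟩

/-- A termwise localization map at `f` out of a complex on whose cohomology `f` acts bijectively
is a quasi-isomorphism. -/
theorem quasiIso_of_isLocalizedModule {P P' : Cx A} (ι : P ⟶ P') (f : A)
    (hloc : ∀ n : ℤ, IsLocalizedModule (Submonoid.powers f) (ι.f n).hom)
    (hinj : FInj f P) (hsurj : FSurj f P) : QuasiIso ι := by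
  have hcomm : ∀ (i j : ℤ) (x : P.X i), P'.d i j (ι.f i x) = ι.f j (P.d i j x) :=
    fun i j x => comm_apply ι i j x
  apply QisElem.quasiIso_of_elementwise
  · intro n m k hnm hmk x hx y hy
    have := hloc n
    have := hloc m
    obtain ⟨⟨y₀, ⟨s, ⟨a, rfl⟩⟩⟩, hs⟩ := IsLocalizedModule.surj (Submonoid.powers f) (ι.f n).hom y
    have hs' : f ^ a • y = ι.f n y₀ := hs
    have h1 : (ι.f m).hom (f ^ a • x) = (ι.f m).hom (P.d n m y₀) := by
      change ι.f m (f ^ a • x) = ι.f m (P.d n m y₀)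
      rw [map_smul, hy, ← map_smul, hs', hcomm]
    obtain ⟨⟨c, ⟨b, rfl⟩⟩, hc⟩ := IsLocalizedModule.exists_of_eq (S := Submonoid.powers f) h1
    have hc' : f ^ b • (f ^ a • x) = f ^ b • P.d n m y₀ := hc
    refine hinj.pow (b + a) n m k hnm hmk x hx (f ^ b • y₀) ?_
    rw [pow_add, ← smul_smul, hc', map_smul]
  · intro n m k hnm hmk y hy
    have := hloc n
    have := hloc m
    have := hloc k
    obtain ⟨⟨y₀, ⟨s, ⟨a, rfl⟩⟩⟩, hs⟩ := IsLocalizedModule.surj (Submonoid.powers f) (ι.f m).hom y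
    have hs' : f ^ a • y = ι.f m y₀ := hs
    have h1 : (ι.f k).hom (P.d m k y₀) = (ι.f k).hom 0 := by
      change ι.f k (P.d m k y₀) = ι.f k 0
      rw [← hcomm, ← hs', map_smul, hy, smul_zero, map_zero]
    obtain ⟨⟨c, ⟨b, rfl⟩⟩, hc⟩ := IsLocalizedModule.exists_of_eq (S := Submonoid.powers f) h1
    have hc' : f ^ b • P.d m k y₀ = f ^ b • 0 := hc
    have hy₁ : P.d m k (f ^ b • y₀) = 0 := by rw [map_smul, hc', smul_zero]
    obtain ⟨x', w, hx', hw⟩ := hsurj.pow (b + a) n m k hnm hmk _ hy₁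
    -- divide `ι w` by `f ^ (b + a)`
    have hu := (Module.End.isUnit_iff _).1 (IsLocalizedModule.map_units (ι.f n).hom
      (⟨f ^ (b + a), ⟨b + a, rfl⟩⟩ : Submonoid.powers f))
    obtain ⟨w', hw'⟩ := hu.2 (ι.f n w)
    have hw'' : f ^ (b + a) • w' = ι.f n w := hw'
    refine ⟨x', w', hx', ?_⟩
    apply IsLocalizedModule.smul_injective (ι.f m).hom
      (⟨f ^ (b + a), ⟨b + a, rfl⟩⟩ : Submonoid.powers f)
    change f ^ (b + a) • (y - ι.f m x') = f ^ (b + a) • P'.d n m w'
    rw [← map_smul, hw'', hcomm, ← hw, smul_sub, map_sub, map_smul, map_smul]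
    congr 1
    rw [pow_add, ← smul_smul, hs']

end Groth.Agent.Lib.Helper25.LocQis
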