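import Groth.Agent.Lib.Helper25.TensorKProj
import Groth.Agent.Lib.Helper25.LocQis
import Groth.Agent.Lib.Helper25.SingleTensor
import Groth.Agent.Lib.Helper15.KProjRes
import Groth.Prelude.Def_DRing3

/-!
# Maps from complexes on which `f` acts bijectively into `f`-derived-complete objects vanish
-/

set_option autoImplicit false
universe u

namespace Groth.Agent.Lib.Helper25.DerCompleteHom

open CategoryTheory CategoryTheory.Limits MonoidalCategory HomologicalComplex CochainComplex
open CochainComplex.HomComplex DerivedCategory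
open Groth.Agent.Lib.Helper25.TensorCx Groth.Agent.Lib.Helper25.KFlat
open Groth.Agent.Lib.Helper25.SingleTensor

attribute [local instance] HasDerivedCategory.standard

variable {A : Type u} [CommRing A]

/-- the termwise localization map `P ⟶ A_f ⊗ P` -/
noncomputable def locMap (f : A) (P : Cx A) :
    P ⟶ (Groth.Agent.Lib.Helper84.TensCx.tens (ModuleCat.of A (Localization.Away f))).obj P where
  f n := ModuleCat.ofHom (TensorProduct.mk A (Localization.Away f) (P.X n) 1)
  comm' i j _ := by
    ext x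
    rfl

theorem quasiIso_locMap (f : A) (P : Cx A) (hinj : LocQis.FInj f P) (hsurj : LocQis.FSurj f P) :
    QuasiIso (locMap f P) := by
  apply LocQis.quasiIso_of_isLocalizedModule (locMap f P) f _ hinj hsurj
  intro n
  exact IsLocalization.tensorProduct_isLocalizedModule (S := Submonoid.powers f)
    (A := Localization.Away f) (M := P.X n)

/-- Main lemma: if `f` acts bijectively on the terms of `X` and all maps `A_f ⟶ K[n]` vanish,
then all maps `X ⟶ K` in `D(A)` vanish. -/
theorem subsingleton_hom_of_bijective (f : A) (X : Cx A)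
    (hX : ∀ i : ℤ, Function.Bijective (fun x : X.X i => f • x)) (K : Dual.D A)
    (hK : ∀ n : ℤ, Subsingleton (Dual.inD A (Localization.Away f) ⟶ K⟦n⟧)) :
    Subsingleton (DRing.toD X ⟶ K) := by
  -- representatives and resolutions
  let K₀ : Cx A := Q.objPreimage K
  let e : Q.obj K₀ ≅ K := Q.objObjPreimageIso K
  obtain ⟨P, π, hPK, hπ, hPflat, -, -⟩ :=
    Groth.Agent.Lib.Helper15.KProjRes.exists_kprojective_resolution X
  obtain ⟨T, πT, hTK, hπT, -, -, -⟩ :=
    Groth.Agent.Lib.Helper15.KProjRes.exists_kprojective_resolution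
      (sgl (ModuleCat.of A (Localization.Away f)))
  haveI := hPK
  haveI := hTK
  haveI := hπ
  haveI := hπT
  -- `Hom•(T, K₀)` is acyclic
  have hacyc : (DRing.homCx T K₀).Acyclic := by
    apply TensorKProj.acyclic_homCx_of_forall
    intro n φ
    apply (CochainComplex.IsKProjective.Qh_map_bijective T _).injective
    rw [Functor.map_zero]
    change Q.map φ = 0
    let α : Dual.inD A (Localization.Away f) ≅
        Q.obj (sgl (ModuleCat.of A (Localization.Away f))) :=
      (DerivedCategory.singleFunctorIsoCompQ (ModuleCat.{u} A) 0).app _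
    have key : (α.hom ≫ inv (Q.map πT)) ≫ Q.map φ ≫
        ((Q.commShiftIso n).hom.app K₀ ≫ e.hom⟦n⟧') = 0 :=
      (hK n).elim _ _
    apply (cancel_epi (α.hom ≫ inv (Q.map πT))).1
    apply (cancel_mono ((Q.commShiftIso n).hom.app K₀ ≫ e.hom⟦n⟧')).1
    rw [comp_zero, zero_comp, Category.assoc]
    exact key
  -- all maps out of `P ⊗ T` vanish
  haveI : (P ⊗ T : Cx A).IsKProjective := TensorKProj.isKProjective_tensor P T
  have hPT : ∀ ψ : Q.obj (P ⊗ T : Cx A) ⟶ K, ψ = 0 := by
    intro ψ
    obtain ⟨ψ', hψ'⟩ := (CochainComplex.IsKProjective.Qh_map_bijective (P ⊗ T : Cx A)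
      ((HomotopyCategory.quotient _ _).obj K₀)).surjective (ψ ≫ e.inv)
    obtain ⟨g, rfl⟩ := (HomotopyCategory.quotient _ _).map_surjective ψ'
    have hg : (HomotopyCategory.quotient _ _).map g = 0 := by
      rw [HomotopyCategory.quotient_map_eq_zero_iff]
      exact TensorKProj.nonempty_homotopy_zero_of_acyclic_homCx P T K₀ hacyc g
    rw [hg, Functor.map_zero] at hψ'
    rw [← cancel_mono e.inv, zero_comp]
    exact hψ'.symm
  -- `P ⊗ T ≅ X` in `D(A)`
  have hq1 : QuasiIso (P ◁ πT) := quasiIso_whiskerLeft_of_isKFlat P hPflat πT hπT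
  have hXi : LocQis.FInj f X := LocQis.fInj_of_bijective f X hX
  have hXs : LocQis.FSurj f X := LocQis.fSurj_of_bijective f X hX
  have hq2 : QuasiIso (locMap f P) :=
    quasiIso_locMap f P (LocQis.fInj_of_quasiIso π hXi) (LocQis.fSurj_of_quasiIso π hXs hXi)
  let i1 : Q.obj (P ⊗ T : Cx A) ≅ Q.obj (P ⊗ sgl (ModuleCat.of A (Localization.Away f)) : Cx A) :=
    asIso (Q.map (P ◁ πT))
  let i2 : Q.obj (P ⊗ sgl (ModuleCat.of A (Localization.Away f)) : Cx A) ≅
      Q.obj (sgl (ModuleCat.of A (Localization.Away f)) ⊗ P : Cx A) :=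
    Q.mapIso (braid P (sgl (ModuleCat.of A (Localization.Away f))))
  let i3 : Q.obj (sgl (ModuleCat.of A (Localization.Away f)) ⊗ P : Cx A) ≅
      Q.obj ((Groth.Agent.Lib.Helper84.TensCx.tens (ModuleCat.of A (Localization.Away f))).obj P) :=
    Q.mapIso (singleTensorIso (ModuleCat.of A (Localization.Away f)) P).symm
  let i4 : Q.obj P ≅
      Q.obj ((Groth.Agent.Lib.Helper84.TensCx.tens (ModuleCat.of A (Localization.Away f))).obj P) :=
    asIso (Q.map (locMap f P))
  let i5 : Q.obj P ≅ Q.obj X := asIso (Q.map π)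
  let i : Q.obj (P ⊗ T : Cx A) ≅ Q.obj X := i1 ≪≫ i2 ≪≫ i3 ≪≫ i4.symm ≪≫ i5
  constructor
  intro φ₁ φ₂
  have h1 : i.hom ≫ φ₁ = 0 := hPT _
  have h2 : i.hom ≫ φ₂ = 0 := hPT _
  rw [← cancel_epi i.hom, h1, h2]

end Groth.Agent.Lib.Helper25.DerCompleteHom
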