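import Mathlib.Algebra.Algebra.Hom
import Mathlib.Order.Directed

set_option autoImplicit false
universe u v w

namespace Groth.Agent.Lib.Helper25

section

variable {ι : Type u} [Preorder ι] [IsDirected ι (· ≤ ·)] [Nonempty ι]
    {R : Type v} [CommRing R] {G : ι → Type u} [∀ i, CommRing (G i)] [∀ i, Algebra R (G i)]
    (f : ∀ i j, i ≤ j → (G i →ₐ[R] G j)) {S : Type u} [CommRing S] [Algebra R S]
    (g : ∀ i, G i →ₐ[R] S) (hg : ∀ i j (h : i ≤ j), (g j).comp (f i j h) = g i)
    (hsurj : ∀ s : S, ∃ i, ∃ x : G i, g i x = s)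
    (hker : ∀ i (x : G i), g i x = 0 → ∃ j, ∃ h : i ≤ j, f i j h x = 0)
    {B : Type w} [CommRing B] [Algebra R B] (φ : ∀ i, G i →ₐ[R] B)
    (hφ : ∀ i j (h : i ≤ j), (φ j).comp (f i j h) = φ i)

include hg hker hφ in
theorem dirLim_wd (i j : ι) (x : G i) (y : G j) (hxy : g i x = g j y) : φ i x = φ j y := by
  obtain ⟨k, hik, hjk⟩ := exists_ge_ge i j
  have h1 : g k (f i k hik x - f j k hjk y) = 0 := by
    have e1 : g k (f i k hik x) = g i x := DFunLike.congr_fun (hg i k hik) x
    have e2 : g k (f j k hjk y) = g j y := DFunLike.congr_fun (hg j k hjk) y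
    rw [map_sub, e1, e2, hxy, sub_self]
  obtain ⟨l, hkl, h2⟩ := hker k _ h1
  have e1 : φ k (f i k hik x) = φ i x := DFunLike.congr_fun (hφ i k hik) x
  have e2 : φ k (f j k hjk y) = φ j y := DFunLike.congr_fun (hφ j k hjk) y
  have e3 : φ l (f k l hkl (f i k hik x - f j k hjk y)) = φ k (f i k hik x - f j k hjk y) :=
    DFunLike.congr_fun (hφ k l hkl) _
  rw [h2, map_zero, map_sub, e1, e2] at e3
  exact (sub_eq_zero.mp e3.symm)

include hg hsurj hker hφ in
theorem exists_algHom_of_compatible :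
    ∃ Φ : S →ₐ[R] B, ∀ i, Φ.comp (g i) = φ i := by
  classical
  choose ix xx hxx using hsurj
  have key : ∀ i (x : G i), φ (ix (g i x)) (xx (g i x)) = φ i x := fun i x =>
    dirLim_wd f g hg hker φ hφ _ _ _ _ (hxx (g i x))
  have up : ∀ i j (h : i ≤ j) (x : G i), g j (f i j h x) = g i x :=
    fun i j h x => DFunLike.congr_fun (hg i j h) x
  have upφ : ∀ i j (h : i ≤ j) (x : G i), φ j (f i j h x) = φ i x :=
    fun i j h x => DFunLike.congr_fun (hφ i j h) x
  have hmul : ∀ s t : S, φ (ix (s * t)) (xx (s * t)) = φ (ix s) (xx s) * φ (ix t) (xx t) := by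
    intro s t
    obtain ⟨k, hik, hjk⟩ := exists_ge_ge (ix s) (ix t)
    have e : s * t = g k (f _ k hik (xx s) * f _ k hjk (xx t)) := by
      rw [map_mul, up, up, hxx, hxx]
    rw [e, key, map_mul, upφ, upφ]
  have hadd : ∀ s t : S, φ (ix (s + t)) (xx (s + t)) = φ (ix s) (xx s) + φ (ix t) (xx t) := by
    intro s t
    obtain ⟨k, hik, hjk⟩ := exists_ge_ge (ix s) (ix t)
    have e : s + t = g k (f _ k hik (xx s) + f _ k hjk (xx t)) := by
      rw [map_add, up, up, hxx, hxx]
    rw [e, key, map_add, upφ, upφ]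
  have halg : ∀ r : R, φ (ix (algebraMap R S r)) (xx (algebraMap R S r)) = algebraMap R B r := by
    intro r
    obtain ⟨i⟩ := ‹Nonempty ι›
    have e : algebraMap R S r = g i (algebraMap R (G i) r) := by simp
    rw [e, key]; simp
  refine ⟨AlgHom.ofLinearMap
    { toFun := fun s => φ (ix s) (xx s)
      map_add' := hadd
      map_smul' := fun r s => by
        show φ (ix (r • s)) (xx (r • s)) = r • φ (ix s) (xx s)
        rw [Algebra.smul_def r s, hmul, halg, Algebra.smul_def] } ?_ ?_, ?_⟩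
  · have := halg 1
    rw [map_one, map_one] at this
    exact this
  · intro s t
    exact hmul s t
  · intro i
    ext x
    exact key i x

omit [IsDirected ι (· ≤ ·)] [Nonempty ι] in
include hsurj in
theorem algHom_ext_of_jointly_surjective {Φ Ψ : S →ₐ[R] B}
    (h : ∀ i, Φ.comp (g i) = Ψ.comp (g i)) : Φ = Ψ := by
  ext s
  obtain ⟨i, x, rfl⟩ := hsurj s
  exact DFunLike.congr_fun (h i) x

end

end Groth.Agent.Lib.Helper25
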