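import Groth.Agent.Lib.Helper25.ExactPairingCx
import Groth.Agent.Lib.Helper25.TensorBraid
import Mathlib.LinearAlgebra.Contraction
import Mathlib.Data.Int.Interval

/-!
# The dual of a bounded complex of finite projective modules

For a bounded complex `P` of finite projective modules, the complex `dualCx P` with terms
`(P^{-q})^*` is a right dual of `P` in the monoidal category of complexes: `exactPairing`.
-/

set_option autoImplicit false
universe u

namespace Groth.Agent.Lib.Helper25.DualCx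

open CategoryTheory CategoryTheory.Limits MonoidalCategory HomologicalComplex TensorProduct
open Groth.Agent.Lib.Helper25.TensorCx Groth.Agent.Lib.Helper25.ExactPairingCx

variable {R : Type u} [CommRing R]

section Mod

variable (M M' : Type u) [AddCommGroup M] [Module R M] [AddCommGroup M'] [Module R M']

/-- `M' ⊗ M^* → Hom(M, M')` -/
noncomputable def tauHom : M' ⊗[R] Module.Dual R M →ₗ[R] (M →ₗ[R] M') :=
  dualTensorHom R M M' ∘ₗ (TensorProduct.comm R M' (Module.Dual R M)).toLinearMap

variable {M M'}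

@[simp]
theorem tauHom_tmul (m' : M') (f : Module.Dual R M) (x : M) :
    tauHom M M' (m' ⊗ₜ[R] f) x = f x • m' := by
  simp [tauHom]

theorem tauHom_injective [Module.Finite R M] [Module.Projective R M] :
    Function.Injective (tauHom (R := R) M M') := by
  unfold tauHom
  rw [LinearMap.coe_comp]
  exact (dualTensorHom_bijective (R := R) (M := M) (N := M')).1.comp
    (TensorProduct.comm R M' (Module.Dual R M)).injective

theorem tauHom_surjective [Module.Finite R M] [Module.Projective R M] :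
    Function.Surjective (tauHom (R := R) M M') := by
  unfold tauHom
  rw [LinearMap.coe_comp]
  exact (dualTensorHom_bijective (R := R) (M := M) (N := M')).2.comp
    (TensorProduct.comm R M' (Module.Dual R M)).surjective

theorem tauHom_rTensor {M'' : Type u} [AddCommGroup M''] [Module R M''] (g : M' →ₗ[R] M'')
    (t : M' ⊗[R] Module.Dual R M) :
    tauHom M M'' (LinearMap.rTensor (Module.Dual R M) g t) = g ∘ₗ tauHom M M' t := by
  induction t using TensorProduct.induction_on with
  | zero => simp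
  | tmul m f => ext x; simp
  | add a b ha hb => simp only [map_add, ha, hb, LinearMap.comp_add]

theorem tauHom_lTensor {M₁ : Type u} [AddCommGroup M₁] [Module R M₁] (g : M₁ →ₗ[R] M)
    (t : M' ⊗[R] Module.Dual R M) :
    tauHom M₁ M' (LinearMap.lTensor M' g.dualMap t) = tauHom M M' t ∘ₗ g := by
  induction t using TensorProduct.induction_on with
  | zero => simp
  | tmul m f => ext x; simp
  | add a b ha hb => simp only [map_add, ha, hb, LinearMap.add_comp]

end Mod

section Dual

variable (P : Cx R)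

/-- the differential of the dual complex, as a linear map -/
noncomputable def dualD (q q' : ℤ) :
    Module.Dual R (P.X (-q)) →ₗ[R] Module.Dual R (P.X (-q')) :=
  ((q + 1).negOnePow : ℤˣ) • (P.d (-q') (-q)).hom.dualMap

theorem dualD_apply (q q' : ℤ) (φ : Module.Dual R (P.X (-q))) (x : P.X (-q')) :
    dualD P q q' φ x = ((q + 1).negOnePow : ℤˣ) • φ ((P.d (-q') (-q)).hom x) := by
  unfold dualD
  rw [Units.smul_def, LinearMap.smul_apply, LinearMap.smul_apply, Units.smul_def]
  rfl

/-- the dual complex: `(P^{-q})^*` in degree `q` -/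
noncomputable def dualCx : Cx R where
  X q := ModuleCat.of R (Module.Dual R (P.X (-q)))
  d q q' := ModuleCat.ofHom (dualD P q q')
  shape q q' h := by
    ext φ x
    change dualD P q q' φ x = 0
    rw [dualD_apply, P.shape (-q') (-q) (by simp at h ⊢; omega)]
    simp
  d_comp_d' q q' q'' _ _ := by
    ext φ x
    change dualD P q' q'' (dualD P q q' φ) x = 0
    rw [dualD_apply, dualD_apply]
    have : (P.d (-q') (-q)).hom ((P.d (-q'') (-q')).hom x) = 0 := by
      change (P.d (-q'') (-q') ≫ P.d (-q') (-q)) x = 0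
      rw [P.d_comp_d]
      rfl
    rw [this, map_zero, smul_zero, smul_zero]

theorem dualCx_d_hom (q q' : ℤ) : ((dualCx P).d q q').hom = dualD P q q' := rfl

/-- transport along an equality of degrees -/
noncomputable def castL {p p' : ℤ} (h : p = p') : P.X p →ₗ[R] P.X p' := (P.XIsoOfEq h).hom.hom

@[simp]
theorem castL_rfl (p : ℤ) (x : P.X p) : castL P (rfl : p = p) x = x := rfl

theorem castL_castL {p p' p'' : ℤ} (h : p = p') (h' : p' = p'') (x : P.X p) :
    castL P h' (castL P h x) = castL P (h.trans h') x := by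
  subst h h'
  rfl

theorem d_castL {p p' : ℤ} (h : p = p') (p'' : ℤ) (x : P.X p) :
    (P.d p' p'').hom (castL P h x) = (P.d p p'').hom x := by
  subst h
  rfl

theorem castL_d {p' p'' : ℤ} (h : p' = p'') (p : ℤ) (x : P.X p) :
    castL P h ((P.d p p').hom x) = (P.d p p'').hom x := by
  subst h
  rfl

/-- evaluation on the summand `(P^{-q})^* ⊗ P^p`, `q + p = 0` -/
noncomputable def evLin (q p : ℤ) (h : q + p = 0) :
    (Module.Dual R (P.X (-q))) ⊗[R] (P.X p) →ₗ[R] R :=
  contractLeft R (P.X (-q)) ∘ₗ LinearMap.lTensor _ (castL P (by omega : p = -q))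

theorem evLin_tmul (q p : ℤ) (h : q + p = 0) (φ : Module.Dual R (P.X (-q))) (x : P.X p) :
    evLin P q p h (φ ⊗ₜ[R] x) = φ (castL P (by omega : p = -q) x) := by
  simp [evLin]

/-- the evaluation in degree zero -/
noncomputable def ev₀ : ((dualCx P ⊗ P : Cx R).X 0) →ₗ[R] R :=
  desc (dualCx P) P (n := 0) (fun i => evLin P i.1.1 i.1.2 i.2)

theorem ev₀_tm (q p : ℤ) (h : q + p = 0) (φ : Module.Dual R (P.X (-q))) (x : P.X p) :
    ev₀ P (tm (dualCx P) P q p 0 h φ x) = φ (castL P (by omega : p = -q) x) := by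
  unfold ev₀
  rw [desc_tm]
  exact evLin_tmul P q p h φ x

theorem ev₀_d (z : (dualCx P ⊗ P : Cx R).X (-1)) :
    ev₀ P ((dualCx P ⊗ P : Cx R).d (-1) 0 z) = 0 := by
  induction z using tm_induction (dualCx P) P with
  | zero => simp only [map_zero]
  | add x y hx hy => simp only [map_add, hx, hy, add_zero]
  | tm' q p h φ x =>
    obtain rfl : p = -(q + 1) := by omega
    rw [d_tm (dualCx P) P q (-(q + 1)) (-1) 0 h (by norm_num), map_add, map_zsmul_unit]
    rw [ev₀_tm P (q + 1) (-(q + 1)) (by omega), ev₀_tm P q (-(q + 1) + 1) (by omega)]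
    rw [castL_d]
    change dualD P q (q + 1) φ (castL P _ x) + _ = 0
    rw [dualD_apply, d_castL]
    rw [Int.negOnePow_succ, Units.neg_smul, neg_add_cancel]

/-- the evaluation `P^∨ ⊗ P ⟶ 𝟙` -/
noncomputable def ev : (dualCx P ⊗ P : Cx R) ⟶ 𝟙_ (Cx R) :=
  HomologicalComplex.mkHomToSingle (ModuleCat.ofHom (ev₀ P)) (by
    intro i hi
    obtain rfl : i = -1 := by
      change i + 1 = 0 at hi
      omega
    ext z
    exact ev₀_d P z)

theorem ev_f_zero (z : (dualCx P ⊗ P : Cx R).X 0) : (ev P).f 0 z = ev₀ P z • unitElt R := by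
  unfold ev
  rw [HomologicalComplex.mkHomToSingle_f]
  change (singleObjXSelf (ComplexShape.up ℤ) 0 (𝟙_ (ModuleCat.{u} R))).inv (ev₀ P z) = _
  unfold unitElt
  rw [← map_smul]
  congr 1
  exact (mul_one _).symm

theorem ev_tm (q p : ℤ) (h : q + p = 0) (φ : Module.Dual R (P.X (-q))) (x : P.X p) :
    (ev P).f 0 (tm (dualCx P) P q p 0 h φ x) =
      φ (castL P (by omega : p = -q) x) • unitElt R := by
  rw [ev_f_zero, ev₀_tm]

end Dual

section Coev

variable (P : Cx R)

/-- an element of the dual complex as a linear form -/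
noncomputable def toDual (q : ℤ) : ((dualCx P).X q) →ₗ[R] Module.Dual R (P.X (-q)) := LinearMap.id

theorem ev_tm' (q p : ℤ) (h : q + p = 0) (φ : (dualCx P).X q) (x : P.X p) :
    (ev P).f 0 (tm (dualCx P) P q p 0 h φ x) =
      toDual P q φ (castL P (by omega : p = -q) x) • unitElt R :=
  ev_tm P q p h φ x

theorem dualCx_d_apply (q q' : ℤ) (φ : (dualCx P).X q) (x : P.X (-q')) :
    toDual P q' (((dualCx P).d q q').hom φ) x =
      ((q + 1).negOnePow : ℤˣ) • toDual P q φ ((P.d (-q') (-q)).hom x) :=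
  dualD_apply P q q' φ x

/-- `tauHom` for the terms of `P` and its dual -/
noncomputable def tauC (p q : ℤ) :
    (P.X p) ⊗[R] ((dualCx P).X q) →ₗ[R] (P.X (-q) →ₗ[R] P.X p) :=
  tauHom (P.X (-q)) (P.X p)

theorem tauC_tmul (p q : ℤ) (a : P.X p) (φ : (dualCx P).X q) (z : P.X (-q)) :
    tauC P p q (a ⊗ₜ[R] φ) z = (toDual P q φ z) • a :=
  tauHom_tmul (R := R) (M := P.X (-q)) (M' := P.X p) a (toDual P q φ) z

theorem tauC_rTensor (p p' q : ℤ) (g : P.X p →ₗ[R] P.X p') (t : (P.X p) ⊗[R] ((dualCx P).X q)) :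
    tauC P p' q (LinearMap.rTensor ((dualCx P).X q) g t) = g ∘ₗ tauC P p q t := by
  induction t using TensorProduct.induction_on with
  | zero => simp only [map_zero, LinearMap.comp_zero]
  | tmul a φ =>
    ext z
    rw [LinearMap.rTensor_tmul, LinearMap.comp_apply, tauC_tmul, tauC_tmul, map_smul]
  | add x y hx hy => simp only [map_add, hx, hy, LinearMap.comp_add]

theorem tauC_lTensor_d (p q q' : ℤ) (t : (P.X p) ⊗[R] ((dualCx P).X q)) (z : P.X (-q')) :
    tauC P p q' (LinearMap.lTensor (P.X p) ((dualCx P).d q q').hom t) z =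
      ((q + 1).negOnePow : ℤˣ) • tauC P p q t ((P.d (-q') (-q)).hom z) := by
  induction t using TensorProduct.induction_on with
  | zero => simp only [map_zero, LinearMap.zero_apply, smul_zero]
  | tmul a φ =>
    rw [LinearMap.lTensor_tmul, tauC_tmul, tauC_tmul, dualCx_d_apply]
    rw [Units.smul_def, Units.smul_def, smul_assoc]
  | add x y hx hy => simp only [map_add, LinearMap.add_apply, hx, hy, smul_add]

variable [hfin : ∀ i, Module.Finite R (P.X i)] [hproj : ∀ i, Module.Projective R (P.X i)]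

theorem tauC_injective (p q : ℤ) : Function.Injective (tauC P p q) :=
  tauHom_injective (R := R) (M := P.X (-q)) (M' := P.X p)

theorem tauC_surjective (p q : ℤ) : Function.Surjective (tauC P p q) :=
  tauHom_surjective (R := R) (M := P.X (-q)) (M' := P.X p)

/-- the canonical element of `P^p ⊗ (P^{-q})^*`, `p + q = 0` -/
noncomputable def cEl (p q : ℤ) (h : p + q = 0) : (P.X p) ⊗[R] ((dualCx P).X q) :=
  (tauC_surjective P p q (castL P (by omega : -q = p))).choose

theorem tauC_cEl (p q : ℤ) (h : p + q = 0) :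
    tauC P p q (cEl P p q h) = castL P (by omega : -q = p) :=
  (tauC_surjective P p q (castL P (by omega : -q = p))).choose_spec

theorem cEl_eq_zero (p q : ℤ) (h : p + q = 0) (hz : IsZero (P.X p)) : cEl P p q h = 0 := by
  have := ModuleCat.subsingleton_of_isZero hz
  exact Groth.Agent.Lib.Helper25.KFlat.tensor_eq_zero_of_subsingleton_left _

variable (a b : ℤ)

/-- the coevaluation element -/
noncomputable def cSum : (P ⊗ dualCx P : Cx R).X 0 :=
  ∑ q ∈ Finset.Icc (-b) (-a), inc P (dualCx P) (-q) q 0 (by omega) (cEl P (-q) q (by omega))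

variable (hP : ∀ i : ℤ, i < a ∨ b < i → IsZero (P.X i))

include hP in
theorem comp_cSum (p q : ℤ) (h : p + q = 0) :
    TensorCx.comp P (dualCx P) p q 0 h (cSum P a b) = cEl P p q h := by
  obtain rfl : p = -q := by omega
  unfold cSum
  rw [map_sum]
  rw [Finset.sum_eq_single q]
  · exact comp_inc_self P (dualCx P) (-q) q 0 h _
  · intro q' _ hne
    exact comp_inc_ne P (dualCx P) (-q) q (-q') q' 0 h (by omega) (by omega) _
  · intro hq
    rw [cEl_eq_zero P (-q) q (by omega) (hP (-q) (by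
      rw [Finset.mem_Icc] at hq
      omega)), map_zero, map_zero]

include hP in
theorem d_cSum : (P ⊗ dualCx P : Cx R).d 0 1 (cSum P a b) = 0 := by
  apply ext_comp P (dualCx P)
  intro p' q' h
  rw [map_zero]
  rw [comp_d P (dualCx P) (p' - 1) p' (q' - 1) q' 0 1 (by omega) (by omega) (by omega) h]
  rw [comp_cSum P a b hP, comp_cSum P a b hP]
  apply tauC_injective P p' q'
  rw [map_add, map_zero, map_zsmul_unit]
  rw [tauC_rTensor, tauC_cEl]
  ext x
  rw [LinearMap.add_apply, LinearMap.zero_apply, LinearMap.comp_apply]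
  have e3 : ∀ (u : ℤˣ) (f : P.X (-q') →ₗ[R] P.X p'), (u • f) x = u • f x := by
    intro u f
    rw [Units.smul_def, LinearMap.smul_apply, ← Units.smul_def]
  rw [e3, tauC_lTensor_d, tauC_cEl, d_castL, castL_d, smul_smul, ← Int.negOnePow_add]
  have e4 : (p' + (q' - 1 + 1)).negOnePow = -1 := by
    rw [show p' + (q' - 1 + 1) = 1 by omega]
    rfl
  rw [e4, Units.neg_smul, one_smul, add_neg_cancel]

/-- the coevaluation `𝟙 ⟶ P ⊗ P^∨` -/
noncomputable def coev : 𝟙_ (Cx R) ⟶ (P ⊗ dualCx P : Cx R) :=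
  HomologicalComplex.mkHomFromSingle
    (ModuleCat.ofHom (LinearMap.toSpanSingleton R _ (cSum P a b))) (by
    intro k hk
    obtain rfl : k = 1 := by
      change 0 + 1 = k at hk
      omega
    apply ModuleCat.hom_ext
    apply LinearMap.ext
    intro r
    change (P ⊗ dualCx P : Cx R).d 0 1 (LinearMap.toSpanSingleton R _ (cSum P a b) r) = 0
    rw [LinearMap.toSpanSingleton_apply, map_smul, d_cSum P a b hP, smul_zero])

theorem coev_f_zero : (coev P a b hP).f 0 (unitElt R) = cSum P a b := by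
  unfold coev
  rw [HomologicalComplex.mkHomFromSingle_f]
  unfold unitElt
  change LinearMap.toSpanSingleton R _ (cSum P a b)
    ((singleObjXSelf (ComplexShape.up ℤ) 0 (𝟙_ (ModuleCat.{u} R))).hom
      ((singleObjXSelf (ComplexShape.up ℤ) 0 (𝟙_ (ModuleCat.{u} R))).inv (1 : R))) = _
  have h1 : (singleObjXSelf (ComplexShape.up ℤ) 0 (𝟙_ (ModuleCat.{u} R))).hom
      ((singleObjXSelf (ComplexShape.up ℤ) 0 (𝟙_ (ModuleCat.{u} R))).inv (1 : R)) = (1 : R) := by
    change ((singleObjXSelf (ComplexShape.up ℤ) 0 (𝟙_ (ModuleCat.{u} R))).inv ≫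
      (singleObjXSelf (ComplexShape.up ℤ) 0 (𝟙_ (ModuleCat.{u} R))).hom) (1 : R) = 1
    rw [Iso.inv_hom_id]
    rfl
  rw [h1, LinearMap.toSpanSingleton_apply, one_smul]

end Coev

section Zigzag

variable (P : Cx R)

theorem ΦM_sum (M N : Cx R) (ε : (N ⊗ M : Cx R) ⟶ 𝟙_ (Cx R)) {ι : Type} (s : Finset ι)
    (f : ι → (M ⊗ N : Cx R).X 0) (n : ℤ) (x : M.X n) :
    ΦM M N ε (∑ i ∈ s, f i) n x = ∑ i ∈ s, ΦM M N ε (f i) n x := by
  classical
  induction s using Finset.induction_on with
  | empty => simp only [Finset.sum_empty, ΦM_zero]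
  | insert i s hi ih => rw [Finset.sum_insert hi, Finset.sum_insert hi, ΦM_add, ih]

theorem ΦN_sum (M N : Cx R) (ε : (N ⊗ M : Cx R) ⟶ 𝟙_ (Cx R)) {ι : Type} (s : Finset ι)
    (f : ι → (M ⊗ N : Cx R).X 0) (n : ℤ) (y : N.X n) :
    ΦN M N ε (∑ i ∈ s, f i) n y = ∑ i ∈ s, ΦN M N ε (f i) n y := by
  classical
  induction s using Finset.induction_on with
  | empty => simp only [Finset.sum_empty, ΦN_zero]
  | insert i s hi ih => rw [Finset.sum_insert hi, Finset.sum_insert hi, ΦN_add, ih]

theorem ΦM_inc_ne (p q : ℤ) (h : p + q = 0) (t : (P.X p) ⊗[R] ((dualCx P).X q)) (n : ℤ)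
    (hn : q + n ≠ 0) (x : P.X n) :
    ΦM P (dualCx P) (ev P) (inc P (dualCx P) p q 0 h t) n x = 0 := by
  induction t using TensorProduct.induction_on with
  | zero => rw [map_zero, ΦM_zero]
  | tmul a φ =>
    rw [inc_tmul, ΦM_tm P (dualCx P) (ev P) p q h a φ n (q + n) rfl x,
      unit_eq_zero (q + n) hn ((ev P).f (q + n) (tm (dualCx P) P q n (q + n) rfl φ x)),
      tm_zero_right]
  | add x y hx hy => rw [map_add, ΦM_add, hx, hy, add_zero]

theorem ΦM_inc_self (p q : ℤ) (h : p + q = 0) (t : (P.X p) ⊗[R] ((dualCx P).X q)) (n : ℤ)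
    (hn : q + n = 0) (x : P.X n) :
    ΦM P (dualCx P) (ev P) (inc P (dualCx P) p q 0 h t) n x =
      tm P (𝟙_ (Cx R)) p 0 n (by omega)
        (tauC P p q t (castL P (by omega : n = -q) x)) (unitElt R) := by
  induction t using TensorProduct.induction_on with
  | zero => rw [map_zero, ΦM_zero, map_zero, LinearMap.zero_apply, tm_zero_left]
  | tmul a φ =>
    rw [inc_tmul, ΦM_tm P (dualCx P) (ev P) p q h a φ n 0 hn x, ev_tm', tm_smul_right,
      ← tm_smul_left, tauC_tmul]
  | add x y hx hy => rw [map_add, ΦM_add, hx, hy, map_add, LinearMap.add_apply, tm_add_left]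

theorem tm_castL_left (p n : ℤ) (hnp : n = p) (hh : p + 0 = n) (x : P.X n) :
    tm P (𝟙_ (Cx R)) p 0 n hh (castL P hnp x) (unitElt R) =
      tm P (𝟙_ (Cx R)) n 0 n (add_zero n) x (unitElt R) := by
  subst hnp
  rfl

variable [hfin : ∀ i, Module.Finite R (P.X i)] [hproj : ∀ i, Module.Projective R (P.X i)]
variable (a b : ℤ) (hP : ∀ i : ℤ, i < a ∨ b < i → IsZero (P.X i))

include hP in
theorem ΦM_cSum (n : ℤ) (x : P.X n) :
    ΦM P (dualCx P) (ev P) (cSum P a b) n x =
      tm P (𝟙_ (Cx R)) n 0 n (add_zero n) x (unitElt R) := by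
  unfold cSum
  rw [ΦM_sum, Finset.sum_eq_single (-n)]
  · rw [ΦM_inc_self P (- -n) (-n) (by omega) _ n (by omega) x, tauC_cEl, castL_castL,
      tm_castL_left]
  · intro q _ hq
    exact ΦM_inc_ne P (-q) q (by omega) _ n (by omega) x
  · intro hn
    have hz : IsZero (P.X n) := hP n (by
      rw [Finset.mem_Icc] at hn
      omega)
    have := ModuleCat.subsingleton_of_isZero hz
    rw [Subsingleton.elim x 0]
    unfold ΦM
    rw [tm_zero_right, map_zero, map_zero]

include hP in
theorem evaluation_coevaluation :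
    coev P a b hP ▷ P ≫ (α_ P (dualCx P) P).hom ≫ P ◁ ev P = (λ_ P).hom ≫ (ρ_ P).inv := by
  rw [← cancel_epi (λ_ P).inv, Iso.inv_hom_id_assoc]
  apply HomologicalComplex.hom_ext
  intro n
  apply ModuleCat.hom_ext
  apply LinearMap.ext
  intro x
  change (P ◁ ev P).f n ((α_ P (dualCx P) P).hom.f n ((coev P a b hP ▷ P).f n
    ((λ_ P).inv.f n x))) = (ρ_ P).inv.f n x
  rw [leftUnitor_inv_f_apply, whiskerRight_tm, coev_f_zero, rightUnitor_inv_f_apply]
  exact ΦM_cSum P a b hP n x

omit hfin hproj in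
theorem ΦN_inc_ne (p q : ℤ) (h : p + q = 0) (t : (P.X p) ⊗[R] ((dualCx P).X q)) (n : ℤ)
    (hn : n + p ≠ 0) (y : (dualCx P).X n) :
    ΦN P (dualCx P) (ev P) (inc P (dualCx P) p q 0 h t) n y = 0 := by
  induction t using TensorProduct.induction_on with
  | zero => rw [map_zero, ΦN_zero]
  | tmul a φ =>
    rw [inc_tmul, ΦN_tm P (dualCx P) (ev P) p q h a φ n (n + p) rfl y,
      unit_eq_zero (n + p) hn ((ev P).f (n + p) (tm (dualCx P) P n p (n + p) rfl y a)),
      tm_zero_left]
  | add x y hx hy => rw [map_add, ΦN_add, hx, hy, add_zero]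

/-- `a ⊗ φ ↦ y(a) • φ` -/
noncomputable def sig (p q n : ℤ) (hn : n + p = 0) (y : (dualCx P).X n) :
    (P.X p) ⊗[R] ((dualCx P).X q) →ₗ[R] ((dualCx P).X q) :=
  (TensorProduct.lid R ((dualCx P).X q)).toLinearMap ∘ₗ
    LinearMap.rTensor ((dualCx P).X q) (toDual P n y ∘ₗ castL P (by omega : p = -n))

omit hfin hproj in
theorem sig_tmul (p q n : ℤ) (hn : n + p = 0) (y : (dualCx P).X n) (a : P.X p)
    (φ : (dualCx P).X q) :
    sig P p q n hn y (a ⊗ₜ[R] φ) = (toDual P n y (castL P (by omega : p = -n) a)) • φ := by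
  unfold sig
  rw [LinearMap.comp_apply, LinearMap.rTensor_tmul]
  exact TensorProduct.lid_tmul _ _

omit hfin hproj in
theorem toDual_sig (p q n : ℤ) (hn : n + p = 0) (y : (dualCx P).X n)
    (t : (P.X p) ⊗[R] ((dualCx P).X q)) (z : P.X (-q)) :
    toDual P q (sig P p q n hn y t) z =
      toDual P n y (castL P (by omega : p = -n) (tauC P p q t z)) := by
  induction t using TensorProduct.induction_on with
  | zero => simp only [map_zero, LinearMap.zero_apply]
  | tmul a φ =>
    rw [sig_tmul, tauC_tmul, map_smul, map_smul, map_smul, LinearMap.smul_apply, smul_eq_mul,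
      smul_eq_mul, mul_comm]
  | add x y hx hy => simp only [map_add, LinearMap.add_apply, hx, hy]

omit hfin hproj in
theorem ΦN_inc_self (p q : ℤ) (h : p + q = 0) (t : (P.X p) ⊗[R] ((dualCx P).X q)) (n : ℤ)
    (hn : n + p = 0) (y : (dualCx P).X n) :
    ΦN P (dualCx P) (ev P) (inc P (dualCx P) p q 0 h t) n y =
      tm (𝟙_ (Cx R)) (dualCx P) 0 q n (by omega) (unitElt R) (sig P p q n hn y t) := by
  induction t using TensorProduct.induction_on with
  | zero => rw [map_zero, ΦN_zero, map_zero, tm_zero_right]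
  | tmul a φ =>
    rw [inc_tmul, ΦN_tm P (dualCx P) (ev P) p q h a φ n 0 hn y, ev_tm', tm_smul_left,
      ← tm_smul_right, sig_tmul]
  | add x y hx hy => rw [map_add, ΦN_add, hx, hy, map_add, tm_add_right]

omit hfin hproj in
theorem tm_unit_dual_congr (q n : ℤ) (hqn : n = q) (hh : 0 + q = n) (y' : (dualCx P).X q)
    (y : (dualCx P).X n)
    (hy : ∀ z : P.X (-q), toDual P q y' z = toDual P n y (castL P (by omega : -q = -n) z)) :
    tm (𝟙_ (Cx R)) (dualCx P) 0 q n hh (unitElt R) y' =
      tm (𝟙_ (Cx R)) (dualCx P) 0 n n (zero_add n) (unitElt R) y := by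
  subst hqn
  have : y' = y := by
    apply (toDual P n).injective_of_comp_eq_id LinearMap.id rfl |>.eq_iff.mp
    exact LinearMap.ext hy
  rw [this]

include hP in
theorem ΦN_cSum (n : ℤ) (y : (dualCx P).X n) :
    ΦN P (dualCx P) (ev P) (cSum P a b) n y =
      tm (𝟙_ (Cx R)) (dualCx P) 0 n n (zero_add n) (unitElt R) y := by
  unfold cSum
  rw [ΦN_sum, Finset.sum_eq_single n]
  · rw [ΦN_inc_self P (-n) n (by omega) _ n (by omega) y]
    apply tm_unit_dual_congr P n n rfl
    intro z
    rw [toDual_sig, tauC_cEl, castL_castL]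
  · intro q _ hq
    exact ΦN_inc_ne P (-q) q (by omega) _ n (by omega) y
  · intro hn
    have hz : IsZero (P.X (-n)) := hP (-n) (by
      rw [Finset.mem_Icc] at hn
      omega)
    rw [cEl_eq_zero P (-n) n (by omega) hz, map_zero, ΦN_zero]

include hP in
theorem coevaluation_evaluation :
    dualCx P ◁ coev P a b hP ≫ (α_ (dualCx P) P (dualCx P)).inv ≫ ev P ▷ dualCx P =
      (ρ_ (dualCx P)).hom ≫ (λ_ (dualCx P)).inv := by
  rw [← cancel_epi (ρ_ (dualCx P)).inv, Iso.inv_hom_id_assoc]
  apply HomologicalComplex.hom_ext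
  intro n
  apply ModuleCat.hom_ext
  apply LinearMap.ext
  intro y
  change (ev P ▷ dualCx P).f n ((α_ (dualCx P) P (dualCx P)).inv.f n
    ((dualCx P ◁ coev P a b hP).f n ((ρ_ (dualCx P)).inv.f n y))) = (λ_ (dualCx P)).inv.f n y
  rw [rightUnitor_inv_f_apply, whiskerLeft_tm, coev_f_zero, leftUnitor_inv_f_apply]
  exact ΦN_cSum P a b hP n y

/-- `dualCx P` is a right dual of `P`. -/
noncomputable def exactPairing : ExactPairing P (dualCx P) where
  coevaluation' := coev P a b hP
  evaluation' := ev P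
  coevaluation_evaluation' := coevaluation_evaluation P a b hP
  evaluation_coevaluation' := evaluation_coevaluation P a b hP

end Zigzag

end Groth.Agent.Lib.Helper25.DualCx
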