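import Mathlib.AlgebraicGeometry.Sites.Etale
import Mathlib.AlgebraicGeometry.Morphisms.UniversallyOpen
import Mathlib.AlgebraicGeometry.Morphisms.Flat

set_option autoImplicit false
universe u w

namespace Groth.Agent.Lib.Helper25.EtaleCofan

open CategoryTheory CategoryTheory.Limits AlgebraicGeometry Opposite

/-- The legs of a colimit cofan in the small etale site are jointly surjective. -/
theorem iUnion_range_eq_univ {X : Scheme.{u}} {ι : Type w} {Z : ι → X.Etale} {W : X.Etale}
    (f : ∀ i, Z i ⟶ W) (h : IsColimit (Cofan.mk W f)) :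
    ⋃ i, Set.range (f i).left = Set.univ := by
  obtain ⟨V, hV⟩ : ∃ V : W.left.Opens, (V : Set W.left) = ⋃ i, Set.range (f i).left :=
    ⟨⟨⋃ i, Set.range (f i).left,
      isOpen_iUnion fun i => (f i).left.isOpenMap.isOpen_range⟩, rfl⟩
  let V' : X.Etale := Scheme.Etale.mk (V.ι ≫ W.hom)
  let j : V' ⟶ W := MorphismProperty.Over.homMk V.ι rfl trivial
  have hr : ∀ i, Set.range (f i).left ⊆ Set.range V.ι := by
    intro i
    rw [Scheme.Opens.range_ι, hV]
    exact Set.subset_iUnion (fun i => Set.range (f i).left) i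
  let lft : ∀ i, (Z i).left ⟶ (V : Scheme) := fun i => IsOpenImmersion.lift V.ι (f i).left (hr i)
  have hlft : ∀ i, lft i ≫ V.ι = (f i).left := fun i => IsOpenImmersion.lift_fac _ _ _
  let f' : ∀ i, Z i ⟶ V' := fun i =>
    MorphismProperty.Over.homMk (show (Z i).left ⟶ V'.left from lft i)
      (by
        change lft i ≫ V.ι ≫ W.hom = (Z i).hom
        rw [← Category.assoc, hlft]
        exact MorphismProperty.Over.w (f i)) trivial
  have hf' : ∀ i, f' i ≫ j = f i := by
    intro i
    apply MorphismProperty.Over.Hom.ext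
    have : (f' i ≫ j).left = lft i ≫ V.ι := rfl
    rw [this]
    exact hlft i
  let d : W ⟶ V' := Cofan.IsColimit.desc h f'
  have hd : d ≫ j = 𝟙 W := by
    apply Cofan.IsColimit.hom_ext h
    intro i
    change f i ≫ d ≫ j = f i ≫ 𝟙 W
    rw [← Category.assoc]
    have : f i ≫ d = f' i := Cofan.IsColimit.fac h f' i
    rw [this, hf' i, Category.comp_id]
  rw [Set.eq_univ_iff_forall]
  intro w
  have h1 : (d ≫ j).left w = w := by
    rw [hd]
    rfl
  have h2 : (d ≫ j).left w = V.ι (d.left w) := rfl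
  have h3 : w ∈ Set.range V.ι := ⟨d.left w, by rw [← h2, h1]⟩
  rw [Scheme.Opens.range_ι, hV] at h3
  exact h3

end Groth.Agent.Lib.Helper25.EtaleCofan
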