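import Groth.Agent.Lib.Helper25.TensorAssoc
import Groth.Prelude.Def_DRing2
import Mathlib.RingTheory.Finiteness.Prod
import Mathlib.CategoryTheory.Monoidal.Rigid.Basic
import Mathlib.LinearAlgebra.FreeModule.Basic

/-!
# Dualizable complexes are bounded with finite projective terms
-/

set_option autoImplicit false
universe u

namespace Groth.Agent.Lib.Helper25.ExactPairingCx

open CategoryTheory CategoryTheory.Limits MonoidalCategory HomologicalComplex
open Groth.Agent.Lib.Helper25.TensorCx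

variable {R : Type u} [CommRing R]

section Left

variable (M N : Cx R) (ε : (N ⊗ M : Cx R) ⟶ 𝟙_ (Cx R))

/-- The composite `(M ◁ ε) ∘ α ∘ (t ⊗ -)`. -/
noncomputable def ΦM (t : (M ⊗ N : Cx R).X 0) (n : ℤ) (x : M.X n) : (M ⊗ 𝟙_ (Cx R) : Cx R).X n :=
  (M ◁ ε).f n ((α_ M N M).hom.f n (tm (M ⊗ N) M 0 n n (zero_add n) t x))

theorem ΦM_zero (n : ℤ) (x : M.X n) : ΦM M N ε 0 n x = 0 := by
  unfold ΦM
  rw [tm_zero_left, map_zero, map_zero]

theorem ΦM_add (t t' : (M ⊗ N : Cx R).X 0) (n : ℤ) (x : M.X n) :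
    ΦM M N ε (t + t') n x = ΦM M N ε t n x + ΦM M N ε t' n x := by
  unfold ΦM
  rw [tm_add_left, map_add, map_add]

theorem ΦM_tm (p q : ℤ) (h : p + q = 0) (a : M.X p) (b : N.X q) (n m : ℤ) (hm : q + n = m)
    (x : M.X n) :
    ΦM M N ε (tm M N p q 0 h a b) n x =
      tm M (𝟙_ (Cx R)) p m n (by omega) a (ε.f m (tm N M q n m hm b x)) := by
  unfold ΦM
  rw [associator_hom_tm M N M p q n 0 m n h (zero_add n) hm (by omega), whiskerLeft_tm]

theorem ΦM_bounded (t : (M ⊗ N : Cx R).X 0) :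
    ∃ S : Finset ℤ, ∀ n : ℤ, n ∉ S → ∀ x : M.X n, ΦM M N ε t n x = 0 := by
  classical
  induction t using tm_induction M N with
  | zero => exact ⟨∅, fun n _ x => ΦM_zero M N ε n x⟩
  | add t t' ht ht' =>
    obtain ⟨S, hS⟩ := ht
    obtain ⟨S', hS'⟩ := ht'
    refine ⟨S ∪ S', fun n hn x => ?_⟩
    rw [Finset.mem_union, not_or] at hn
    rw [ΦM_add, hS n hn.1 x, hS' n hn.2 x, add_zero]
  | tm' p q h a b =>
    refine ⟨{p}, fun n hn x => ?_⟩
    rw [Finset.mem_singleton] at hn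
    rw [ΦM_tm M N ε p q h a b n (q + n) rfl x]
    rw [unit_eq_zero (q + n) (by omega) (ε.f (q + n) _), tm_zero_right]

theorem ΦM_split (n : ℤ) (t : (M ⊗ N : Cx R).X 0) :
    ∃ (F : Type u) (_ : AddCommGroup F) (_ : Module R F) (_ : Module.Finite R F)
      (_ : Module.Free R F) (i : M.X n →ₗ[R] F) (π : F →ₗ[R] M.X n),
      ∀ x : M.X n, ΦM M N ε t n x = tm M (𝟙_ (Cx R)) n 0 n (add_zero n) (π (i x)) (unitElt R) := by
  induction t using tm_induction M N with
  | zero =>
    refine ⟨R, inferInstance, inferInstance, inferInstance, inferInstance, 0, 0, fun x => ?_⟩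
    rw [ΦM_zero]
    simp only [LinearMap.zero_apply]
    rw [tm_zero_left]
  | add t t' ht ht' =>
    obtain ⟨F, _, _, _, _, i, π, h⟩ := ht
    obtain ⟨F', _, _, _, _, i', π', h'⟩ := ht'
    refine ⟨F × F', inferInstance, inferInstance, inferInstance, inferInstance,
      i.prod i', π.coprod π', fun x => ?_⟩
    rw [ΦM_add, h x, h' x, ← tm_add_left]
    rfl
  | tm' p q h a b =>
    by_cases hp : p = n
    · subst hp
      have hq : q + p = 0 := by omega
      refine ⟨R, inferInstance, inferInstance, inferInstance, inferInstance,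
        unitCoord R ∘ₗ (ε.f 0).hom ∘ₗ inc N M q p 0 hq ∘ₗ TensorProduct.mk R _ _ b,
        LinearMap.toSpanSingleton R _ a, fun x => ?_⟩
      rw [ΦM_tm M N ε p q h a b p 0 hq x]
      conv_lhs => rw [← unitCoord_smul_unitElt (ε.f 0 (tm N M q p 0 hq b x))]
      rw [tm_smul_right, ← tm_smul_left]
      rfl
    · refine ⟨R, inferInstance, inferInstance, inferInstance, inferInstance, 0, 0, fun x => ?_⟩
      rw [ΦM_tm M N ε p q h a b n (q + n) rfl x]
      rw [unit_eq_zero (q + n) (by omega) (ε.f (q + n) _), tm_zero_right]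
      simp only [LinearMap.zero_apply]
      rw [tm_zero_left]

variable (η : 𝟙_ (Cx R) ⟶ (M ⊗ N : Cx R))

theorem ΦM_eq (h : η ▷ M ≫ (α_ M N M).hom ≫ M ◁ ε = (λ_ M).hom ≫ (ρ_ M).inv) (n : ℤ)
    (x : M.X n) :
    ΦM M N ε (η.f 0 (unitElt R)) n x = tm M (𝟙_ (Cx R)) n 0 n (add_zero n) x (unitElt R) := by
  unfold ΦM
  rw [← whiskerRight_tm η M 0 n n (zero_add n) (unitElt R) x, ← leftUnitor_inv_f_apply,
    ← rightUnitor_inv_f_apply]
  have := congrArg (fun φ => φ.f n ((λ_ M).inv.f n x)) h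
  simp only [HomologicalComplex.comp_f, ModuleCat.comp_apply] at this
  rw [this, leftUnitor_hom_inv_apply]

theorem left_result (h : η ▷ M ≫ (α_ M N M).hom ≫ M ◁ ε = (λ_ M).hom ≫ (ρ_ M).inv) :
    (∃ a b : ℤ, DRing.VanishesOutside M a b) ∧ DRing.TermwiseFiniteProjective M := by
  constructor
  · obtain ⟨S, hS⟩ := ΦM_bounded M N ε (η.f 0 (unitElt R))
    obtain ⟨b, hb⟩ := S.bddAbove
    obtain ⟨a, ha⟩ := S.bddBelow
    refine ⟨a, b, fun i hi => ?_⟩
    have hiS : i ∉ S := by
      intro hmem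
      have h1 := ha hmem
      have h2 := hb hmem
      omega
    have hz : ∀ x : M.X i, x = 0 := by
      intro x
      apply tm_unit_right_injective M i
      rw [← ΦM_eq M N ε η h i x, hS i hiS x, tm_zero_left]
    have : Subsingleton (M.X i) := ⟨fun x y => by rw [hz x, hz y]⟩
    exact ModuleCat.isZero_of_subsingleton _
  · intro n
    obtain ⟨F, _, _, _, _, i, π, hF⟩ := ΦM_split M N ε n (η.f 0 (unitElt R))
    have hπi : ∀ x, π (i x) = x := by
      intro x
      apply tm_unit_right_injective M n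
      rw [← hF x, ΦM_eq M N ε η h n x]
    have hsurj : Function.Surjective π := fun x => ⟨i x, hπi x⟩
    exact ⟨Module.Finite.of_surjective π hsurj, Module.Projective.of_split i π (LinearMap.ext hπi)⟩

end Left

section Right

variable (M N : Cx R) (ε : (N ⊗ M : Cx R) ⟶ 𝟙_ (Cx R))

/-- The composite `(ε ▷ N) ∘ α⁻¹ ∘ (- ⊗ t)`. -/
noncomputable def ΦN (t : (M ⊗ N : Cx R).X 0) (n : ℤ) (y : N.X n) : (𝟙_ (Cx R) ⊗ N : Cx R).X n :=
  (ε ▷ N).f n ((α_ N M N).inv.f n (tm N (M ⊗ N) n 0 n (add_zero n) y t))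

theorem ΦN_zero (n : ℤ) (y : N.X n) : ΦN M N ε 0 n y = 0 := by
  unfold ΦN
  rw [tm_zero_right, map_zero, map_zero]

theorem ΦN_add (t t' : (M ⊗ N : Cx R).X 0) (n : ℤ) (y : N.X n) :
    ΦN M N ε (t + t') n y = ΦN M N ε t n y + ΦN M N ε t' n y := by
  unfold ΦN
  rw [tm_add_right, map_add, map_add]

theorem ΦN_tm (p q : ℤ) (h : p + q = 0) (a : M.X p) (b : N.X q) (n m : ℤ) (hm : n + p = m)
    (y : N.X n) :
    ΦN M N ε (tm M N p q 0 h a b) n y =
      tm (𝟙_ (Cx R)) N m q n (by omega) (ε.f m (tm N M n p m hm y a)) b := by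
  unfold ΦN
  rw [associator_inv_tm N M N n p q m 0 n hm (by omega) h (add_zero n), whiskerRight_tm]

theorem ΦN_bounded (t : (M ⊗ N : Cx R).X 0) :
    ∃ S : Finset ℤ, ∀ n : ℤ, n ∉ S → ∀ y : N.X n, ΦN M N ε t n y = 0 := by
  classical
  induction t using tm_induction M N with
  | zero => exact ⟨∅, fun n _ y => ΦN_zero M N ε n y⟩
  | add t t' ht ht' =>
    obtain ⟨S, hS⟩ := ht
    obtain ⟨S', hS'⟩ := ht'
    refine ⟨S ∪ S', fun n hn y => ?_⟩
    rw [Finset.mem_union, not_or] at hn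
    rw [ΦN_add, hS n hn.1 y, hS' n hn.2 y, add_zero]
  | tm' p q h a b =>
    refine ⟨{q}, fun n hn y => ?_⟩
    rw [Finset.mem_singleton] at hn
    rw [ΦN_tm M N ε p q h a b n (n + p) rfl y]
    rw [unit_eq_zero (n + p) (by omega) (ε.f (n + p) _), tm_zero_left]

theorem ΦN_split (n : ℤ) (t : (M ⊗ N : Cx R).X 0) :
    ∃ (F : Type u) (_ : AddCommGroup F) (_ : Module R F) (_ : Module.Finite R F)
      (_ : Module.Free R F) (i : N.X n →ₗ[R] F) (π : F →ₗ[R] N.X n),
      ∀ y : N.X n, ΦN M N ε t n y = tm (𝟙_ (Cx R)) N 0 n n (zero_add n) (unitElt R) (π (i y)) := by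
  induction t using tm_induction M N with
  | zero =>
    refine ⟨R, inferInstance, inferInstance, inferInstance, inferInstance, 0, 0, fun y => ?_⟩
    rw [ΦN_zero]
    simp only [LinearMap.zero_apply]
    rw [tm_zero_right]
  | add t t' ht ht' =>
    obtain ⟨F, _, _, _, _, i, π, h⟩ := ht
    obtain ⟨F', _, _, _, _, i', π', h'⟩ := ht'
    refine ⟨F × F', inferInstance, inferInstance, inferInstance, inferInstance,
      i.prod i', π.coprod π', fun y => ?_⟩
    rw [ΦN_add, h y, h' y, ← tm_add_right]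
    rfl
  | tm' p q h a b =>
    by_cases hq : q = n
    · subst hq
      have hp : q + p = 0 := by omega
      refine ⟨R, inferInstance, inferInstance, inferInstance, inferInstance,
        unitCoord R ∘ₗ (ε.f 0).hom ∘ₗ inc N M q p 0 hp ∘ₗ (TensorProduct.mk R _ _).flip a,
        LinearMap.toSpanSingleton R _ b, fun y => ?_⟩
      rw [ΦN_tm M N ε p q h a b q 0 hp y]
      conv_lhs => rw [← unitCoord_smul_unitElt (ε.f 0 (tm N M q p 0 hp y a))]
      rw [tm_smul_left, ← tm_smul_right]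
      rfl
    · refine ⟨R, inferInstance, inferInstance, inferInstance, inferInstance, 0, 0, fun y => ?_⟩
      rw [ΦN_tm M N ε p q h a b n (n + p) rfl y]
      rw [unit_eq_zero (n + p) (by omega) (ε.f (n + p) _), tm_zero_left]
      simp only [LinearMap.zero_apply]
      rw [tm_zero_right]

variable (η : 𝟙_ (Cx R) ⟶ (M ⊗ N : Cx R))

theorem ΦN_eq (h : N ◁ η ≫ (α_ N M N).inv ≫ ε ▷ N = (ρ_ N).hom ≫ (λ_ N).inv) (n : ℤ)
    (y : N.X n) :
    ΦN M N ε (η.f 0 (unitElt R)) n y = tm (𝟙_ (Cx R)) N 0 n n (zero_add n) (unitElt R) y := by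
  unfold ΦN
  rw [← whiskerLeft_tm N η n 0 n (add_zero n) y (unitElt R), ← leftUnitor_inv_f_apply,
    ← rightUnitor_inv_f_apply]
  have := congrArg (fun φ => φ.f n ((ρ_ N).inv.f n y)) h
  simp only [HomologicalComplex.comp_f, ModuleCat.comp_apply] at this
  rw [this, rightUnitor_hom_inv_apply]

theorem right_result (h : N ◁ η ≫ (α_ N M N).inv ≫ ε ▷ N = (ρ_ N).hom ≫ (λ_ N).inv) :
    (∃ a b : ℤ, DRing.VanishesOutside N a b) ∧ DRing.TermwiseFiniteProjective N := by
  constructor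
  · obtain ⟨S, hS⟩ := ΦN_bounded M N ε (η.f 0 (unitElt R))
    obtain ⟨b, hb⟩ := S.bddAbove
    obtain ⟨a, ha⟩ := S.bddBelow
    refine ⟨a, b, fun i hi => ?_⟩
    have hiS : i ∉ S := by
      intro hmem
      have h1 := ha hmem
      have h2 := hb hmem
      omega
    have hz : ∀ y : N.X i, y = 0 := by
      intro y
      apply tm_unit_left_injective N i
      rw [← ΦN_eq M N ε η h i y, hS i hiS y, tm_zero_right]
    have : Subsingleton (N.X i) := ⟨fun x y => by rw [hz x, hz y]⟩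
    exact ModuleCat.isZero_of_subsingleton _
  · intro n
    obtain ⟨F, _, _, _, _, i, π, hF⟩ := ΦN_split M N ε n (η.f 0 (unitElt R))
    have hπi : ∀ y, π (i y) = y := by
      intro y
      apply tm_unit_left_injective N n
      rw [← hF y, ΦN_eq M N ε η h n y]
    have hsurj : Function.Surjective π := fun y => ⟨i y, hπi y⟩
    exact ⟨Module.Finite.of_surjective π hsurj, Module.Projective.of_split i π (LinearMap.ext hπi)⟩

end Right

/-- A dualizable complex and its dual are bounded with finite projective terms. -/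
theorem exactPairing_result (M N : Cx R) [ExactPairing M N] :
    (∃ a b : ℤ, DRing.VanishesOutside M a b) ∧ (∃ a b : ℤ, DRing.VanishesOutside N a b) ∧
      DRing.TermwiseFiniteProjective M ∧ DRing.TermwiseFiniteProjective N := by
  have hl := left_result M N (ε_ M N) (η_ M N) (ExactPairing.evaluation_coevaluation M N)
  have hr := right_result M N (ε_ M N) (η_ M N) (ExactPairing.coevaluation_evaluation M N)
  exact ⟨hl.1, hr.1, hl.2, hr.2⟩

end Groth.Agent.Lib.Helper25.ExactPairingCx
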