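import Groth.Prelude.Def_AlgGrp

/-!
# T3 for S15592 (helper71's call): fixed points transport along an isomorphism of group objects
-/

set_option autoImplicit false
universe u

open CategoryTheory CategoryTheory.Limits MonoidalCategory CartesianMonoidalCategory MonObj
  AlgebraicGeometry

namespace Groth.Agent.Lib.Helper25.FixPtT3

variable {S : Scheme.{u}}

/-- restriction of an action along a homomorphism of group objects -/
noncomputable def restrictAction {G H X : Over S} [GrpObj G] [GrpObj H] (φ : H ⟶ G) [IsMonHom φ]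
    (a : AlgGrp.Action G X) : AlgGrp.Action H X where
  act := (φ ▷ X) ≫ a.act
  one_act := by
    rw [← comp_whiskerRight_assoc, IsMonHom.one_hom, a.one_act]
  mul_act := by
    rw [← comp_whiskerRight_assoc, IsMonHom.mul_hom, comp_whiskerRight_assoc, a.mul_act]
    simp only [tensorHom_def, comp_whiskerRight, Category.assoc, whisker_assoc,
      MonoidalCategory.whiskerLeft_comp, Iso.inv_hom_id_assoc]
    simp only [← Category.assoc]
    congr 1
    simp only [Category.assoc]
    rw [associator_naturality_left_assoc, ← whisker_exchange_assoc, ← whisker_exchange]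

theorem fixed_of_iso {G H X : Over S} [GrpObj G] [GrpObj H] (e : Grp.mk G ≅ Grp.mk H)
    (hH : ∀ a' : AlgGrp.Action H X, ∃ x : 𝟙_ (Over S) ⟶ X, a'.IsFixedPt x)
    (a : AlgGrp.Action G X) : ∃ x : 𝟙_ (Over S) ⟶ X, a.IsFixedPt x := by
  let φ : H ⟶ G := e.inv.hom.hom
  let ψ : G ⟶ H := e.hom.hom.hom
  have hψφ : ψ ≫ φ = 𝟙 G := by
    have h1 : (e.hom ≫ e.inv).hom.hom = ψ ≫ φ := rfl
    have h2 : (𝟙 (Grp.mk G) : Grp.mk G ⟶ Grp.mk G).hom.hom = 𝟙 G := rfl
    rw [← h1, e.hom_inv_id, h2]
  obtain ⟨x, hx⟩ := hH (restrictAction φ a)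
  refine ⟨x, fun T g => ?_⟩
  have := hx T (g ≫ ψ)
  simp only [restrictAction] at this
  rw [← Category.assoc, lift_whiskerRight, Category.assoc, hψφ, Category.comp_id] at this
  exact this

end Groth.Agent.Lib.Helper25.FixPtT3
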