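import Groth.Prelude.Def_EtCore
import Groth.Agent.Lib.Helper25.EtaleCofan
import Mathlib.CategoryTheory.Sites.IsSheafFor

set_option autoImplicit false
universe u w

namespace Groth.Agent.Lib.Helper25.GaloisCover

open CategoryTheory CategoryTheory.Limits AlgebraicGeometry Opposite

theorem isSheafFor_singleton_iff (X : Scheme.{u}) (Y : X.Etale) {G : Type u} [Group G]
    (σ : G →* Aut Y) (P : X.Etaleᵒᵖ ⥤ Type w)
    (hP : Function.Injective (fun s : P.obj (op (Y ⨯ Y)) => fun g : G =>
      P.map (prod.lift (𝟙 Y) (σ g).hom).op s)) :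
    Presieve.IsSheafFor P (Presieve.singleton ((EtCore.topIsTerminal X).from Y)) ↔
      (Function.Injective (P.map ((EtCore.topIsTerminal X).from Y).op) ∧
        Set.range (P.map ((EtCore.topIsTerminal X).from Y).op) =
          {s | ∀ g : G, P.map (σ g).hom.op s = s}) := by
  have hterm : ∀ {Z : X.Etale} (a b : Z ⟶ EtCoh.top X), a = b :=
    fun a b => (EtCore.topIsTerminal X).hom_ext a b
  have hinv : ∀ y : P.obj (op Y), (∀ g : G, P.map (σ g).hom.op y = y) →
      ∀ {Z : X.Etale} (g₁ g₂ : Z ⟶ Y), P.map g₁.op y = P.map g₂.op y := by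
    intro y hy Z g₁ g₂
    have h1 : P.map (prod.fst : Y ⨯ Y ⟶ Y).op y = P.map (prod.snd : Y ⨯ Y ⟶ Y).op y := by
      apply hP
      funext g
      simp only
      rw [← FunctorToTypes.map_comp_apply, ← FunctorToTypes.map_comp_apply, ← op_comp, ← op_comp,
        prod.lift_fst, prod.lift_snd, hy g]
      simp
    calc P.map g₁.op y = P.map (prod.lift g₁ g₂).op (P.map prod.fst.op y) := by
          rw [← FunctorToTypes.map_comp_apply, ← op_comp, prod.lift_fst]
      _ = P.map (prod.lift g₁ g₂).op (P.map prod.snd.op y) := by rw [h1]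
      _ = P.map g₂.op y := by
          rw [← FunctorToTypes.map_comp_apply, ← op_comp, prod.lift_snd]
  rw [Presieve.isSheafFor_singleton]
  constructor
  · intro hS
    refine ⟨?_, ?_⟩
    · intro t₁ t₂ h
      have hc : ∀ {Z : X.Etale} (p₁ p₂ : Z ⟶ Y),
          p₁ ≫ (EtCore.topIsTerminal X).from Y = p₂ ≫ (EtCore.topIsTerminal X).from Y →
          P.map p₁.op (P.map ((EtCore.topIsTerminal X).from Y).op t₁) =
            P.map p₂.op (P.map ((EtCore.topIsTerminal X).from Y).op t₁) := by
        intro Z p₁ p₂ hp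
        rw [← FunctorToTypes.map_comp_apply, ← FunctorToTypes.map_comp_apply, ← op_comp,
          ← op_comp, hp]
      exact (hS _ hc).unique rfl h.symm
    · ext y
      constructor
      · rintro ⟨t, rfl⟩ g
        rw [← FunctorToTypes.map_comp_apply, ← op_comp,
          show (σ g).hom ≫ (EtCore.topIsTerminal X).from Y = (EtCore.topIsTerminal X).from Y from
            hterm _ _]
      · intro hy
        obtain ⟨t, ht, -⟩ := hS y (fun p₁ p₂ _ => hinv y hy p₁ p₂)
        exact ⟨t, ht⟩
  · rintro ⟨hinj, hrange⟩ y hy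
    have hy' : y ∈ {s | ∀ g : G, P.map (σ g).hom.op s = s} := by
      intro g
      have := hy (σ g).hom (𝟙 Y) (hterm _ _)
      simpa using this
    rw [← hrange] at hy'
    obtain ⟨t, ht⟩ := hy'
    exact ⟨t, ht, fun t' ht' => hinj (ht'.trans ht.symm)⟩

theorem galois_sections (X : Scheme.{u}) (Y : X.Etale) (hY : Function.Surjective Y.hom.base)
    {G : Type u} [Group G] (σ : G →* Aut Y)
    (hgal : Nonempty (IsColimit (Cofan.mk (Y ⨯ Y) (fun g : G => prod.lift (𝟙 Y) (σ g).hom))))
    (P : X.Etaleᵒᵖ ⥤ Type w) (hP : Presieve.IsSheaf X.smallEtaleTopology P) :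
    Function.Injective (P.map ((EtCore.topIsTerminal X).from Y).op) ∧
      Set.range (P.map ((EtCore.topIsTerminal X).from Y).op) =
        {s | ∀ g : G, P.map (σ g).hom.op s = s} := by
  obtain ⟨hgal⟩ := hgal
  have hcov2 : Sieve.ofArrows (fun _ : G => Y) (fun g : G => prod.lift (𝟙 Y) (σ g).hom) ∈
      X.smallEtaleTopology (Y ⨯ Y) := by
    rw [Scheme.ofArrows_mem_smallEtaleTopology_iff]
    exact EtaleCofan.iUnion_range_eq_univ _ hgal
  have hcov1 : Sieve.ofArrows (fun _ : PUnit.{1} => Y)
      (fun _ => (EtCore.topIsTerminal X).from Y) ∈ X.smallEtaleTopology (EtCoh.top X) := by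
    rw [Scheme.ofArrows_mem_smallEtaleTopology_iff]
    rw [Set.eq_univ_iff_forall]
    intro x
    obtain ⟨y, rfl⟩ := hY x
    refine Set.mem_iUnion.2 ⟨PUnit.unit, y, ?_⟩
    have h1 : ((EtCore.topIsTerminal X).from Y).left ≫ (EtCoh.top X).hom = Y.hom :=
      MorphismProperty.Over.w _
    have h2 : ((EtCore.topIsTerminal X).from Y).left = Y.hom := by
      rw [← h1]
      exact (Category.comp_id _).symm
    rw [h2]
    rfl
  have hinj : Function.Injective (fun s : P.obj (op (Y ⨯ Y)) => fun g : G =>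
      P.map (prod.lift (𝟙 Y) (σ g).hom).op s) := by
    intro s s' hss'
    refine (hP.isSheafFor (Presieve.ofArrows (fun _ : G => Y)
      (fun g : G => prod.lift (𝟙 Y) (σ g).hom)) hcov2).isSeparatedFor.ext ?_
    rintro _ _ ⟨g⟩
    exact congrFun hss' g
  refine (isSheafFor_singleton_iff X Y σ P hinj).1 ?_
  have := hP.isSheafFor (Presieve.ofArrows (fun _ : PUnit.{1} => Y)
      (fun _ => (EtCore.topIsTerminal X).from Y)) hcov1
  rwa [Presieve.ofArrows_pUnit] at this

end Groth.Agent.Lib.Helper25.GaloisCover
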