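import Mathlib.RingTheory.Smooth.Field
import Mathlib.RingTheory.Nilpotent.GeometricallyReduced
import Mathlib.RingTheory.Flat.Basic
import Mathlib.FieldTheory.SeparablyGenerated
import Mathlib.FieldTheory.IsAlgClosed.AlgebraicClosure

set_option autoImplicit false
universe u

namespace Groth.Agent.Lib.Helper25

open TensorProduct

theorem linearIndepOn_pow_of_isGeometricallyReduced {k K : Type u} [Field k] [Field K] [Algebra k K]
    [Algebra.IsGeometricallyReduced k K] (p : ℕ) (hp : p.Prime) [CharP k p]
    (s : Finset K) (hs : LinearIndepOn k _root_.id (s : Set K)) :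
    LinearIndepOn k (· ^ p) (s : Set K) := by
  classical
  let kb := AlgebraicClosure k
  have hred : IsReduced (kb ⊗[k] K) := inferInstance
  have hnt : Nontrivial (kb ⊗[k] K) :=
    Algebra.TensorProduct.nontrivial_of_algebraMap_injective_of_flat_left k kb K
      (algebraMap k K).injective
  haveI : CharP (kb ⊗[k] K) p :=
    charP_of_injective_algebraMap (algebraMap k (kb ⊗[k] K)).injective p
  haveI : Fact p.Prime := ⟨hp⟩
  rw [LinearIndepOn, Fintype.linearIndependent_iff]
  intro c hc i
  choose a ha using fun j : (s : Set K) =>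
    IsAlgClosed.exists_pow_nat_eq (algebraMap k kb (c j)) hp.pos
  have hx : (∑ j, a j ⊗ₜ[k] (j : K)) ^ p = 0 := by
    rw [sum_pow_char]
    simp only [Algebra.TensorProduct.tmul_pow, ha]
    have : ∀ j : (s : Set K), algebraMap k kb (c j) ⊗ₜ[k] ((j : K) ^ p) =
        (1 : kb) ⊗ₜ[k] (c j • (j : K) ^ p) := by
      intro j; rw [Algebra.algebraMap_eq_smul_one, TensorProduct.smul_tmul]
    simp only [this, ← TensorProduct.tmul_sum]
    rw [hc, TensorProduct.tmul_zero]
  have hx0 : ∑ j, a j ⊗ₜ[k] (j : K) = 0 := IsReduced.eq_zero _ ⟨p, hx⟩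
  have hli := Module.Flat.linearIndependent_one_tmul (S := kb) hs
  rw [Fintype.linearIndependent_iff] at hli
  have h1 := hli a (by simpa [TensorProduct.smul_tmul', smul_eq_mul] using hx0) i
  have h0 : algebraMap k kb (c i) = 0 := by rw [← ha i, h1, zero_pow hp.ne_zero]
  exact (map_eq_zero _).mp h0

theorem formallySmooth_of_essFiniteType_of_isGeometricallyReduced (k K : Type u) [Field k] [Field K]
    [Algebra k K] [Algebra.EssFiniteType k K] [Algebra.IsGeometricallyReduced k K] :
    Algebra.FormallySmooth k K := by
  obtain _ | ⟨p, hp, hpk⟩ := CharP.exists' k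
  · exact Algebra.FormallySmooth.of_perfectField
  · have : CharP k p := hpk
    obtain ⟨s, hs, H⟩ :=
      exists_isTranscendenceBasis_and_isSeparable_of_linearIndepOn_pow_of_essFiniteType p hp.out
        (k := k) (K := K)
        (fun s hs => linearIndepOn_pow_of_isGeometricallyReduced (k := k) (K := K) p hp.out s hs)
    have : Algebra.IsSeparable (↥(IntermediateField.adjoin k (Set.range ((↑) : s → K)))) K := by
      convert! H <;> simp
    exact .of_algebraicIndependent_of_isSeparable hs.1

end Groth.Agent.Lib.Helper25
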