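import Groth.Agent.Lib.Helper25.KFlat
import Groth.Agent.Lib.Helper25.KFlatColim
import Mathlib.Algebra.Homology.BifunctorHomotopy
import Mathlib.Algebra.Homology.HomotopyCategory.DegreewiseSplit

set_option autoImplicit false
universe u

namespace Groth.Agent.Lib.Helper25.KFlat

open CategoryTheory CategoryTheory.Limits MonoidalCategory HomologicalComplex TensorProduct
open Groth.Agent.Lib.Helper25.TensorCx

variable {R : Type u} [CommRing R]

section Whisker'

variable (L : Cx R)

/-- Tensoring a short exact sequence on the left gives a short exact sequence as soon as the maps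
`L^p ⊗ X₁^q → L^p ⊗ X₂^q` are injective. -/
theorem shortExact_whiskerLeft' (S : ShortComplex (Cx R)) (hS : S.ShortExact)
    (hinjT : ∀ p q : ℤ, Function.Injective (LinearMap.lTensor (L.X p) (S.f.f q).hom)) :
    (whiskerLeftShortComplex L S).ShortExact := by
  have hSq : ∀ q : ℤ, (S.map (eval _ _ q)).ShortExact := fun q => hS.map_of_exact _
  have hsurj : ∀ q : ℤ, Function.Surjective (S.g.f q).hom := fun q =>
    (hSq q).moduleCat_surjective_g
  have hex : ∀ q : ℤ, Function.Exact (S.f.f q).hom (S.g.f q).hom := fun q =>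
    (ShortComplex.ShortExact.moduleCat_exact_iff_function_exact _).1 (hSq q).exact
  apply shortExact_of_degreewise_shortExact
  intro n
  have hmono : Function.Injective ((L ◁ S.f).f n).hom := by
    intro x y hxy
    apply ext_comp
    intro p q h
    have h1 := comp_whiskerLeft L S.f p q n h x
    have h2 := comp_whiskerLeft L S.f p q n h y
    have hxy' : (L ◁ S.f).f n x = (L ◁ S.f).f n y := hxy
    rw [hxy'] at h1
    exact hinjT p q (h1.symm.trans h2)
  have hepi : Function.Surjective ((L ◁ S.g).f n).hom := by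
    intro y
    induction y using tm_induction L S.X₃ with
    | zero => exact ⟨0, map_zero _⟩
    | add x y hx hy =>
      obtain ⟨x', rfl⟩ := hx
      obtain ⟨y', rfl⟩ := hy
      exact ⟨x' + y', map_add _ _ _⟩
    | tm' p q h l k =>
      obtain ⟨k', rfl⟩ := hsurj q k
      exact ⟨tm L S.X₂ p q n h l k', whiskerLeft_tm L S.g p q n h l k'⟩
  have hexact : ∀ y : (L ⊗ S.X₂ : Cx R).X n, (L ◁ S.g).f n y = 0 →
      ∃ x : (L ⊗ S.X₁ : Cx R).X n, (L ◁ S.f).f n x = y := by
    intro y hy
    have hc : ∀ i : Idx n, ∃ t : TensorProduct R (L.X i.1.1) (S.X₁.X i.1.2),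
        LinearMap.lTensor (L.X i.1.1) (S.f.f i.1.2).hom t = comp L S.X₂ i.1.1 i.1.2 n i.2 y := by
      intro i
      have h1 := comp_whiskerLeft L S.g i.1.1 i.1.2 n i.2 y
      rw [hy, map_zero] at h1
      exact (lTensor_exact (L.X i.1.1) (hex i.1.2) (hsurj i.1.2) _).1 h1.symm
    choose t ht using hc
    obtain ⟨s, hs⟩ := exists_finset_sum L S.X₂ y
    refine ⟨∑ i ∈ s, inc L S.X₁ i.1.1 i.1.2 n i.2 (t i), ?_⟩
    rw [map_sum]
    conv_rhs => rw [hs]
    refine Finset.sum_congr rfl fun i _ => ?_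
    rw [whiskerLeft_inc, ht]
  refine ShortComplex.ShortExact.mk' ?_ ?_ ?_
  · rw [ShortComplex.moduleCat_exact_iff]
    exact hexact
  · exact (ModuleCat.mono_iff_injective _).2 hmono
  · exact (ModuleCat.epi_iff_surjective _).2 hepi

end Whisker'

/-- Two out of three for short exact sequences which stay injective after tensoring. -/
theorem kflat_two_of_three' (S : ShortComplex (Cx R)) (hS : S.ShortExact)
    (hinjT : ∀ (M : ModuleCat.{u} R) (q : ℤ),
      Function.Injective (LinearMap.lTensor M (S.f.f q).hom)) :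
    (IsKFlat S.X₁ → IsKFlat S.X₂ → IsKFlat S.X₃) ∧ (IsKFlat S.X₁ → IsKFlat S.X₃ → IsKFlat S.X₂) ∧
      (IsKFlat S.X₂ → IsKFlat S.X₃ → IsKFlat S.X₁) := by
  have hSE : ∀ L : Cx R, (whiskerLeftShortComplex L S).ShortExact := fun L =>
    shortExact_whiskerLeft' L S hS (fun p q => hinjT (L.X p) q)
  refine ⟨fun h1 h2 L hL => ?_, fun h1 h3' L hL => ?_, fun h2 h3' L hL => ?_⟩
  · exact acyclic_X₃ (hSE L) (h1 L hL) (h2 L hL)
  · exact acyclic_X₂ (hSE L) (h1 L hL) (h3' L hL)
  · exact acyclic_X₁ (hSE L) (h2 L hL) (h3' L hL)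

/-- Two out of three for degreewise split short exact sequences. -/
theorem kflat_two_of_three_of_splitting (S : ShortComplex (Cx R))
    (σ : ∀ n, (S.map (eval (ModuleCat.{u} R) (ComplexShape.up ℤ) n)).Splitting) :
    (IsKFlat S.X₁ → IsKFlat S.X₂ → IsKFlat S.X₃) ∧ (IsKFlat S.X₁ → IsKFlat S.X₃ → IsKFlat S.X₂) ∧
      (IsKFlat S.X₂ → IsKFlat S.X₃ → IsKFlat S.X₁) := by
  have hS : S.ShortExact :=
    shortExact_of_degreewise_shortExact S (fun n => (σ n).shortExact)
  apply kflat_two_of_three' S hS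
  intro M q
  let r' : S.X₂.X q →ₗ[R] S.X₁.X q := (σ q).r.hom
  have hr : r' ∘ₗ (S.f.f q).hom = LinearMap.id := by
    have := (σ q).f_r
    exact congrArg ModuleCat.Hom.hom this
  have key : LinearMap.lTensor M r' ∘ₗ LinearMap.lTensor M (S.f.f q).hom = LinearMap.id := by
    rw [← LinearMap.lTensor_comp, hr, LinearMap.lTensor_id]
  apply Function.LeftInverse.injective (g := LinearMap.lTensor M r')
  intro t
  exact LinearMap.congr_fun key t

/-- Homotopies are preserved by tensoring on the left. -/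
noncomputable def whiskerLeftHomotopy (L : Cx R) {K K' : Cx R} {f g : K ⟶ K'} (h : Homotopy f g) :
    Homotopy (L ◁ f) (L ◁ g) :=
  HomologicalComplex.mapBifunctorMapHomotopy₂ (𝟙 L) h (curriedTensor (ModuleCat.{u} R))
    (ComplexShape.up ℤ)

/-- Homotopies are preserved by tensoring on the right. -/
noncomputable def whiskerRightHomotopy (K : Cx R) {L L' : Cx R} {f g : L ⟶ L'} (h : Homotopy f g) :
    Homotopy (f ▷ K) (g ▷ K) :=
  HomologicalComplex.mapBifunctorMapHomotopy₁ h (𝟙 K) (curriedTensor (ModuleCat.{u} R))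
    (ComplexShape.up ℤ)

/-- Tensoring on the left preserves homotopy equivalences. -/
noncomputable def whiskerLeftHomotopyEquiv (L : Cx R) {K K' : Cx R} (e : HomotopyEquiv K K') :
    HomotopyEquiv (L ⊗ K : Cx R) (L ⊗ K') where
  hom := L ◁ e.hom
  inv := L ◁ e.inv
  homotopyHomInvId :=
    (Homotopy.ofEq (MonoidalCategory.whiskerLeft_comp L e.hom e.inv).symm).trans
      ((whiskerLeftHomotopy L e.homotopyHomInvId).trans
        (Homotopy.ofEq (MonoidalCategory.whiskerLeft_id L K)))
  homotopyInvHomId :=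
    (Homotopy.ofEq (MonoidalCategory.whiskerLeft_comp L e.inv e.hom).symm).trans
      ((whiskerLeftHomotopy L e.homotopyInvHomId).trans
        (Homotopy.ofEq (MonoidalCategory.whiskerLeft_id L K')))

theorem acyclic_of_homotopyEquiv {K K' : Cx R} (e : HomotopyEquiv K K') (h : Acyclic K) :
    Acyclic K' := fun i => (h i).of_iso (e.toHomologyIso i).symm

/-- K-flatness is invariant under homotopy equivalence. -/
theorem isKFlat_of_homotopyEquiv {K K' : Cx R} (e : HomotopyEquiv K K') (h : IsKFlat K) :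
    IsKFlat K' := fun L hL =>
  acyclic_of_homotopyEquiv (whiskerLeftHomotopyEquiv L e) (h L hL)

end Groth.Agent.Lib.Helper25.KFlat
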