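import Groth.Agent.Lib.Helper25.KFlat
import Groth.Agent.Lib.Helper25.KFlatColim

set_option autoImplicit false
universe u

namespace Groth.Agent.Lib.Helper25.KFlat

open CategoryTheory CategoryTheory.Limits MonoidalCategory HomologicalComplex TensorProduct
open Groth.Agent.Lib.Helper25.TensorCx

variable {R : Type u} [CommRing R]

theorem units_smul_map {M N : Type*} [AddCommGroup M] [AddCommGroup N] [Module R M] [Module R N]
    (f : M →ₗ[R] N) (u : ℤˣ) (x : M) : f (u • x) = u • f x := by
  rw [Units.smul_def, Units.smul_def, map_zsmul]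

/-- The differential on a summand, general tensors. -/
theorem d_inc (L K : Cx R) (p p' q q' n n' : ℤ) (hp : p + 1 = p') (hq : q + 1 = q')
    (h : p + q = n) (hn : n + 1 = n') (t : (L.X p) ⊗[R] (K.X q)) :
    (L ⊗ K : Cx R).d n n' (inc L K p q n h t) =
      inc L K p' q n' (by omega) (LinearMap.rTensor (K.X q) (L.d p p').hom t) +
      (p.negOnePow : ℤˣ) • inc L K p q' n' (by omega) (LinearMap.lTensor (L.X p) (K.d q q').hom t) := by
  subst hp hq
  induction t using TensorProduct.induction_on with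
  | zero => simp only [map_zero, smul_zero, add_zero]
  | tmul l k =>
    rw [inc_tmul, d_tm L K p q n n' h hn]
    rfl
  | add a b ha hb =>
    simp only [map_add, ha, hb, smul_add]
    abel

/-- A complex with zero differential and flat terms is K-flat. -/
theorem isKFlat_of_d_eq_zero (G : Cx R) (hd : ∀ i j, G.d i j = 0)
    (hflat : ∀ q, Module.Flat R (G.X q)) : IsKFlat G := by
  classical
  intro L hL
  rw [acyclic_iff]
  intro n₀ n₁ n₂ h01 h12 z hz
  have hw : ∀ i : Idx n₁, ∃ w : (L.X (i.1.1 - 1)) ⊗[R] (G.X i.1.2),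
      LinearMap.rTensor (G.X i.1.2) (L.d (i.1.1 - 1) i.1.1).hom w =
        comp L G i.1.1 i.1.2 n₁ i.2 z := by
    rintro ⟨⟨p, q⟩, h⟩
    have h' : p + q = n₁ := h
    have h1 := comp_d L G p (p + 1) (q - 1) q n₁ n₂ rfl (by omega) h12 (by omega) z
    rw [hz, map_zero, hd, ModuleCat.hom_zero, LinearMap.lTensor_zero, LinearMap.zero_apply,
      smul_zero, add_zero] at h1
    have := hflat q
    have hex := Module.Flat.rTensor_exact (G.X q)
      (exact_of_acyclic L hL (p - 1) p (p + 1) (by omega) rfl)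
    exact (hex _).1 h1.symm
  choose w hw using hw
  obtain ⟨s, hs⟩ := exists_finset_sum L G z
  have hidx : ∀ i : Idx n₁, i.1.1 - 1 + i.1.2 = n₀ := fun i => by
    have hi : i.1.1 + i.1.2 = n₁ := i.2
    omega
  refine ⟨∑ i ∈ s, inc L G (i.1.1 - 1) i.1.2 n₀ (hidx i) (w i), ?_⟩
  rw [map_sum]
  conv_rhs => rw [hs]
  refine Finset.sum_congr rfl fun i _ => ?_
  rw [d_inc L G (i.1.1 - 1) i.1.1 i.1.2 (i.1.2 + 1) n₀ n₁ (by omega) rfl
    (hidx i) h01, hw i, hd, ModuleCat.hom_zero, LinearMap.lTensor_zero,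
    LinearMap.zero_apply, map_zero, smul_zero, add_zero]

end Groth.Agent.Lib.Helper25.KFlat
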