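import Groth.Agent.Lib.Helper25.KanDescendL
import Groth.Agent.Lib.Helper89.TriRes
import Groth.Agent.Lib.Helper13.KInjMain

/-!
# Right derived functors are computed by K-injective complexes

Let `C` be a Grothendieck abelian category.  For ANY functor `G : K(C) ⥤ H` having a right derived
functor `(RG, α)` with respect to quasi-isomorphisms, `α` is an isomorphism at K-injective
complexes.  The same for functors `F : Cx(C) ⥤ H` which factor through the homotopy category.
-/

set_option autoImplicit false

open CategoryTheory Limits Pretriangulated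

namespace Groth.Agent.Lib.Helper25.KInjDerived

universe w v u v' u'

variable (C : Type u) [Category.{v} C] [Abelian C]

/-- acyclic complexes -/
abbrev Acyc : ObjectProperty (HomotopyCategory C (ComplexShape.up ℤ)) :=
  HomotopyCategory.subcategoryAcyclic C

/-- K-injective objects of the homotopy category -/
abbrev KInj : ObjectProperty (HomotopyCategory C (ComplexShape.up ℤ)) :=
  (HomotopyCategory.subcategoryAcyclic C).rightOrthogonal

variable {C}

lemma kInj_quotient_obj (I : CochainComplex C ℤ) [hI : I.IsKInjective] :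
    KInj C ((HomotopyCategory.quotient _ _).obj I) :=
  (CochainComplex.isKInjective_iff_rightOrthogonal I).1 hI

lemma hasRes [IsGrothendieckAbelian.{v} C] :
    Groth.Agent.Lib.Helper89.TriRes.HasRes (KInj C) (Acyc C) := by
  intro X
  obtain ⟨M, rfl⟩ := HomotopyCategory.quotient_obj_surjective X
  obtain ⟨I, f, hI, hf, -, -⟩ :=
    Groth.Agent.Lib.Helper13.KInjMain.exists_kInjective_resolution M
  refine ⟨(HomotopyCategory.quotient _ _).obj I, (HomotopyCategory.quotient _ _).map f,
    kInj_quotient_obj I, ?_⟩
  rw [← HomotopyCategory.quasiIso_eq_trW_subcategoryAcyclic]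
  exact (HomotopyCategory.quotient_map_mem_quasiIso_iff f).2 hf

/-- every functor is derived by the K-injectives -/
lemma derives {H : Type u'} [Category.{v'} H] (G : HomotopyCategory C (ComplexShape.up ℤ) ⥤ H) :
    (Groth.Agent.Lib.Helper89.TriRes.Φ (KInj C) (Acyc C)).Derives G := by
  intro X Y f hf
  rw [ObjectProperty.trW_inverseImage_ι_iff] at hf
  obtain ⟨Z, a, b, hT, hZ⟩ := hf
  have hz : IsZero Z := by
    rw [IsZero.iff_id_eq_zero]
    exact hZ.1 (𝟙 Z) hZ.2
  have : IsIso f.hom := (Triangle.isZero₃_iff_isIso₁ _ hT).1 hz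
  change IsIso (G.map f.hom)
  infer_instance

theorem isIso_unit_homotopyCategory [IsGrothendieckAbelian.{v} C]
    {H : Type u'} [Category.{v'} H] (G : HomotopyCategory C (ComplexShape.up ℤ) ⥤ H)
    {D₂ : Type*} [Category D₂] (L : HomotopyCategory C (ComplexShape.up ℤ) ⥤ D₂)
    [L.IsLocalization (HomotopyCategory.quasiIso C (ComplexShape.up ℤ))]
    (RG : D₂ ⥤ H) (α : G ⟶ L ⋙ RG)
    [RG.IsRightDerivedFunctor α (HomotopyCategory.quasiIso C (ComplexShape.up ℤ))]
    (I : CochainComplex C ℤ) [I.IsKInjective] :
    IsIso (α.app ((HomotopyCategory.quotient _ _).obj I)) := by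
  have hW : HomotopyCategory.quasiIso C (ComplexShape.up ℤ) = (Acyc C).trW :=
    HomotopyCategory.quasiIso_eq_trW_subcategoryAcyclic C
  revert L RG α
  rw [hW]
  intro L _ RG α _
  haveI := Groth.Agent.Lib.Helper89.TriRes.isRightDerivabilityStructure (hasRes (C := C))
  exact (derives G).isIso_of_isRightDerivedFunctor α ⟨_, kInj_quotient_obj I⟩

end Groth.Agent.Lib.Helper25.KInjDerived

namespace Groth.Agent.Lib.Helper25.KInjDerived

universe w v u v' u'

variable {C : Type u} [Category.{v} C] [Abelian C]

/-- Functors on complexes identifying homotopic maps invert homotopy equivalences. -/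
theorem inverts_of_homotopy {H : Type u'} [Category.{v'} H] {F : CochainComplex C ℤ ⥤ H}
    (hF : ∀ ⦃X Y : CochainComplex C ℤ⦄ (f g : X ⟶ Y), Homotopy f g → F.map f = F.map g) :
    (HomologicalComplex.homotopyEquivalences C (ComplexShape.up ℤ)).IsInvertedBy F := by
  rintro X Y f ⟨e, rfl⟩
  refine ⟨F.map e.inv, ?_, ?_⟩
  · rw [← F.map_comp, hF _ _ e.homotopyHomInvId, F.map_id]
  · rw [← F.map_comp, hF _ _ e.homotopyInvHomId, F.map_id]

/-- The unit of a right derived functor (with respect to quasi-isomorphisms of complexes) of a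
functor inverting homotopy equivalences is an isomorphism at K-injective complexes. -/
theorem isIso_unit_app [IsGrothendieckAbelian.{v} C] [HasDerivedCategory.{w} C]
    {H : Type u'} [Category.{v'} H] {F : CochainComplex C ℤ ⥤ H}
    (hF : (HomologicalComplex.homotopyEquivalences C (ComplexShape.up ℤ)).IsInvertedBy F)
    (RF : DerivedCategory C ⥤ H) (α : F ⟶ DerivedCategory.Q ⋙ RF)
    [RF.IsRightDerivedFunctor α (HomologicalComplex.quasiIso C (ComplexShape.up ℤ))]
    (I : CochainComplex C ℤ) [I.IsKInjective] : IsIso (α.app I) := by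
  have : RF.IsLeftKanExtension α := Functor.IsRightDerivedFunctor.isLeftKanExtension
    (W := HomologicalComplex.quasiIso C (ComplexShape.up ℤ)) RF α
  let q := HomotopyCategory.quotient C (ComplexShape.up ℤ)
  let F₁ := Localization.lift F hF q
  let eF : q ⋙ F₁ ≅ F := Localization.fac F hF q
  let eL : q ⋙ DerivedCategory.Qh ≅ DerivedCategory.Q := DerivedCategory.quotientCompQhIso C
  let α₁ := KanDescendL.descendUnit q
    (HomologicalComplex.homotopyEquivalences C (ComplexShape.up ℤ)) eL eF RF α
  have : RF.IsRightDerivedFunctor α₁ (HomotopyCategory.quasiIso C (ComplexShape.up ℤ)) :=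
    ⟨inferInstance⟩
  have h := isIso_unit_homotopyCategory F₁ DerivedCategory.Qh RF α₁ I
  rw [KanDescendL.descendUnit_app] at h
  have h2 : IsIso (α.app I ≫ RF.map (eL.inv.app I)) := (isIso_comp_left_iff _ _).1 h
  exact (isIso_comp_right_iff _ _).1 h2

end Groth.Agent.Lib.Helper25.KInjDerived
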