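import Mathlib

/-!
# Descending left Kan extensions along a two-step localization

Dual of `KanDescend`: let `q : C₀ ⥤ C₁` be a localization functor (e.g. complexes to the homotopy
category), `L₁ : C₁ ⥤ D` another functor (e.g. `Qh`), `L ≅ q ⋙ L₁` and `F ≅ q ⋙ F₁`.  If
`(RF, α)` is a left Kan extension of `F` along `L`, then `(RF, α₁)` is a left Kan extension of
`F₁` along `L₁`, where `α₁` is the descended natural transformation.
-/

set_option autoImplicit false

open CategoryTheory

namespace Groth.Agent.Lib.Helper25.KanDescendL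

universe w v₀ v₁ v₂ v₃ u₀ u₁ u₂ u₃

variable {C₀ : Type u₀} [Category.{v₀} C₀] {C₁ : Type u₁} [Category.{w} C₁]
  {D : Type u₂} [Category.{v₂} D] {H : Type u₃} [Category.{v₃} H]

section Descend

variable (q : C₀ ⥤ C₁) (W₀ : MorphismProperty C₀) [q.IsLocalization W₀]
  {L₁ : C₁ ⥤ D} {L : C₀ ⥤ D} (eL : q ⋙ L₁ ≅ L)
  {F₁ : C₁ ⥤ H} {F : C₀ ⥤ H} (eF : q ⋙ F₁ ≅ F)
  (RF : D ⥤ H) (α : F ⟶ L ⋙ RF)

/-- The transported natural transformation `F ⟶ L ⋙ G` of `β : F₁ ⟶ L₁ ⋙ G`. -/
@[simps]
def up (G : D ⥤ H) (β : F₁ ⟶ L₁ ⋙ G) : F ⟶ L ⋙ G where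
  app X := eF.inv.app X ≫ β.app (q.obj X) ≫ G.map (eL.hom.app X)
  naturality X Y f := by
    have h1 := eL.hom.naturality f
    have h2 := β.naturality (q.map f)
    have h3 := eF.inv.naturality f
    dsimp at h1 h2 h3 ⊢
    rw [Category.assoc, Category.assoc, ← G.map_comp, ← h1, G.map_comp, ← reassoc_of% h2,
      reassoc_of% h3]

include W₀ in
theorem isLeftKanExtension_descend [RF.IsLeftKanExtension α] (α₁ : F₁ ⟶ L₁ ⋙ RF)
    (hα₁ : ∀ X : C₀, α₁.app (q.obj X) = eF.hom.app X ≫ α.app X ≫ RF.map (eL.inv.app X)) :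
    RF.IsLeftKanExtension α₁ := by
  have key : ∀ (G : D ⥤ H) (β : F₁ ⟶ L₁ ⋙ G) (γ : RF ⟶ G),
      α₁ ≫ Functor.whiskerLeft L₁ γ = β ↔ α ≫ Functor.whiskerLeft L γ = up q eL eF G β := by
    intro G β γ
    constructor
    · intro h
      ext X
      have h1 := congrArg (fun τ => τ.app (q.obj X)) h
      have h2 := γ.naturality (eL.hom.app X)
      simp only [NatTrans.comp_app, Functor.whiskerLeft_app, hα₁] at h1
      dsimp at h2
      simp only [NatTrans.comp_app, Functor.whiskerLeft_app, up_app]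
      rw [← h1]
      simp only [Category.assoc]
      rw [← h2, ← RF.map_comp_assoc, Iso.inv_hom_id_app]
      simp
    · intro h
      apply Localization.natTrans_ext q W₀
      intro X
      have h1 := congrArg (fun τ => τ.app X) h
      have h2 := γ.naturality (eL.inv.app X)
      simp only [NatTrans.comp_app, Functor.whiskerLeft_app, up_app] at h1
      dsimp at h2
      simp only [NatTrans.comp_app, Functor.whiskerLeft_app]
      rw [hα₁]
      simp only [Category.assoc]
      rw [h2, reassoc_of% h1]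
      rw [← G.map_comp, Iso.hom_inv_id_app]
      simp
  refine ⟨⟨Limits.IsInitial.ofUniqueHom (fun G => StructuredArrow.homMk
    (RF.descOfIsLeftKanExtension α G.right (up q eL eF G.right G.hom)) ?_) ?_⟩⟩
  · exact (key _ _ _).2 (RF.descOfIsLeftKanExtension_fac α _ _)
  · intro G m
    apply StructuredArrow.hom_ext
    apply RF.hom_ext_of_isLeftKanExtension α
    have hm : α₁ ≫ Functor.whiskerLeft L₁ m.right = G.hom := StructuredArrow.w m
    rw [(key _ _ _).1 hm]
    exact (RF.descOfIsLeftKanExtension_fac α _ _).symm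

/-- The descended unit. -/
noncomputable def descendUnit : F₁ ⟶ L₁ ⋙ RF :=
  (Localization.fullyFaithfulWhiskeringLeft q W₀ H).preimage
    (show q ⋙ F₁ ⟶ q ⋙ (L₁ ⋙ RF) from
      eF.hom ≫ α ≫ Functor.whiskerRight eL.inv RF ≫ (Functor.associator _ _ _).hom)

theorem descendUnit_app (X : C₀) :
    (descendUnit q W₀ eL eF RF α).app (q.obj X) =
      eF.hom.app X ≫ α.app X ≫ RF.map (eL.inv.app X) := by
  have h := (Localization.fullyFaithfulWhiskeringLeft q W₀ H).map_preimage
    (show q ⋙ F₁ ⟶ q ⋙ (L₁ ⋙ RF) from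
      eF.hom ≫ α ≫ Functor.whiskerRight eL.inv RF ≫ (Functor.associator _ _ _).hom)
  have h1 := congrArg (fun τ => τ.app X) h
  simpa [descendUnit] using h1

instance isLeftKanExtension_descendUnit [RF.IsLeftKanExtension α] :
    RF.IsLeftKanExtension (descendUnit q W₀ eL eF RF α) :=
  isLeftKanExtension_descend q W₀ eL eF RF α _ (descendUnit_app q W₀ eL eF RF α)

end Descend

end Groth.Agent.Lib.Helper25.KanDescendL
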