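import Mathlib.RingTheory.Smooth.Basic
import Mathlib.RingTheory.Smooth.Kaehler

set_option autoImplicit false
universe u

namespace Groth.Agent.Lib.Helper25

open KaehlerDifferential

set_option backward.isDefEq.respectTransparency false in
theorem exists_section_kerSquareLift_of_formallySmooth
    {R P S : Type u} [CommRing R] [CommRing P] [CommRing S]
    [Algebra R P] [Algebra P S] [Algebra R S] [IsScalarTower R P S] [Algebra.FormallySmooth R S]
    (hf : Function.Surjective (algebraMap P S)) :
    ∃ g, (IsScalarTower.toAlgHom R P S).kerSquareLift.comp g = AlgHom.id R S := by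
  have surj : Function.Surjective (IsScalarTower.toAlgHom R P S).kerSquareLift :=
    Ideal.Quotient.lift_surjective_of_surjective _ _ hf
  have sqz : RingHom.ker (IsScalarTower.toAlgHom R P S).kerSquareLift.toRingHom ^ 2 = ⊥ := by
    rw [AlgHom.ker_kerSquareLift, Ideal.cotangentIdeal_square]
  dsimp only [AlgHom.toRingHom_eq_coe, RingHom.ker_coe_toRingHom] at sqz
  obtain ⟨g, hg⟩ := Algebra.FormallySmooth.comp_surjective R S _ sqz
    (Ideal.quotientKerAlgEquivOfSurjective surj).symm.toAlgHom
  refine ⟨g, AlgHom.ext fun x ↦
    congr((IsScalarTower.toAlgHom R P S).kerSquareLift.kerLift ($hg x)).trans ?_⟩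
  obtain ⟨x, rfl⟩ := (Ideal.quotientKerAlgEquivOfSurjective surj).surjective x
  obtain ⟨x, rfl⟩ := Ideal.Quotient.mk_surjective x
  simp only [AlgHom.toRingHom_eq_coe, AlgEquiv.coe_toAlgHom, AlgEquiv.symm_apply_apply,
    AlgHom.coe_id, id_eq]
  simp only [Ideal.quotientKerAlgEquivOfSurjective_apply]

theorem kerCotangentToTensor_injective_of_formallySmooth
    {R P S : Type u} [CommRing R] [CommRing P] [CommRing S]
    [Algebra R P] [Algebra P S] [Algebra R S] [IsScalarTower R P S] [Algebra.FormallySmooth R S]
    (hf : Function.Surjective (algebraMap P S)) :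
    Function.Injective (KaehlerDifferential.kerCotangentToTensor R P S) := by
  obtain ⟨g, hg⟩ := exists_section_kerSquareLift_of_formallySmooth (R := R) hf
  have h := (retractionKerCotangentToTensorEquivSection (R := R) hf).symm ⟨g, hg⟩
  have h2 := h.2
  exact Function.LeftInverse.injective (g := h.1) (fun x => LinearMap.congr_fun h2 x)

end Groth.Agent.Lib.Helper25
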