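import Groth.Agent.Lib.Helper94.KosDivDefs

/-!
# PB for helper94's S15901: sections of a fibre product of modules are determined by their two
projections (helper25)
-/

set_option autoImplicit false

universe u

open CategoryTheory CategoryTheory.Limits AlgebraicGeometry Opposite TopologicalSpace
open Groth.Agent.Lib.Lead.Inv Groth.Agent.Lib.Helper94.KosDiv

namespace Groth.Agent.Lib.Helper25.KosDivPB

variable {X : Scheme.{u}}

open Groth.Agent.Lib.Helper21.QCohSections in
theorem pullback_sec_ext {A B C : X.Modules} (a : A ⟶ C) (b : B ⟶ C) (U : X.Opens)
    (p p' : Γ(pullback a b, U))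
    (h1 : (pullback.fst a b).app U p = (pullback.fst a b).app U p')
    (h2 : (pullback.snd a b).app U p = (pullback.snd a b).app U p') : p = p' := by
  have hlim : IsLimit ((secF U).mapCone (limit.cone (cospan a b))) :=
    isLimitOfPreserves (secF U) (limit.isLimit _)
  refine Concrete.isLimit_ext _ hlim p p' ?_
  rintro (_ | _ | _)
  · have hw := ((secF U).mapCone (limit.cone (cospan a b))).w WalkingCospan.Hom.inl
    have e : ∀ x : ↑(((secF U).mapCone (limit.cone (cospan a b))).pt),
        (ConcreteCategory.hom
          (((secF U).mapCone (limit.cone (cospan a b))).π.app WalkingCospan.one)) x =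
        (ConcreteCategory.hom ((cospan a b ⋙ secF U).map WalkingCospan.Hom.inl))
          ((ConcreteCategory.hom
            (((secF U).mapCone (limit.cone (cospan a b))).π.app WalkingCospan.left)) x) :=
      fun x => congrArg (fun f => (ConcreteCategory.hom f) x) hw.symm
    exact (e p).trans ((congrArg
      (ConcreteCategory.hom ((cospan a b ⋙ secF U).map WalkingCospan.Hom.inl)) h1).trans
      (e p').symm)
  · exact h1
  · exact h2

end Groth.Agent.Lib.Helper25.KosDivPB
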