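import Mathlib

/-!
# K7 for helper65's S11898: the kernel pair of a homomorphism of group objects with kernel `i`
(helper25)
-/

set_option autoImplicit false

universe u

open CategoryTheory CategoryTheory.Limits MonoidalCategory CartesianMonoidalCategory MonObj GrpObj

namespace Groth.Agent.Lib.Helper25.LieKerK7

theorem K7 {𝒞 : Type*} [Category 𝒞] [CartesianMonoidalCategory 𝒞] {A B C : 𝒞} [GrpObj A]
    [GrpObj B] [GrpObj C] (i : B ⟶ C) [IsMonHom i] (α : C ⟶ A) [IsMonHom α]
    (hK : IsPullback i (toUnit B) α η[A]) :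
    IsPullback (fst C B * (snd C B ≫ i)) (fst C B) α α := by
  have hiα : i ≫ α = 1 := by rw [hK.w, ← Hom.one_def]
  have comm : (fst C B * (snd C B ≫ i)) ≫ α = fst C B ≫ α := by
    rw [MonObj.mul_comp, Category.assoc, hiα, MonObj.comp_one, _root_.mul_one]
  -- the `B`-component of the lift
  have hd : ∀ s : PullbackCone α α, (s.snd⁻¹ * s.fst) ≫ α = toUnit s.pt ≫ η[A] := by
    intro s
    rw [MonObj.mul_comp, GrpObj.inv_comp, s.condition, _root_.inv_mul_cancel, Hom.one_def]
  refine ⟨⟨comm⟩, ⟨PullbackCone.IsLimit.mk comm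
    (fun s => lift s.snd (hK.lift (s.snd⁻¹ * s.fst) (toUnit s.pt) (hd s))) ?_ ?_ ?_⟩⟩
  · intro s
    rw [MonObj.comp_mul, lift_fst, lift_snd_assoc, hK.lift_fst, _root_.mul_inv_cancel_left]
  · intro s
    rw [lift_fst]
  · intro s m hm1 hm2
    have h1 : m ≫ snd C B ≫ i = s.snd⁻¹ * s.fst := by
      rw [MonObj.comp_mul, hm2] at hm1
      rw [_root_.eq_inv_mul_iff_mul_eq]
      exact hm1
    ext
    · rw [lift_fst, hm2]
    · rw [lift_snd]
      apply hK.hom_ext
      · rw [Category.assoc, h1, hK.lift_fst]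
      · exact toUnit_unique _ _

end Groth.Agent.Lib.Helper25.LieKerK7
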