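import Groth.Agent.Lib.Helper25.RHomKInj
import Groth.Agent.Lib.Helper25.HomCxAdj
import Groth.Agent.Lib.Helper25.DualCx2
import Groth.Agent.Lib.Helper84.KProj

/-!
# The dual of a perfect complex via `RHomCx`

If `E` is isomorphic in `D(A)` to a bounded complex `P` of finite projective modules then
`RHom(E, A) ≅ Q (P^∨)`.
-/

set_option autoImplicit false
universe u

namespace Groth.Agent.Lib.Helper25.PerfDual

open CategoryTheory CategoryTheory.Limits MonoidalCategory HomologicalComplex CochainComplex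
open DerivedCategory
open Groth.Agent.Lib.Helper25.TensorCx Groth.Agent.Lib.Helper25.RHomKInj
open Groth.Agent.Lib.Helper25.HomCxPre

attribute [local instance] HasDerivedCategory.standard

variable {A : Type u} [CommRing A]

theorem isKProjective_of_perfect (P : DRing.Cx A) (a b : ℤ) (hP : DRing.VanishesOutside P a b)
    (hfp : DRing.TermwiseFiniteProjective P) : P.IsKProjective := by
  have : P.IsStrictlyLE b :=
    (CochainComplex.isStrictlyLE_iff P b).2 (fun i hi => hP i (Or.inr hi))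
  have : ∀ n, Projective (P.X n) := fun n =>
    haveI := (hfp n).2
    ModuleCat.projective_of_categoryTheory_projective (R := A) (P := P.X n)
  exact CochainComplex.isKProjective_of_projective P b

theorem nonempty_iso_dual (E : DRing.Cx A) [DRing.HasRHomCx E] (P : DRing.Cx A) (a b : ℤ)
    (hP : DRing.VanishesOutside P a b) (hfp : DRing.TermwiseFiniteProjective P)
    (e : Q.obj P ≅ Q.obj E) :
    Nonempty ((DRing.RHomCx E).obj (Dual.inD A A) ≅ Q.obj (DualCx.dualCx P)) := by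
  haveI : ∀ i, Module.Finite A (P.X i) := fun i => (hfp i).1
  haveI : ∀ i, Module.Projective A (P.X i) := fun i => (hfp i).2
  haveI hKP : P.IsKProjective := isKProjective_of_perfect P a b hP hfp
  obtain ⟨u, hu⟩ := Groth.Agent.Lib.Helper84.KProj.exists_Q_map_eq P E e.hom
  haveI hqu : QuasiIso u := by
    rw [← isIso_Q_map_iff_quasiIso, hu]
    infer_instance
  obtain ⟨J, i, hJ, hi⟩ := exists_kInj_res (𝟙_ (Cx A))
  haveI := hJ
  haveI := hi
  let e0 : Dual.inD A A ≅ Q.obj (𝟙_ (Cx A)) :=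
    (singleFunctorIsoCompQ (ModuleCat.{u} A) 0).app (ModuleCat.of A A)
  let e1 : Q.obj (𝟙_ (Cx A)) ≅ Q.obj J := asIso (Q.map i)
  let e2 := isoOfKInj E J
  haveI := quasiIso_homCxPre u J
  let e3 : Q.obj (DRing.homCx E J) ≅ Q.obj (DRing.homCx P J) := asIso (Q.map (homCxPre u J))
  haveI := HomCxQis.quasiIso_homCxMap P i
  let e4 : Q.obj (DRing.homCx P (𝟙_ (Cx A))) ≅ Q.obj (DRing.homCx P J) :=
    asIso (Q.map (DRing.homCxMap P i))
  let e5 : DRing.homCx P (𝟙_ (Cx A)) ≅ (𝟙_ (Cx A) ⊗ DualCx.dualCx P : Cx A) :=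
    HomCxAdj.homCxIsoTensorDual P a b hP (𝟙_ (Cx A))
  let e6 : (𝟙_ (Cx A) ⊗ DualCx.dualCx P : Cx A) ≅ DualCx.dualCx P := λ_ _
  exact ⟨(DRing.RHomCx E).mapIso (e0 ≪≫ e1) ≪≫ e2 ≪≫ e3 ≪≫ e4.symm ≪≫ Q.mapIso (e5 ≪≫ e6)⟩

theorem aux6963 (K : Dual.D A) (hK : DRing.IsPerfect A K)
    (E : DRing.Cx A) (eK : DRing.toD E ≅ K) [DRing.HasRHomCx E] :
    DRing.IsPerfect A ((DRing.RHomCx E).obj (Dual.inD A A)) ∧
      ∀ (E' : DRing.Cx A) (_ : DRing.toD E' ≅ (DRing.RHomCx E).obj (Dual.inD A A))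
        [DRing.HasRHomCx E'], Nonempty ((DRing.RHomCx E').obj (Dual.inD A A) ≅ K) := by
  obtain ⟨P, a, b, hP, hfp, ⟨eP⟩⟩ := hK
  haveI : ∀ i, Module.Finite A (P.X i) := fun i => (hfp i).1
  haveI : ∀ i, Module.Projective A (P.X i) := fun i => (hfp i).2
  obtain ⟨i1⟩ := nonempty_iso_dual E P a b hP hfp (eP ≪≫ eK.symm)
  have hP' : DRing.VanishesOutside (DualCx.dualCx P) (-b) (-a) :=
    fun q hq => DualCx.dualCx_isZero P a b hP q hq
  have hfp' : DRing.TermwiseFiniteProjective (DualCx.dualCx P) :=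
    fun q => ⟨inferInstance, inferInstance⟩
  refine ⟨⟨DualCx.dualCx P, -b, -a, hP', hfp', ⟨i1.symm⟩⟩, ?_⟩
  intro E' eK' _
  obtain ⟨i2⟩ := nonempty_iso_dual E' (DualCx.dualCx P) (-b) (-a) hP' hfp' (i1.symm ≪≫ eK'.symm)
  exact ⟨i2 ≪≫ Q.mapIso (DualCx.ddIso P).symm ≪≫ eP⟩

end Groth.Agent.Lib.Helper25.PerfDual
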