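import Groth.Prelude.Def_Coh
import Groth.Agent.Lib.Helper53.ClosedEmbCoh

/-!
# T3 for S14736/S14740 (helper63's call): cohomology vanishing transfers along a closed immersion
-/

set_option autoImplicit false
universe u

open CategoryTheory CategoryTheory.Limits AlgebraicGeometry

namespace Groth.Agent.Lib.Helper25.PruferSerreT3

/-- the underlying abelian sheaf of a pushforward module is the pushforward of the underlying
abelian sheaf -/
noncomputable def toAbPushIso {X P : Scheme.{u}} (ι : X ⟶ P) (G : X.Modules) :
    Coh.toAb ((Scheme.Modules.pushforward ι).obj G) ≅ (CohTop.push ι.base).obj (Coh.toAb G) :=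
  Iso.refl _

theorem transfer {X P : Scheme.{u}} (ι : X ⟶ P) [IsClosedImmersion ι] (G : X.Modules)
    [G.IsQuasicoherent] (q : ℕ)
    (h : Subsingleton (Coh.HH P ((Scheme.Modules.pushforward ι).obj G) q)) :
    Subsingleton (Coh.HH X G q) := by
  have hpc : PreservesFiniteColimits (CohTop.push ι.base) :=
    Groth.Agent.Lib.Helper53.preservesFiniteColimits_push_of_isClosedEmbedding ι.base
      ι.isClosedEmbedding
  obtain ⟨e⟩ := Groth.Agent.Lib.Helper53.nonempty_hEquiv ι.base hpc q (Coh.toAb G)
  have h' : Subsingleton (CohTop.H ((CohTop.push ι.base).obj (Coh.toAb G)) q) := h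
  exact e.toEquiv.subsingleton

end Groth.Agent.Lib.Helper25.PruferSerreT3
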