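import Mathlib.AlgebraicGeometry.Morphisms.QuasiFinite
import Mathlib.AlgebraicGeometry.ZariskisMainTheorem
import Mathlib.AlgebraicGeometry.Morphisms.UniversallyOpen
import Mathlib.AlgebraicGeometry.Fiber

set_option autoImplicit false
universe u

namespace Groth.Agent.Lib.Helper25

open AlgebraicGeometry CategoryTheory Limits

theorem quasiFiniteAt_of_isPullback {X S X' S' : Scheme.{u}} (f : X ⟶ S) [LocallyOfFiniteType f]
    (g : S' ⟶ S) (g' : X' ⟶ X) (f' : X' ⟶ S') (hsq : IsPullback g' f' f g) (x' : X')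
    (hx : f.QuasiFiniteAt (g' x')) : f'.QuasiFiniteAt x' := by
  have h1 : LocallyQuasiFinite (f.quasiFiniteLocus.ι ≫ f) := by
    rw [← Scheme.Hom.quasiFiniteLocus_eq_top_iff, Scheme.Hom.quasiFiniteLocus_comp]
    simp
  have h2 : IsPullback (g' ∣_ f.quasiFiniteLocus) (g' ⁻¹ᵁ f.quasiFiniteLocus).ι
      f.quasiFiniteLocus.ι g' := isPullback_morphismRestrict g' _
  have h3 : IsPullback (g' ∣_ f.quasiFiniteLocus) ((g' ⁻¹ᵁ f.quasiFiniteLocus).ι ≫ f')
      (f.quasiFiniteLocus.ι ≫ f) g := h2.paste_vert hsq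
  have h4 : LocallyQuasiFinite ((g' ⁻¹ᵁ f.quasiFiniteLocus).ι ≫ f') :=
    MorphismProperty.of_isPullback h3 h1
  have hx' : x' ∈ g' ⁻¹ᵁ f.quasiFiniteLocus := hx
  have h5 := Scheme.Hom.quasiFiniteAt ((g' ⁻¹ᵁ f.quasiFiniteLocus).ι ≫ f') ⟨x', hx'⟩
  rwa [Scheme.Hom.quasiFiniteAt_comp_iff_of_isOpenImmersion] at h5

theorem quasiFiniteAt_iff_isOpen_singleton_fiber {X S : Scheme.{u}} (f : X ⟶ S)
    [LocallyOfFiniteType f] (x : X) (y : S) (hxy : f x = y) (z : f.fiber y)
    (hz : f.fiberι y z = x) : f.QuasiFiniteAt x ↔ IsOpen {z} := by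
  subst hxy
  have hz' : z = f.asFiber x := by
    apply (f.fiberι (f x)).isEmbedding.injective
    rw [hz, Scheme.Hom.fiberι_asFiber]
  rw [hz']
  exact Scheme.Hom.quasiFiniteAt_iff_isOpen_singleton_asFiber

theorem quasiFiniteAt_of_quasiFiniteAt_of_isPullback {X S X' S' : Scheme.{u}} (f : X ⟶ S)
    [LocallyOfFiniteType f] (g : S' ⟶ S) (g' : X' ⟶ X) (f' : X' ⟶ S')
    (hsq : IsPullback g' f' f g) (x' : X') (hx : f'.QuasiFiniteAt x') :
    f.QuasiFiniteAt (g' x') := by
  have : LocallyOfFiniteType f' := MorphismProperty.of_isPullback hsq ‹_›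
  have hopen : IsOpen {f'.asFiber x'} :=
    Scheme.Hom.quasiFiniteAt_iff_isOpen_singleton_asFiber.mp hx
  have e2 : S'.fromSpecResidueField (f' x') ≫ g =
      Spec.map (g.residueFieldMap (f' x')) ≫ S.fromSpecResidueField (g (f' x')) := by simp
  obtain ⟨h, hh⟩ : ∃ h : f'.fiber (f' x') ⟶ f.fiber (g (f' x')),
      h = pullback.map f' (S'.fromSpecResidueField (f' x')) f
      (S.fromSpecResidueField (g (f' x'))) g' (Spec.map (g.residueFieldMap (f' x'))) g
      hsq.w.symm e2 := ⟨_, rfl⟩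
  have hpb : IsPullback h (f'.fiberToSpecResidueField (f' x'))
      (f.fiberToSpecResidueField (g (f' x'))) (Spec.map (g.residueFieldMap (f' x'))) := by
    rw [hh]
    exact isPullback_fiberToSpecResidueField_of_isPullback hsq (f' x')
  have huo : UniversallyOpen (Spec.map (g.residueFieldMap (f' x'))) := inferInstance
  have huo' : UniversallyOpen h := MorphismProperty.of_isPullback hpb.flip huo
  have himg : IsOpen ({h (f'.asFiber x')} : Set (f.fiber (g (f' x')))) := by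
    have h1 := h.isOpenMap _ hopen
    rwa [Set.image_singleton] at h1
  refine (quasiFiniteAt_iff_isOpen_singleton_fiber f (g' x') (g (f' x')) ?_ _ ?_).mpr himg
  · rw [← Scheme.Hom.comp_apply, ← Scheme.Hom.comp_apply, hsq.w]
  · have h2 : h ≫ f.fiberι (g (f' x')) = f'.fiberι (f' x') ≫ g' := by
      rw [hh]
      exact pullback.lift_fst _ _ _
    rw [← Scheme.Hom.comp_apply, h2, Scheme.Hom.comp_apply, Scheme.Hom.fiberι_asFiber]

end Groth.Agent.Lib.Helper25
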