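import Groth.Agent.Lib.Helper4.QcGen.Defs

/-!
# QA2 for helper4's S0948: `SCoh S` is stable under fibre products (helper25)

Generalised-element chase: a morphism `m` of sheaves of sets is an epimorphism iff every
`T`-point of the target lifts to the source after an epimorphic base change `T' ⟶ T`.
-/

set_option autoImplicit false

universe u

open CategoryTheory Limits Opposite Simplicial Groth.Agent.Lib.Helper4.QcGen

namespace Groth.Agent.Lib.Helper25.QcGenA2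

variable {C : Type u} [SmallCategory C] {J : GrothendieckTopology C}
  {S : Set (Sheaf J (Type u))}

/-- Local lifting of generalised elements. -/
def LS {A B : Sheaf J (Type u)} (m : A ⟶ B) : Prop :=
  ∀ (T : Sheaf J (Type u)) (x : T ⟶ B), ∃ (T' : Sheaf J (Type u)) (c : T' ⟶ T) (y : T' ⟶ A),
    Epi c ∧ y ≫ m = c ≫ x

lemma ls_of_epi {A B : Sheaf J (Type u)} (m : A ⟶ B) [Epi m] : LS m := by
  intro T x
  exact ⟨pullback x m, pullback.fst x m, pullback.snd x m,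
    Groth.Agent.Lib.Helper28.TotAcyc.epi_pullback_fst J x m, pullback.condition.symm⟩

lemma epi_of_ls {A B : Sheaf J (Type u)} (m : A ⟶ B) (h : LS m) : Epi m := by
  obtain ⟨T', c, y, hc, hy⟩ := h B (𝟙 B)
  rw [Category.comp_id] at hy
  have : Epi (y ≫ m) := by rw [hy]; exact hc
  exact epi_of_epi y m

lemma scoh_isPullback (h : Hyp S) {P Z₁ Z₂ W : Sheaf J (Type u)} {fst : P ⟶ Z₁} {snd : P ⟶ Z₂}
    {f : Z₁ ⟶ W} {g : Z₂ ⟶ W} (sq : IsPullback fst snd f g) (h₁ : SCoh S Z₁) (h₂ : SCoh S Z₂)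
    (hW : SCoh S W) : SCoh S P := by
  constructor
  · obtain ⟨K₁, π₁, hK₁, hπ₁⟩ := h₁.1
    obtain ⟨K₂, π₂, hK₂, hπ₂⟩ := h₂.1
    obtain ⟨K₃, g₃, hK₃, hg₃⟩ := h.h3 K₁ hK₁ K₂ hK₂
    obtain ⟨K₄, π₄, hK₄, hπ₄⟩ := hW.2 K₃ (g₃ ≫ prod.fst ≫ π₁ ≫ f) (g₃ ≫ prod.snd ≫ π₂ ≫ g) hK₃
    have hcond : (π₄ ≫ equalizer.ι _ _ ≫ g₃ ≫ prod.fst ≫ π₁) ≫ f =
        (π₄ ≫ equalizer.ι _ _ ≫ g₃ ≫ prod.snd ≫ π₂) ≫ g := by
      simp only [Category.assoc]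
      rw [equalizer.condition]
    refine ⟨K₄, sq.lift _ _ hcond, hK₄, ?_⟩
    apply epi_of_ls
    intro T x
    obtain ⟨T₁, c₁, k₁, hc₁, hk₁⟩ := ls_of_epi π₁ T (x ≫ fst)
    obtain ⟨T₂, c₂, k₂, hc₂, hk₂⟩ := ls_of_epi π₂ T₁ (c₁ ≫ x ≫ snd)
    obtain ⟨T₃, c₃, k₃, hc₃, hk₃⟩ := ls_of_epi g₃ T₂ (prod.lift (c₂ ≫ k₁) k₂)
    have hk₃a : k₃ ≫ g₃ ≫ prod.fst = c₃ ≫ c₂ ≫ k₁ := by
      rw [reassoc_of% hk₃, prod.lift_fst]
    have hk₃b : k₃ ≫ g₃ ≫ prod.snd = c₃ ≫ k₂ := by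
      rw [reassoc_of% hk₃, prod.lift_snd]
    have heq : k₃ ≫ (g₃ ≫ prod.fst ≫ π₁ ≫ f) = k₃ ≫ (g₃ ≫ prod.snd ≫ π₂ ≫ g) := by
      rw [reassoc_of% hk₃a, reassoc_of% hk₃b, reassoc_of% hk₁, reassoc_of% hk₂, sq.w]
    obtain ⟨T₄, c₄, k₄, hc₄, hk₄⟩ := ls_of_epi π₄ T₃ (equalizer.lift k₃ heq)
    have hk₄' : k₄ ≫ π₄ ≫ equalizer.ι _ _ = c₄ ≫ k₃ := by
      rw [reassoc_of% hk₄, equalizer.lift_ι]
    refine ⟨T₄, c₄ ≫ c₃ ≫ c₂ ≫ c₁, k₄, inferInstance, ?_⟩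
    apply sq.hom_ext
    · rw [Category.assoc, sq.lift_fst, reassoc_of% hk₄', reassoc_of% hk₃a, hk₁]
      simp only [Category.assoc]
    · rw [Category.assoc, sq.lift_snd, reassoc_of% hk₄', reassoc_of% hk₃b, hk₂]
      simp only [Category.assoc]
  · intro K a b hK
    obtain ⟨K', ρ', hK', hρ'⟩ := h₁.2 K (a ≫ fst) (b ≫ fst) hK
    obtain ⟨K'', ρ'', hK'', hρ''⟩ := h₂.2 K' ((ρ' ≫ equalizer.ι _ _) ≫ a ≫ snd)
      ((ρ' ≫ equalizer.ι _ _) ≫ b ≫ snd) hK'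
    have hcond : ((ρ'' ≫ equalizer.ι _ _) ≫ ρ' ≫ equalizer.ι _ _) ≫ a =
        ((ρ'' ≫ equalizer.ι _ _) ≫ ρ' ≫ equalizer.ι _ _) ≫ b := by
      apply sq.hom_ext
      · simp only [Category.assoc]
        rw [equalizer.condition]
      · simp only [Category.assoc]
        have := equalizer.condition ((ρ' ≫ equalizer.ι _ _) ≫ a ≫ snd)
          ((ρ' ≫ equalizer.ι _ _) ≫ b ≫ snd)
        simp only [Category.assoc] at this
        rw [this]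
    refine ⟨K'', equalizer.lift _ hcond, hK'', ?_⟩
    apply epi_of_ls
    intro T x
    have ht : (x ≫ equalizer.ι a b) ≫ (a ≫ fst) = (x ≫ equalizer.ι a b) ≫ (b ≫ fst) := by
      simp only [Category.assoc]
      rw [equalizer.condition_assoc]
    obtain ⟨T₁, c₁, y₁, hc₁, hy₁⟩ := ls_of_epi ρ' T (equalizer.lift _ ht)
    have hy₁' : y₁ ≫ ρ' ≫ equalizer.ι _ _ = c₁ ≫ x ≫ equalizer.ι a b := by
      rw [reassoc_of% hy₁, equalizer.lift_ι]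
    have ht₂ : y₁ ≫ ((ρ' ≫ equalizer.ι _ _) ≫ a ≫ snd) =
        y₁ ≫ ((ρ' ≫ equalizer.ι _ _) ≫ b ≫ snd) := by
      simp only [Category.assoc]
      rw [reassoc_of% hy₁', reassoc_of% hy₁', equalizer.condition_assoc]
    obtain ⟨T₂, c₂, y₂, hc₂, hy₂⟩ := ls_of_epi ρ'' T₁ (equalizer.lift _ ht₂)
    have hy₂' : y₂ ≫ ρ'' ≫ equalizer.ι _ _ = c₂ ≫ y₁ := by
      rw [reassoc_of% hy₂, equalizer.lift_ι]
    refine ⟨T₂, c₂ ≫ c₁, y₂, inferInstance, ?_⟩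
    rw [← cancel_mono (equalizer.ι a b)]
    simp only [Category.assoc, equalizer.lift_ι]
    rw [reassoc_of% hy₂', hy₁']

end Groth.Agent.Lib.Helper25.QcGenA2
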