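import Groth.Agent.Lib.Helper25.DerCompleteHom
import Groth.Prelude.Def_DDual2

set_option autoImplicit false
universe u
attribute [local instance] HasDerivedCategory.standard
open DRing CategoryTheory CategoryTheory.Limits

namespace Groth.Agent.Lib.Helper25.S7098Aux

noncomputable def mIso {A : Type u} [CommRing A] (f : A) :
    (ModuleCat.restrictScalars.{u} (algebraMap A (Localization.Away f))).obj
      (ModuleCat.of (Localization.Away f) (Localization.Away f)) ≅
      ModuleCat.of A (Localization.Away f) :=
  let M1 := (ModuleCat.restrictScalars.{u} (algebraMap A (Localization.Away f))).obj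
      (ModuleCat.of (Localization.Away f) (Localization.Away f))
  let M2 := ModuleCat.of A (Localization.Away f)
  have key : ∀ (r : A) (y : Localization.Away f),
      algebraMap A (Localization.Away f) r • y = r • y := fun r y => algebraMap_smul _ r y
  { hom := @ModuleCat.ofHom A _ M1 M2 _ M1.isModule _ M2.isModule
      (@LinearMap.mk A A _ _ (RingHom.id A) M1 M2 _ _ M1.isModule M2.isModule
        ⟨fun x => x, fun _ _ => rfl⟩ (fun r x => key r x))
    inv := @ModuleCat.ofHom A _ M2 M1 _ M2.isModule _ M1.isModule
      (@LinearMap.mk A A _ _ (RingHom.id A) M2 M1 _ _ M2.isModule M1.isModule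
        ⟨fun x => x, fun _ _ => rfl⟩ (fun r x => (key r x).symm))
    hom_inv_id := by ext; rfl
    inv_hom_id := by ext; rfl }

theorem aux {A : Type u} [CommRing A] (f : A)
    (K : Dual.D A) :
    (∀ n : ℤ, Subsingleton (Dual.inD A (Localization.Away f) ⟶ K⟦n⟧)) ↔
      ∀ E : Dual.D (Localization.Away f),
        Subsingleton ((DRing.restrictD (algebraMap A (Localization.Away f))).obj E ⟶ K) := by
  let φ : A →+* Localization.Away f := algebraMap A (Localization.Away f)
  constructor
  · intro h E
    -- represent `E` by a complex of `A_f`-modules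
    let E₀ : DRing.Cx (Localization.Away f) := DerivedCategory.Q.objPreimage E
    let e : DerivedCategory.Q.obj E₀ ≅ E := DerivedCategory.Q.objObjPreimageIso E
    let X : DRing.Cx A :=
      ((ModuleCat.restrictScalars.{u} φ).mapHomologicalComplex (ComplexShape.up ℤ)).obj E₀
    let j : (DRing.restrictD φ).obj E ≅ DRing.toD X :=
      (DRing.restrictD φ).mapIso e.symm ≪≫
        ((ModuleCat.restrictScalars.{u} φ).mapDerivedCategoryFactors).app E₀
    have hX : ∀ i : ℤ, Function.Bijective (fun x : X.X i => f • x) := by
      intro i
      have hu : IsUnit (φ f) := IsLocalization.Away.algebraMap_isUnit f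
      obtain ⟨u, hu'⟩ := hu
      have hsm : ∀ x : X.X i, f • x = (φ f • (show E₀.X i from x) : E₀.X i) := fun x => rfl
      constructor
      · intro x y hxy
        have hxy' : f • x = f • y := hxy
        rw [hsm, hsm, ← hu'] at hxy'
        have := congrArg (fun z : E₀.X i => (↑u⁻¹ : Localization.Away f) • z) hxy'
        simp only [smul_smul, Units.inv_mul, one_smul] at this
        exact this
      · intro y
        refine ⟨((↑u⁻¹ : Localization.Away f) • (show E₀.X i from y) : E₀.X i), ?_⟩
        change f • _ = y
        rw [hsm, ← hu']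
        change (u : Localization.Away f) • ((↑u⁻¹ : Localization.Away f) • (show E₀.X i from y)) = y
        rw [smul_smul, Units.mul_inv, one_smul]
    have hs := Groth.Agent.Lib.Helper25.DerCompleteHom.subsingleton_hom_of_bijective f X hX K h
    constructor
    intro a b
    have : j.inv ≫ a = j.inv ≫ b := hs.elim _ _
    exact (cancel_epi j.inv).1 this
  · intro h n
    -- `E = A_f[-n]`
    let E : Dual.D (Localization.Away f) :=
      (Dual.inD (Localization.Away f) (Localization.Away f))⟦-n⟧
    let m := mIso f
    let j : (DRing.restrictD φ).obj E ≅ (Dual.inD A (Localization.Away f))⟦-n⟧ :=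
      ((DRing.restrictD φ).commShiftIso (-n)).app _ ≪≫
        (shiftFunctor (Dual.D A) (-n)).mapIso
          (((ModuleCat.restrictScalars.{u} φ).mapDerivedCategorySingleFunctor 0).app _ ≪≫
            (DerivedCategory.singleFunctor (ModuleCat.{u} A) 0).mapIso m)
    have hs := h E
    constructor
    intro a b
    have h1 : j.hom ≫ (a⟦-n⟧' ≫ (shiftFunctorCompIsoId (Dual.D A) n (-n) (by omega)).hom.app K) =
        j.hom ≫ (b⟦-n⟧' ≫ (shiftFunctorCompIsoId (Dual.D A) n (-n) (by omega)).hom.app K) :=
      hs.elim _ _
    have h2 := (cancel_epi j.hom).1 h1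
    have h3 := (cancel_mono _).1 h2
    exact (shiftFunctor (Dual.D A) (-n)).map_injective h3

end Groth.Agent.Lib.Helper25.S7098Aux
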