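import Mathlib

/-!
# ETAT for helper19's S6843: spreading out étaleness from a localization (helper25)
-/

set_option autoImplicit false

universe u

namespace Groth.Agent.Lib.Helper25.SpreadETAT

theorem exists_etale_away {R : Type u} [CommRing R] (p : Ideal R) [p.IsPrime] (R'' : Type u)
    [CommRing R''] [Algebra (Localization.AtPrime p) R'']
    [Algebra.Etale (Localization.AtPrime p) R''] [Algebra R R'']
    [IsScalarTower R (Localization.AtPrime p) R''] (C : Type u) [CommRing C] [Algebra R C]
    [Algebra.FinitePresentation R C] [Algebra C R''] [IsScalarTower R C R'']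
    [IsLocalization (Algebra.algebraMapSubmonoid C p.primeCompl) R''] (m'' : Ideal R'')
    [m''.IsPrime] :
    ∃ h : C, algebraMap C R'' h ∉ m'' ∧ Algebra.Etale R (Localization.Away h) := by
  let q : Ideal C := m''.comap (algebraMap C R'')
  have hqp : q.IsPrime := Ideal.comap_isPrime _ _
  let W := Localization.AtPrime m''
  -- `W` is the localization of `C` at `q`
  have hWq : IsLocalization.AtPrime W q :=
    IsLocalization.isLocalization_isLocalization_atPrime_isLocalization
      (Algebra.algebraMapSubmonoid C p.primeCompl) W m''
  -- `W` is formally étale over `R`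
  have h1 : Algebra.FormallyEtale R (Localization.AtPrime p) :=
    Algebra.FormallyEtale.of_isLocalization p.primeCompl
  have h2 : Algebra.FormallyEtale R R'' :=
    Algebra.FormallyEtale.comp R (Localization.AtPrime p) R''
  have h3 : Algebra.FormallyEtale R'' W :=
    Algebra.FormallyEtale.of_isLocalization m''.primeCompl
  have h4 : Algebra.FormallyEtale R W := Algebra.FormallyEtale.comp R R'' W
  -- transport to `Localization.AtPrime q`
  let e : W ≃ₐ[C] Localization.AtPrime q :=
    IsLocalization.algEquiv q.primeCompl W (Localization.AtPrime q)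
  have hsc : IsScalarTower R C W := IsScalarTower.of_algebraMap_eq fun r => by
    rw [IsScalarTower.algebraMap_apply R R'' W, IsScalarTower.algebraMap_apply R C R'',
      ← IsScalarTower.algebraMap_apply C R'' W]
  have h5 : Algebra.FormallyEtale R (Localization.AtPrime q) :=
    Algebra.FormallyEtale.of_equiv (e.restrictScalars R)
  have : Algebra.IsEtaleAt R q := h5
  obtain ⟨f, hf, hfe⟩ := Algebra.exists_etale_of_isEtaleAt (R := R) q
  exact ⟨f, fun hmem => hf (Ideal.mem_comap.2 hmem), hfe⟩

end Groth.Agent.Lib.Helper25.SpreadETAT
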