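import Mathlib.RingTheory.IntegralClosure.IntegrallyClosed
import Mathlib.RingTheory.Derivation.Basic
import Mathlib.FieldTheory.IntermediateField.Adjoin.Algebra
import Mathlib.Algebra.Polynomial.Expand
import Mathlib.Algebra.CharP.Frobenius
import Mathlib.Algebra.CharP.Algebra
import Mathlib.RingTheory.Localization.FractionRing
import Mathlib.RingTheory.Noetherian.Basic
import Mathlib.RingTheory.Adjoin.Polynomial.Basic
import Mathlib.Data.Int.GCD
import Mathlib.Data.Nat.Prime.Factorial

set_option autoImplicit false
universe u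

namespace Groth.Agent.Lib.Helper25.Tate

open Polynomial

section

variable {K : Type u} [Field K] {p : ℕ} [Fact p.Prime] [CharP K p] (D : Derivation ℤ K K)

omit [Fact p.Prime] in
theorem D_pow_p (c : K) : D (c ^ p) = 0 := by
  rw [Derivation.leibniz_pow, ← Nat.cast_smul_eq_nsmul K, CharP.cast_eq_zero, zero_smul]

theorem natCast_pow_p (n : ℕ) : ((n : K)) ^ p = n := by
  rw [← frobenius_def, map_natCast]

theorem D_eval_frob (q : K[X]) (a : K) :
    D (eval a (q.map (frobenius K p))) =
      eval a ((derivative q).map (frobenius K p)) * D a := by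
  induction q using Polynomial.induction_on' with
  | add q₁ q₂ h₁ h₂ =>
    simp only [Polynomial.map_add, eval_add, map_add, derivative_add, h₁, h₂, add_mul]
  | monomial n c =>
    rw [map_monomial, eval_monomial, derivative_monomial, map_monomial, eval_monomial,
      Derivation.leibniz, Derivation.leibniz_pow, frobenius_def, D_pow_p, map_mul, frobenius_def,
      frobenius_def, natCast_pow_p]
    simp only [smul_eq_mul, nsmul_eq_mul, mul_zero, add_zero]
    ring

end

section

variable {K : Type u} [Field K] {p : ℕ} [Fact p.Prime] [CharP K p]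
  {L : Type u} [Field L] [Algebra K L]

theorem pow_p_aeval (q : K[X]) (x : L) (a : K) (hx : x ^ p = algebraMap K L a) :
    (aeval x q) ^ p = algebraMap K L (eval a (q.map (frobenius K p))) := by
  rw [← map_pow, ← map_frobenius_expand, map_expand, expand_aeval, hx,
    aeval_algebraMap_apply_eq_algebraMap_eval]

end

section

variable {R : Type u} [CommRing R] [IsDomain R] [IsIntegrallyClosed R]
  {K : Type u} [Field K] [Algebra R K] [IsFractionRing R K] {p : ℕ} [Fact p.Prime] [CharP K p]
  (D : Derivation ℤ K K) (hD : ∀ r : R, ∃ s : R, D (algebraMap R K r) = algebraMap R K s)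
  {L : Type u} [Field L] [Algebra K L] [Algebra R L] [IsScalarTower R K L]
  (x : L) (a : K) (hx : x ^ p = algebraMap K L a)
  (u v : R) (huv : D a * algebraMap R K v = algebraMap R K u)

include hD hx huv in
theorem claimA (q : K[X]) (hq : IsIntegral R (aeval x q)) :
    IsIntegral R (algebraMap R L u * aeval x (derivative q)) := by
  have hp : 0 < p := (Fact.out : p.Prime).pos
  have h1 : IsIntegral R (algebraMap K L (eval a (q.map (frobenius K p)))) := by
    rw [← pow_p_aeval q x a hx]; exact hq.pow p
  rw [isIntegral_algebraMap_iff (algebraMap K L).injective] at h1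
  obtain ⟨r, hr⟩ := IsIntegrallyClosed.isIntegral_iff.mp h1
  obtain ⟨r', hr'⟩ := hD r
  have h2 : eval a ((derivative q).map (frobenius K p)) * D a = algebraMap R K r' := by
    rw [← D_eval_frob, ← hr, hr']
  have h3 : eval a ((derivative q).map (frobenius K p)) * algebraMap R K u =
      algebraMap R K (r' * v) := by
    rw [← huv, ← mul_assoc, h2, map_mul]
  apply IsIntegral.of_pow hp
  have h4 : (algebraMap R L u * aeval x (derivative q)) ^ p =
      algebraMap R L (u ^ (p - 1) * (r' * v)) := by
    rw [mul_pow, pow_p_aeval _ x a hx, IsScalarTower.algebraMap_apply R K L, ← map_pow, ← map_mul,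
      IsScalarTower.algebraMap_apply R K L (u ^ (p - 1) * (r' * v)), map_mul (algebraMap R K),
      ← h3]
    congr 1
    rw [map_pow]
    have hpp : algebraMap R K u ^ p = algebraMap R K u ^ (p - 1) * algebraMap R K u := by
      rw [← pow_succ]
      congr 1
      omega
    rw [hpp]
    ring
  rw [h4]
  exact isIntegral_algebraMap

include hD hx huv in
theorem claimA_iterate (n : ℕ) (q : K[X]) (hq : IsIntegral R (aeval x q)) :
    IsIntegral R (algebraMap R L u ^ n * aeval x (derivative^[n] q)) := by
  induction n generalizing q with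
  | zero => simpa using hq
  | succ n ih =>
    have h1 := claimA D hD x a hx u v huv q hq
    have h2 : algebraMap R L u * aeval x (derivative q) =
        aeval x (C (algebraMap R K u) * derivative q) := by
      rw [map_mul, aeval_C, ← IsScalarTower.algebraMap_apply]
    rw [h2] at h1
    have h3 := ih _ h1
    rw [iterate_derivative_C_mul, map_mul, aeval_C, ← IsScalarTower.algebraMap_apply,
      ← mul_assoc, ← pow_succ, ← Function.iterate_succ_apply] at h3
    exact h3

include hD hx huv in
theorem claimB (a₀ : R) (ha₀ : a = algebraMap R K a₀) (k : ℕ) (hk : k < p) :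
    ∃ N : ℕ, ∀ q : K[X], q.natDegree ≤ k → IsIntegral R (aeval x q) →
      algebraMap R L u ^ N * aeval x q ∈
        Submodule.span R (Set.range fun i : Fin p => x ^ (i : ℕ)) := by
  have hpp : p.Prime := Fact.out
  have hxint : IsIntegral R x := by
    apply IsIntegral.of_pow hpp.pos
    rw [hx, ha₀, ← IsScalarTower.algebraMap_apply]
    exact isIntegral_algebraMap
  have hmem : ∀ (r : R) (j : ℕ), j < p → algebraMap R L r * x ^ j ∈
      Submodule.span R (Set.range fun i : Fin p => x ^ (i : ℕ)) := by
    intro r j hj
    rw [← Algebra.smul_def]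
    exact Submodule.smul_mem _ _ (Submodule.subset_span ⟨⟨j, hj⟩, rfl⟩)
  induction k with
  | zero =>
    refine ⟨0, fun q hq hint => ?_⟩
    rw [Polynomial.eq_C_of_natDegree_le_zero hq] at hint ⊢
    rw [aeval_C] at hint ⊢
    rw [isIntegral_algebraMap_iff (algebraMap K L).injective] at hint
    obtain ⟨r, hr⟩ := IsIntegrallyClosed.isIntegral_iff.mp hint
    rw [← hr, ← IsScalarTower.algebraMap_apply, pow_zero, one_mul]
    have h0 := hmem r 0 hpp.pos
    simpa using h0
  | succ k ih =>
    obtain ⟨N, hN⟩ := ih (by omega)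
    refine ⟨N + (k + 1), fun q hq hint => ?_⟩
    have h1 := claimA_iterate D hD x a hx u v huv (k + 1) q hint
    have h2 : derivative^[k + 1] q = C (((k + 1).factorial : K) * q.coeff (k + 1)) := by
      have hdeg : (derivative^[k + 1] q).natDegree ≤ 0 := by
        refine (natDegree_iterate_derivative q (k + 1)).trans ?_
        omega
      rw [Polynomial.eq_C_of_natDegree_le_zero hdeg, coeff_iterate_derivative, zero_add,
        Nat.descFactorial_self, nsmul_eq_mul]
    rw [h2, aeval_C, IsScalarTower.algebraMap_apply R K L, ← map_pow, ← map_mul,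
      isIntegral_algebraMap_iff (algebraMap K L).injective] at h1
    obtain ⟨ρ, hρ⟩ := IsIntegrallyClosed.isIntegral_iff.mp h1
    have hcop : Nat.Coprime (k + 1).factorial p :=
      Nat.Coprime.symm ((Nat.Prime.coprime_iff_not_dvd hpp).mpr
        (mt (Nat.Prime.dvd_factorial hpp).mp (not_le.mpr hk)))
    obtain ⟨m, -, hm⟩ := Nat.exists_mul_mod_eq_one_of_coprime hcop hpp.one_lt
    have hmK : (((k + 1).factorial : K)) * (m : K) = 1 := by
      rw [← Nat.cast_mul, CharP.cast_eq_mod K p, hm, Nat.cast_one]
    have hc' : algebraMap R K ((m : R) * ρ) = algebraMap R K u ^ (k + 1) * q.coeff (k + 1) := by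
      rw [map_mul, map_natCast, hρ]
      calc (m : K) * (algebraMap R K u ^ (k + 1) * (((k + 1).factorial : K) * q.coeff (k + 1)))
          = (((k + 1).factorial : K) * (m : K)) * (algebraMap R K u ^ (k + 1) * q.coeff (k + 1)) := by
            ring
        _ = algebraMap R K u ^ (k + 1) * q.coeff (k + 1) := by rw [hmK, one_mul]
    have hq' : (C (algebraMap R K u ^ (k + 1)) * q -
        C (algebraMap R K ((m : R) * ρ)) * X ^ (k + 1)).natDegree ≤ k := by
      rw [natDegree_le_iff_coeff_eq_zero]
      intro n hn
      rw [coeff_sub, coeff_C_mul, coeff_C_mul_X_pow]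
      by_cases hnk : n = k + 1
      · rw [if_pos hnk, hnk, hc', sub_self]
      · rw [if_neg hnk, sub_zero, coeff_eq_zero_of_natDegree_lt (by omega), mul_zero]
    have hval : aeval x (C (algebraMap R K u ^ (k + 1)) * q -
        C (algebraMap R K ((m : R) * ρ)) * X ^ (k + 1)) =
        algebraMap R L u ^ (k + 1) * aeval x q - algebraMap R L ((m : R) * ρ) * x ^ (k + 1) := by
      simp only [map_sub, map_mul, map_pow, aeval_C, aeval_X, map_natCast,
        ← IsScalarTower.algebraMap_apply R K L]
    have hint' : IsIntegral R (aeval x (C (algebraMap R K u ^ (k + 1)) * q -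
        C (algebraMap R K ((m : R) * ρ)) * X ^ (k + 1))) := by
      rw [hval]
      exact IsIntegral.sub (IsIntegral.mul (isIntegral_algebraMap.pow _) hint)
        (IsIntegral.mul isIntegral_algebraMap (hxint.pow _))
    have h3 := hN _ hq' hint'
    rw [hval] at h3
    have h4 : algebraMap R L u ^ (N + (k + 1)) * aeval x q =
        algebraMap R L u ^ N * (algebraMap R L u ^ (k + 1) * aeval x q -
          algebraMap R L ((m : R) * ρ) * x ^ (k + 1)) +
        algebraMap R L (u ^ N * ((m : R) * ρ)) * x ^ (k + 1) := by
      simp only [map_mul, map_pow]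
      ring
    rw [h4]
    exact Submodule.add_mem _ h3 (hmem _ _ hk)

include hD hx huv in
theorem finite_integralClosure_aux [IsNoetherianRing R] (a₀ : R) (ha₀ : a = algebraMap R K a₀)
    (hu : u ≠ 0) (hgen : ∀ y : L, ∃ q : K[X], aeval x q = y) :
    Module.Finite R (integralClosure R L) := by
  have hpp : p.Prime := Fact.out
  obtain ⟨N, hN⟩ := claimB D hD x a hx u v huv a₀ ha₀ (p - 1) (by have := hpp.pos; omega)
  have hrep : ∀ y : L, ∃ q : K[X], q.natDegree ≤ p - 1 ∧ aeval x q = y := by
    intro y
    obtain ⟨q₀, rfl⟩ := hgen y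
    have hmonic : (X ^ p - C a : K[X]).Monic := monic_X_pow_sub_C a hpp.ne_zero
    have hne1 : (X ^ p - C a : K[X]) ≠ 1 := by
      intro h1
      have h2 := congrArg natDegree h1
      rw [natDegree_X_pow_sub_C, natDegree_one] at h2
      exact hpp.ne_zero h2
    refine ⟨q₀ %ₘ (X ^ p - C a), ?_, ?_⟩
    · have h3 := natDegree_modByMonic_lt q₀ hmonic hne1
      rw [natDegree_X_pow_sub_C] at h3
      omega
    · have h := modByMonic_add_div q₀ (X ^ p - C a)
      conv_rhs => rw [← h]
      rw [map_add, map_mul, map_sub, map_pow, aeval_X, aeval_C, hx, sub_self, zero_mul,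
        add_zero]
  have hMfg : (Submodule.span R (Set.range fun i : Fin p => x ^ (i : ℕ))).FG :=
    Submodule.fg_span (Set.finite_range _)
  haveI : IsNoetherian R (Submodule.span R (Set.range fun i : Fin p => x ^ (i : ℕ))) :=
    isNoetherian_of_fg_of_noetherian _ hMfg
  have hφM : ∀ b : integralClosure R L, ((u ^ N) • (integralClosure R L).val.toLinearMap) b ∈
      Submodule.span R (Set.range fun i : Fin p => x ^ (i : ℕ)) := by
    intro b
    obtain ⟨q, hq, hqb⟩ := hrep b
    have h1 := hN q hq (hqb ▸ b.2)
    change (u ^ N) • (b : L) ∈ _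
    rw [Algebra.smul_def, map_pow, ← hqb]
    exact h1
  have hinj : Function.Injective (algebraMap R L) := by
    rw [IsScalarTower.algebraMap_eq R K L]
    exact (algebraMap K L).injective.comp (IsFractionRing.injective R K)
  have hψ : Function.Injective (LinearMap.codRestrict _
      ((u ^ N) • (integralClosure R L).val.toLinearMap) hφM) := by
    intro b₁ b₂ h
    have h1 : (u ^ N) • (b₁ : L) = (u ^ N) • (b₂ : L) := congrArg Subtype.val h
    rw [Algebra.smul_def, Algebra.smul_def] at h1
    have h2 : algebraMap R L (u ^ N) ≠ 0 := by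
      rw [Ne, map_eq_zero_iff _ hinj]
      exact pow_ne_zero _ hu
    exact Subtype.ext (mul_left_cancel₀ h2 h1)
  exact Module.Finite.of_injective _ hψ

end

theorem finite_integralClosure (R : Type u) [CommRing R]
    [IsDomain R] [IsNoetherianRing R] [IsIntegrallyClosed R] (K : Type u) [Field K] [Algebra R K]
    [IsFractionRing R K] (p : ℕ) [Fact p.Prime] [CharP K p] (D : Derivation ℤ K K)
    (hD : ∀ r : R, ∃ s : R, D (algebraMap R K r) = algebraMap R K s) (a : K) (ha : D a ≠ 0)
    (L : Type u) [Field L] [Algebra K L] [Algebra R L] [IsScalarTower R K L] (x : L)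
    (hx : x ^ p = algebraMap K L a) (hgen : IntermediateField.adjoin K {x} = ⊤) :
    Module.Finite R (integralClosure R L) := by
  have hpp : p.Prime := Fact.out
  obtain ⟨r, s, hs, hrs⟩ := IsFractionRing.div_surjective (A := R) a
  have hsK : algebraMap R K s ≠ 0 := by
    rw [Ne, map_eq_zero_iff _ (IsFractionRing.injective R K)]
    exact nonZeroDivisors.ne_zero hs
  have ha' : algebraMap R K (s ^ (p - 1) * r) = algebraMap R K s ^ p * a := by
    rw [← hrs, map_mul, map_pow]
    have h1 : algebraMap R K s ^ p = algebraMap R K s ^ (p - 1) * algebraMap R K s := by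
      rw [← pow_succ]
      congr 1
      have := hpp.pos
      omega
    rw [h1]
    field_simp
  have hx' : (algebraMap R L s * x) ^ p = algebraMap K L (algebraMap R K (s ^ (p - 1) * r)) := by
    rw [mul_pow, hx, ha', map_mul, map_pow, ← IsScalarTower.algebraMap_apply]
  have hDa' : D (algebraMap R K (s ^ (p - 1) * r)) = algebraMap R K s ^ p * D a := by
    rw [ha', Derivation.leibniz, D_pow_p, smul_zero, add_zero, smul_eq_mul]
  obtain ⟨u, v, hv, huv⟩ := IsFractionRing.div_surjective (A := R)
    (D (algebraMap R K (s ^ (p - 1) * r)))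
  have hvK : algebraMap R K v ≠ 0 := by
    rw [Ne, map_eq_zero_iff _ (IsFractionRing.injective R K)]
    exact nonZeroDivisors.ne_zero hv
  have huv' : D (algebraMap R K (s ^ (p - 1) * r)) * algebraMap R K v = algebraMap R K u := by
    rw [← huv]
    field_simp
  have hu : u ≠ 0 := by
    rintro rfl
    rw [map_zero, zero_div] at huv
    rw [← huv] at hDa'
    exact ha ((mul_eq_zero.mp hDa'.symm).resolve_left (pow_ne_zero _ hsK))
  have halg : IsAlgebraic K x := by
    refine ⟨X ^ p - C a, (monic_X_pow_sub_C a hpp.ne_zero).ne_zero, ?_⟩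
    rw [map_sub, map_pow, aeval_X, aeval_C, hx, sub_self]
  have hadj : Algebra.adjoin K {x} = ⊤ := by
    rw [← IntermediateField.adjoin_simple_toSubalgebra_of_isAlgebraic halg, hgen,
      IntermediateField.top_toSubalgebra]
  have hgen' : ∀ y : L, ∃ q : K[X], aeval (algebraMap R L s * x) q = y := by
    intro y
    have hy : y ∈ Algebra.adjoin K {x} := by rw [hadj]; exact Algebra.mem_top
    rw [Algebra.adjoin_singleton_eq_range_aeval] at hy
    obtain ⟨q₀, hq₀⟩ := hy
    have hq₀' : aeval x q₀ = y := hq₀
    refine ⟨q₀.comp (C (algebraMap R K s)⁻¹ * X), ?_⟩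
    rw [← hq₀', aeval_comp, map_mul, aeval_C, aeval_X, IsScalarTower.algebraMap_apply R K L, ← mul_assoc,
      ← map_mul, inv_mul_cancel₀ hsK, map_one, one_mul]
  exact finite_integralClosure_aux D hD (algebraMap R L s * x) _ hx' u v huv'
    (s ^ (p - 1) * r) rfl hu hgen'

end Groth.Agent.Lib.Helper25.Tate
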