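import Mathlib

/-!
# The telescope short exact sequence `0 → ⨁ Mₙ → ⨁ Mₙ → M → 0` for an increasing union
of submodules
-/

set_option autoImplicit false
universe u

namespace Groth.Agent.Lib.Helper25.Telescope

open DirectSum

variable {A : Type u} [CommRing A] {M : Type u} [AddCommGroup M] [Module A M]
variable (p : ℕ → Submodule A M) (hp : Monotone p)

/-- the shift map -/
noncomputable def sh : (⨁ n, p n) →ₗ[A] (⨁ n, p n) :=
  DirectSum.toModule A ℕ _ (fun n =>
    (DirectSum.lof A ℕ (fun n => p n) (n + 1)).comp (Submodule.inclusion (hp (Nat.le_succ n))))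

@[simp]
theorem sh_lof (n : ℕ) (x : p n) :
    sh p hp (DirectSum.lof A ℕ (fun n => p n) n x) =
      DirectSum.lof A ℕ (fun n => p n) (n + 1) (Submodule.inclusion (hp (Nat.le_succ n)) x) := by
  unfold sh
  rw [DirectSum.toModule_lof]
  rfl

/-- `1 - shift` -/
noncomputable def uMap : (⨁ n, p n) →ₗ[A] (⨁ n, p n) := LinearMap.id - sh p hp

/-- the sum map -/
noncomputable def vMap : (⨁ n, p n) →ₗ[A] M :=
  DirectSum.toModule A ℕ _ (fun n => (p n).subtype)

@[simp]
theorem vMap_lof (n : ℕ) (x : p n) :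
    vMap p (DirectSum.lof A ℕ (fun n => p n) n x) = (x : M) := by
  unfold vMap
  rw [DirectSum.toModule_lof]
  rfl

theorem vMap_sh : (vMap p).comp (sh p hp) = vMap p := by
  apply DirectSum.linearMap_ext
  intro n
  ext x
  simp

theorem vMap_uMap (z : ⨁ n, p n) : vMap p (uMap p hp z) = 0 := by
  have := LinearMap.congr_fun (vMap_sh p hp) z
  simp only [LinearMap.comp_apply] at this
  simp [uMap, this]

/-- the components, as maps to `M` -/
noncomputable def comp (n : ℕ) : (⨁ n, p n) →ₗ[A] M :=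
  (p n).subtype.comp (DirectSum.component A ℕ (fun n => p n) n)

theorem comp_lof (n k : ℕ) (x : p k) :
    comp p n (DirectSum.lof A ℕ (fun n => p n) k x) = if k = n then (x : M) else 0 := by
  unfold comp
  rw [LinearMap.comp_apply, DirectSum.component.of]
  by_cases h : k = n
  · subst h
    simp
  · simp [h]

theorem comp_zero_sh : (comp p 0).comp (sh p hp) = 0 := by
  apply DirectSum.linearMap_ext
  intro n
  ext x
  simp [comp_lof]

theorem comp_succ_sh (n : ℕ) : (comp p (n + 1)).comp (sh p hp) = comp p n := by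
  apply DirectSum.linearMap_ext
  intro k
  ext x
  simp [comp_lof]

theorem eq_zero_of_comp (z : ⨁ n, p n) (h : ∀ n, comp p n z = 0) : z = 0 := by
  apply DFinsupp.ext
  intro n
  have := h n
  unfold comp at this
  rw [LinearMap.comp_apply, Submodule.subtype_apply] at this
  exact Subtype.ext this

theorem uMap_injective : Function.Injective (uMap p hp) := by
  rw [injective_iff_map_eq_zero]
  intro z hz
  have hz' : z = sh p hp z := by
    have : z - sh p hp z = 0 := hz
    exact sub_eq_zero.1 this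
  apply eq_zero_of_comp
  intro n
  induction n with
  | zero =>
    rw [hz']
    exact LinearMap.congr_fun (comp_zero_sh p hp) z
  | succ n ih =>
    rw [hz']
    have := LinearMap.congr_fun (comp_succ_sh p hp n) z
    simp only [LinearMap.comp_apply] at this
    rw [this, ih]

theorem vMap_surjective (h : ∀ x : M, ∃ n, x ∈ p n) : Function.Surjective (vMap p) := by
  intro x
  obtain ⟨n, hn⟩ := h x
  exact ⟨DirectSum.lof A ℕ (fun n => p n) n ⟨x, hn⟩, by simp⟩

theorem lof_eq (k : ℕ) (x : p k) (N : ℕ) (hN : k ≤ N) :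
    ∃ w : ⨁ n, p n, DirectSum.lof A ℕ (fun n => p n) k x =
      uMap p hp w + DirectSum.lof A ℕ (fun n => p n) N (Submodule.inclusion (hp hN) x) := by
  induction N, hN using Nat.le_induction with
  | base =>
    refine ⟨0, ?_⟩
    rw [map_zero, zero_add]
    rfl
  | succ N hN ih =>
    obtain ⟨w, hw⟩ := ih
    refine ⟨w + DirectSum.lof A ℕ (fun n => p n) N (Submodule.inclusion (hp hN) x), ?_⟩
    rw [hw, map_add]
    have : uMap p hp (DirectSum.lof A ℕ (fun n => p n) N (Submodule.inclusion (hp hN) x)) =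
        DirectSum.lof A ℕ (fun n => p n) N (Submodule.inclusion (hp hN) x) -
          DirectSum.lof A ℕ (fun n => p n) (N + 1)
            (Submodule.inclusion (hp (Nat.le_succ N)) (Submodule.inclusion (hp hN) x)) := by
      simp [uMap]
    rw [this]
    have h2 : Submodule.inclusion (hp (Nat.le_succ N)) (Submodule.inclusion (hp hN) x) =
        Submodule.inclusion (hp (Nat.le_succ_of_le hN)) x := rfl
    rw [h2]
    abel

theorem exists_decomp (z : ⨁ n, p n) :
    ∃ N, ∀ N', N ≤ N' → ∃ (y : p N') (w : ⨁ n, p n),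
      z = uMap p hp w + DirectSum.lof A ℕ (fun n => p n) N' y := by
  induction z using DirectSum.induction_on with
  | zero => exact ⟨0, fun N' _ => ⟨0, 0, by simp⟩⟩
  | of k x =>
    refine ⟨k, fun N' hN' => ?_⟩
    obtain ⟨w, hw⟩ := lof_eq p hp k x N' hN'
    exact ⟨_, w, hw⟩
  | add z₁ z₂ h₁ h₂ =>
    obtain ⟨N₁, h₁⟩ := h₁
    obtain ⟨N₂, h₂⟩ := h₂
    refine ⟨max N₁ N₂, fun N' hN' => ?_⟩
    obtain ⟨y₁, w₁, e₁⟩ := h₁ N' (le_trans (le_max_left _ _) hN')
    obtain ⟨y₂, w₂, e₂⟩ := h₂ N' (le_trans (le_max_right _ _) hN')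
    refine ⟨y₁ + y₂, w₁ + w₂, ?_⟩
    rw [e₁, e₂, map_add, map_add]
    abel

theorem exact_uMap_vMap : Function.Exact (uMap p hp) (vMap p) := by
  intro z
  constructor
  · intro hz
    obtain ⟨N, hN⟩ := exists_decomp p hp z
    obtain ⟨y, w, e⟩ := hN N le_rfl
    have h1 : vMap p z = (y : M) := by
      rw [e, map_add, vMap_uMap, zero_add, vMap_lof]
    have hy : y = 0 := Subtype.ext (by rw [← h1, hz]; rfl)
    refine ⟨w, ?_⟩
    rw [e, hy, map_zero, add_zero]
  · rintro ⟨w, rfl⟩
    exact vMap_uMap p hp w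

end Groth.Agent.Lib.Helper25.Telescope
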