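import Groth.Agent.Lib.Helper25.Telescope
import Groth.Agent.Lib.Helper25.DCompTri
import Groth.Agent.Lib.Helper89.SigmaExact

/-!
# The telescope in the derived category: maps out of an increasing union of submodules
-/

set_option autoImplicit false
universe u

namespace Groth.Agent.Lib.Helper25.TelescopeD

open CategoryTheory CategoryTheory.Limits CategoryTheory.Pretriangulated DerivedCategory
open DirectSum
open Groth.Agent.Lib.Helper25.DCompTri Groth.Agent.Lib.Helper25.Telescope
open Helper89.SigmaExact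

attribute [local instance] HasDerivedCategory.standard

section Tri

variable {C : Type*} [Category C] [Preadditive C] [HasZeroObject C] [HasShift C ℤ]
  [∀ n : ℤ, (shiftFunctor C n).Additive] [Pretriangulated C]

/-- left orthogonality is closed under cones -/
theorem orth_obj₃ (T : Triangle C) (hT : T ∈ distTriang C) (W : C)
    (h₁ : Orth T.obj₁ W) (h₂ : Orth T.obj₂ W) : Orth T.obj₃ W := by
  intro n
  have key : ∀ φ : T.obj₃ ⟶ W⟦n⟧, φ = 0 := by
    intro φ
    have h0 : T.mor₂ ≫ φ = 0 := (h₂ n).elim _ _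
    obtain ⟨g, hg⟩ := Triangle.yoneda_exact₃ T hT φ h0
    -- `g : T.obj₁⟦1⟧ ⟶ W⟦n⟧` vanishes
    let e : W⟦n⟧ ≅ (W⟦n - 1⟧)⟦(1 : ℤ)⟧ :=
      (shiftFunctorAdd' C (n - 1) 1 n (by omega)).app W
    obtain ⟨g₀, hg₀⟩ := (shiftFunctor C (1 : ℤ)).map_surjective (g ≫ e.hom)
    have : g₀ = 0 := (h₁ (n - 1)).elim _ _
    rw [this, Functor.map_zero] at hg₀
    have hg' : g = 0 := by
      rw [← cancel_mono e.hom, zero_comp]
      exact hg₀.symm
    rw [hg, hg', comp_zero]
  constructor
  intro a b
  rw [key a, key b]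

end Tri

variable {A : Type u} [CommRing A]

section Bridge

variable (Z : ℕ → ModuleCat.{u} A)

/-- the complexes `Z n` in degree `0` -/
noncomputable abbrev sX (n : ℕ) : CochainComplex (ModuleCat.{u} A) ℤ :=
  (HomologicalComplex.single (ModuleCat.{u} A) (ComplexShape.up ℤ) 0).obj (Z n)

/-- the direct sum in degree `0` -/
noncomputable abbrev sS : CochainComplex (ModuleCat.{u} A) ℤ :=
  (HomologicalComplex.single (ModuleCat.{u} A) (ComplexShape.up ℤ) 0).obj
    (ModuleCat.of A (⨁ n, Z n))

/-- the comparison from the termwise coproduct -/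
noncomputable def cmp : sigmaCx (sX Z) ⟶ sS Z :=
  sigmaCxDesc (sX Z) (fun n =>
    (HomologicalComplex.single (ModuleCat.{u} A) (ComplexShape.up ℤ) 0).map
      (ModuleCat.ofHom (DirectSum.lof A ℕ (fun n => Z n) n)))

theorem isZero_sigma {Y : ℕ → ModuleCat.{u} A} (h : ∀ n, IsZero (Y n)) : IsZero (∐ Y) := by
  rw [IsZero.iff_id_eq_zero]
  apply Limits.Sigma.hom_ext
  intro n
  exact (h n).eq_of_src _ _

instance isIso_cmp_f (k : ℤ) : IsIso ((cmp Z).f k) := by
  by_cases hk : k = 0
  · subst hk
    let inv : (sS Z).X 0 ⟶ (sigmaCx (sX Z)).X 0 :=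
      (HomologicalComplex.singleObjXSelf (ComplexShape.up ℤ) 0 (ModuleCat.of A (⨁ n, Z n))).hom ≫
        (ModuleCat.coproductCoconeIsColimit Z).desc
          (Cofan.mk (∐ fun n => (sX Z n).X 0) (fun n =>
            (HomologicalComplex.singleObjXSelf (ComplexShape.up ℤ) 0 (Z n)).inv ≫
              Limits.Sigma.ι (fun n => (sX Z n).X 0) n))
    have hfac : ∀ n, ModuleCat.ofHom (DirectSum.lof A ℕ (fun n => Z n) n) ≫
        (ModuleCat.coproductCoconeIsColimit Z).desc
          (Cofan.mk (∐ fun n => (sX Z n).X 0) (fun n =>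
            (HomologicalComplex.singleObjXSelf (ComplexShape.up ℤ) 0 (Z n)).inv ≫
              Limits.Sigma.ι (fun n => (sX Z n).X 0) n)) =
        (HomologicalComplex.singleObjXSelf (ComplexShape.up ℤ) 0 (Z n)).inv ≫
              Limits.Sigma.ι (fun n => (sX Z n).X 0) n := fun n =>
      (ModuleCat.coproductCoconeIsColimit Z).fac _ ⟨n⟩
    have hι : ∀ n, Limits.Sigma.ι (fun n => (sX Z n).X 0) n ≫ (cmp Z).f 0 =
        (HomologicalComplex.singleObjXSelf (ComplexShape.up ℤ) 0 (Z n)).hom ≫
          ModuleCat.ofHom (DirectSum.lof A ℕ (fun n => Z n) n) ≫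
          (HomologicalComplex.singleObjXSelf (ComplexShape.up ℤ) 0
            (ModuleCat.of A (⨁ n, Z n))).inv := by
      intro n
      have : Limits.Sigma.ι (fun n => (sX Z n).X 0) n ≫ (cmp Z).f 0 =
          ((HomologicalComplex.single (ModuleCat.{u} A) (ComplexShape.up ℤ) 0).map
            (ModuleCat.ofHom (DirectSum.lof A ℕ (fun n => Z n) n))).f 0 := by
        unfold cmp sigmaCxDesc
        exact Limits.Sigma.ι_desc _ n
      rw [this, HomologicalComplex.single_map_f_self]
    refine ⟨⟨inv, ?_, ?_⟩⟩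
    · apply Limits.Sigma.hom_ext
      intro n
      refine Eq.trans (Category.assoc _ _ _).symm ?_
      refine Eq.trans (congrArg (fun t => t ≫ inv) (hι n)) ?_
      refine Eq.trans ?_ (Category.comp_id _).symm
      simp only [inv, Category.assoc, Iso.inv_hom_id_assoc]
      refine Eq.trans (congrArg (fun t => (HomologicalComplex.singleObjXSelf
        (ComplexShape.up ℤ) 0 (Z n)).hom ≫ t) (hfac n)) ?_
      exact Iso.hom_inv_id_assoc _ _
    · have h3 : (ModuleCat.coproductCoconeIsColimit Z).desc
          (Cofan.mk (∐ fun n => (sX Z n).X 0) (fun n =>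
            (HomologicalComplex.singleObjXSelf (ComplexShape.up ℤ) 0 (Z n)).inv ≫
              Limits.Sigma.ι (fun n => (sX Z n).X 0) n)) ≫ (cmp Z).f 0 =
          (HomologicalComplex.singleObjXSelf (ComplexShape.up ℤ) 0
            (ModuleCat.of A (⨁ n, Z n))).inv := by
        apply (ModuleCat.coproductCoconeIsColimit Z).hom_ext
        rintro ⟨n⟩
        refine Eq.trans (Category.assoc _ _ _).symm ?_
        refine Eq.trans (congrArg (fun t => t ≫ (cmp Z).f 0) (hfac n)) ?_
        refine Eq.trans (Category.assoc _ _ _) ?_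
        refine Eq.trans (congrArg (fun t => (HomologicalComplex.singleObjXSelf
          (ComplexShape.up ℤ) 0 (Z n)).inv ≫ t) (hι n)) ?_
        exact Iso.inv_hom_id_assoc _ _
      change ((HomologicalComplex.singleObjXSelf (ComplexShape.up ℤ) 0
        (ModuleCat.of A (⨁ n, Z n))).hom ≫ _) ≫ (cmp Z).f 0 = _
      refine Eq.trans (Category.assoc _ _ _) ?_
      refine Eq.trans (congrArg (fun t => (HomologicalComplex.singleObjXSelf
        (ComplexShape.up ℤ) 0 (ModuleCat.of A (⨁ n, Z n))).hom ≫ t) h3) ?_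
      exact Iso.hom_inv_id _
  · have h1 : IsZero ((sigmaCx (sX Z)).X k) :=
      isZero_sigma (fun n => HomologicalComplex.isZero_single_obj_X _ _ _ _ hk)
    have h2 : IsZero ((sS Z).X k) := HomologicalComplex.isZero_single_obj_X _ _ _ _ hk
    exact ⟨⟨0, h1.eq_of_src _ _, h2.eq_of_src _ _⟩⟩

instance isIso_cmp : IsIso (cmp Z) := HomologicalComplex.Hom.isIso_of_components _

/-- maps out of a direct sum (in degree `0`) are detected on the summands -/
theorem eq_zero_of_lof_comp (L : DerivedCategory (ModuleCat.{u} A))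
    (c : (singleFunctor (ModuleCat.{u} A) 0).obj (ModuleCat.of A (⨁ n, Z n)) ⟶ L)
    (hc : ∀ n, (singleFunctor (ModuleCat.{u} A) 0).map
      (ModuleCat.ofHom (DirectSum.lof A ℕ (fun n => Z n) n)) ≫ c = 0) : c = 0 := by
  let c' : Q.obj (sS Z) ⟶ L := c
  have h1 : Q.map (cmp Z) ≫ c' = 0 := by
    apply eq_zero_of_comp_ι (sX Z)
    intro n
    rw [← Category.assoc, ← Q.map_comp]
    have : sigmaCxι (sX Z) n ≫ cmp Z =
        (HomologicalComplex.single (ModuleCat.{u} A) (ComplexShape.up ℤ) 0).map
          (ModuleCat.ofHom (DirectSum.lof A ℕ (fun n => Z n) n)) := by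
      unfold cmp
      rw [sigmaCxι_desc]
    rw [this]
    exact hc n
  have : IsIso (Q.map (cmp Z)) := inferInstance
  exact (cancel_epi (Q.map (cmp Z))).1 (h1.trans comp_zero.symm)

/-- orthogonality passes to direct sums -/
theorem orth_directSum (W : DerivedCategory (ModuleCat.{u} A))
    (h : ∀ n, Orth ((singleFunctor (ModuleCat.{u} A) 0).obj (Z n)) W) :
    Orth ((singleFunctor (ModuleCat.{u} A) 0).obj (ModuleCat.of A (⨁ n, Z n))) W := by
  intro j
  constructor
  intro a b
  have ha := eq_zero_of_lof_comp Z _ a (fun n => (h n j).elim _ _)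
  have hb := eq_zero_of_lof_comp Z _ b (fun n => (h n j).elim _ _)
  rw [ha, hb]

end Bridge

section Union

variable (M : ModuleCat.{u} A) (p : ℕ → Submodule A M) (hp : Monotone p)

/-- the telescope short complex -/
noncomputable def telSC : ShortComplex (ModuleCat.{u} A) :=
  ShortComplex.mk (ModuleCat.ofHom (uMap p hp)) (ModuleCat.ofHom (vMap p)) (by
    apply ModuleCat.hom_ext
    apply LinearMap.ext
    intro z
    exact vMap_uMap p hp z)

theorem telSC_shortExact (h : ∀ x : M, ∃ n, x ∈ p n) : (telSC M p hp).ShortExact := by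
  have hex : (telSC M p hp).Exact :=
    (ShortComplex.ShortExact.moduleCat_exact_iff_function_exact _).2 (exact_uMap_vMap p hp)
  have : Mono (telSC M p hp).f := (ModuleCat.mono_iff_injective _).2 (uMap_injective p hp)
  have : Epi (telSC M p hp).g := (ModuleCat.epi_iff_surjective _).2 (vMap_surjective p h)
  exact ShortComplex.ShortExact.mk hex

/-- maps out of an increasing union -/
theorem orth_of_union (hp : Monotone p) (h : ∀ x : M, ∃ n, x ∈ p n) (W : DerivedCategory (ModuleCat.{u} A))
    (hW : ∀ n, Orth ((singleFunctor (ModuleCat.{u} A) 0).obj (ModuleCat.of A (p n))) W) :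
    Orth ((singleFunctor (ModuleCat.{u} A) 0).obj M) W := by
  have hS := telSC_shortExact M p hp h
  have hT := hS.singleTriangle_distinguished
  have h0 := orth_directSum (fun n => ModuleCat.of A (p n)) W hW
  exact orth_obj₃ _ hT W h0 h0

end Union

end Groth.Agent.Lib.Helper25.TelescopeD
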