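import Groth.Agent.Lib.Helper25.TensorCx

/-!
# Elementwise formulas for the unitors and the associator of the tensor product of complexes
-/

set_option autoImplicit false
universe u

namespace Groth.Agent.Lib.Helper25.TensorCx

open CategoryTheory CategoryTheory.Limits MonoidalCategory HomologicalComplex

variable {R : Type u} [CommRing R]

/-- The unit element of the unit complex in degree 0. -/
noncomputable def unitElt (R : Type u) [CommRing R] : (𝟙_ (Cx R)).X 0 :=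
  (singleObjXSelf (ComplexShape.up ℤ) 0 (𝟙_ (ModuleCat.{u} R))).inv (1 : R)

/-- The coordinate of the degree 0 part of the unit complex. -/
noncomputable def unitCoord (R : Type u) [CommRing R] : (𝟙_ (Cx R)).X 0 →ₗ[R] R :=
  (singleObjXSelf (ComplexShape.up ℤ) 0 (𝟙_ (ModuleCat.{u} R))).hom.hom

theorem unitCoord_smul_unitElt (z : (𝟙_ (Cx R)).X 0) : unitCoord R z • unitElt R = z := by
  have h1 : (singleObjXSelf (ComplexShape.up ℤ) 0 (𝟙_ (ModuleCat.{u} R))).inv
      ((singleObjXSelf (ComplexShape.up ℤ) 0 (𝟙_ (ModuleCat.{u} R))).hom z) = z := by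
    change ((singleObjXSelf (ComplexShape.up ℤ) 0 (𝟙_ (ModuleCat.{u} R))).hom ≫
      (singleObjXSelf (ComplexShape.up ℤ) 0 (𝟙_ (ModuleCat.{u} R))).inv) z = z
    rw [Iso.hom_inv_id]
    rfl
  conv_rhs => rw [← h1]
  unfold unitElt unitCoord
  rw [← map_smul]
  congr 1
  exact mul_one _

theorem unit_eq_zero (k : ℤ) (hk : k ≠ 0) (z : (𝟙_ (Cx R)).X k) : z = 0 := by
  have hz : IsZero ((𝟙_ (Cx R)).X k) :=
    isZero_single_obj_X (ComplexShape.up ℤ) 0 (𝟙_ (ModuleCat.{u} R)) k hk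
  have := ModuleCat.subsingleton_of_isZero hz
  exact Subsingleton.elim _ _

theorem leftUnitor_inv_f_apply (K : Cx R) (i : ℤ) (x : K.X i) :
    (λ_ K).inv.f i x = tm (𝟙_ (Cx R)) K 0 i i (zero_add i) (unitElt R) x := by
  have h : (λ_ K).inv.f i = (HomologicalComplex.leftUnitor' K).inv i := rfl
  rw [h, HomologicalComplex.leftUnitor'_inv]
  rfl

theorem rightUnitor_inv_f_apply (K : Cx R) (i : ℤ) (x : K.X i) :
    (ρ_ K).inv.f i x = tm K (𝟙_ (Cx R)) i 0 i (add_zero i) x (unitElt R) := by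
  have h : (ρ_ K).inv.f i = (HomologicalComplex.rightUnitor' K).inv i := rfl
  rw [h, HomologicalComplex.rightUnitor'_inv]
  rfl

theorem leftUnitor_hom_inv_apply (K : Cx R) (i : ℤ) (x : K.X i) :
    (λ_ K).hom.f i ((λ_ K).inv.f i x) = x := by
  change ((λ_ K).inv.f i ≫ (λ_ K).hom.f i) x = x
  rw [← HomologicalComplex.comp_f, Iso.inv_hom_id]
  rfl

theorem rightUnitor_hom_inv_apply (K : Cx R) (i : ℤ) (x : K.X i) :
    (ρ_ K).hom.f i ((ρ_ K).inv.f i x) = x := by
  change ((ρ_ K).inv.f i ≫ (ρ_ K).hom.f i) x = x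
  rw [← HomologicalComplex.comp_f, Iso.inv_hom_id]
  rfl

theorem tm_unit_left_injective (K : Cx R) (i : ℤ) {x y : K.X i}
    (h : tm (𝟙_ (Cx R)) K 0 i i (zero_add i) (unitElt R) x =
      tm (𝟙_ (Cx R)) K 0 i i (zero_add i) (unitElt R) y) : x = y := by
  rw [← leftUnitor_inv_f_apply, ← leftUnitor_inv_f_apply] at h
  rw [← leftUnitor_hom_inv_apply K i x, ← leftUnitor_hom_inv_apply K i y, h]

theorem tm_unit_right_injective (K : Cx R) (i : ℤ) {x y : K.X i}
    (h : tm K (𝟙_ (Cx R)) i 0 i (add_zero i) x (unitElt R) =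
      tm K (𝟙_ (Cx R)) i 0 i (add_zero i) y (unitElt R)) : x = y := by
  rw [← rightUnitor_inv_f_apply, ← rightUnitor_inv_f_apply] at h
  rw [← rightUnitor_hom_inv_apply K i x, ← rightUnitor_hom_inv_apply K i y, h]

theorem associator_hom_f_eq (K L M : Cx R) (n : ℤ) :
    (α_ K L M).hom.f n = (HomologicalComplex.mapBifunctorAssociatorX
      (curriedAssociatorNatIso (ModuleCat.{u} R)) K L M (ComplexShape.up ℤ) (ComplexShape.up ℤ)
        (ComplexShape.up ℤ) n).hom := rfl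

theorem associator_hom_ι (K L M : Cx R) (p q r pq qr n : ℤ) (h₁ : p + q = pq) (h₂ : pq + r = n)
    (h₃ : q + r = qr) (h₄ : p + qr = n) :
    (ιTensorObj K L p q pq h₁ ▷ M.X r) ≫ ιTensorObj (K ⊗ L) M pq r n h₂ ≫ (α_ K L M).hom.f n =
      (α_ (K.X p) (L.X q) (M.X r)).hom ≫ (K.X p ◁ ιTensorObj L M q r qr h₃) ≫
        ιTensorObj K (L ⊗ M) p qr n h₄ := by
  rw [associator_hom_f_eq]
  have e1 := HomologicalComplex.mapBifunctor₁₂.ι_eq (curriedTensor (ModuleCat.{u} R))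
    (curriedTensor (ModuleCat.{u} R)) K L M (ComplexShape.up ℤ) (ComplexShape.up ℤ) p q r pq n h₁ h₂
  have e2 := HomologicalComplex.mapBifunctor₂₃.ι_eq (curriedTensor (ModuleCat.{u} R))
    (curriedTensor (ModuleCat.{u} R)) K L M (ComplexShape.up ℤ) (ComplexShape.up ℤ)
    (ComplexShape.up ℤ) p q r qr n h₃ h₄
  have e3 := HomologicalComplex.ι_mapBifunctorAssociatorX_hom
    (curriedAssociatorNatIso (ModuleCat.{u} R)) K L M (ComplexShape.up ℤ) (ComplexShape.up ℤ)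
    (ComplexShape.up ℤ) p q r n (by rw [← h₂, ← h₁]; rfl)
  rw [e1, e2] at e3
  simp at e3
  exact e3

/-- The associator on generators: `(k ⊗ l) ⊗ m ↦ k ⊗ (l ⊗ m)`, without sign. -/
theorem associator_hom_tm (K L M : Cx R) (p q r pq qr n : ℤ) (h₁ : p + q = pq) (h₂ : pq + r = n)
    (h₃ : q + r = qr) (h₄ : p + qr = n) (k : K.X p) (l : L.X q) (m : M.X r) :
    (α_ K L M).hom.f n (tm (K ⊗ L) M pq r n h₂ (tm K L p q pq h₁ k l) m) =
      tm K (L ⊗ M) p qr n h₄ k (tm L M q r qr h₃ l m) := by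
  have := congrArg (fun f => f ((k ⊗ₜ[R] l) ⊗ₜ[R] m))
    (congrArg ModuleCat.Hom.hom (associator_hom_ι K L M p q r pq qr n h₁ h₂ h₃ h₄))
  exact this

theorem associator_inv_tm (K L M : Cx R) (p q r pq qr n : ℤ) (h₁ : p + q = pq) (h₂ : pq + r = n)
    (h₃ : q + r = qr) (h₄ : p + qr = n) (k : K.X p) (l : L.X q) (m : M.X r) :
    (α_ K L M).inv.f n (tm K (L ⊗ M) p qr n h₄ k (tm L M q r qr h₃ l m)) =
      tm (K ⊗ L) M pq r n h₂ (tm K L p q pq h₁ k l) m := by
  rw [← associator_hom_tm K L M p q r pq qr n h₁ h₂ h₃ h₄]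
  change ((α_ K L M).hom.f n ≫ (α_ K L M).inv.f n) _ = _
  rw [← HomologicalComplex.comp_f, Iso.hom_inv_id]
  rfl

end Groth.Agent.Lib.Helper25.TensorCx
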