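import Groth.Prelude.Def_DRing4
import Mathlib.Algebra.Category.ModuleCat.Products

set_option autoImplicit false
universe u

namespace Groth.Agent.Lib.Helper25.TensorCx

open CategoryTheory CategoryTheory.Limits MonoidalCategory HomologicalComplex

variable {R : Type u} [CommRing R]

/-- Cochain complexes of modules. -/
abbrev Cx (R : Type u) [CommRing R] := CochainComplex (ModuleCat.{u} R) ℤ

section Basic

variable (L K : Cx R)

/-- The generator `l ⊗ k` of the tensor product complex in degree `n = p + q`. -/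
noncomputable def tm (p q n : ℤ) (h : p + q = n) (l : L.X p) (k : K.X q) : ((L ⊗ K : Cx R).X n) :=
  (ιTensorObj L K p q n h) (l ⊗ₜ[R] k)

/-- The index type of the summands in degree `n`. -/
abbrev Idx (n : ℤ) : Type :=
  (ComplexShape.π (ComplexShape.up ℤ) (ComplexShape.up ℤ) (ComplexShape.up ℤ)) ⁻¹' {n}

/-- The summands. -/
abbrev Sm (n : ℤ) (i : Idx n) : ModuleCat.{u} R := (L.X i.1.1 ⊗ K.X i.1.2 : ModuleCat R)

/-- Constructor for indices. -/
def mkIdx (p q n : ℤ) (h : p + q = n) : Idx n := ⟨(p, q), h⟩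

/-- The direct sum model of the degree `n` part. -/
noncomputable def dsIso (n : ℤ) : (L ⊗ K : Cx R).X n ≅ ModuleCat.of R (DirectSum (Idx n) fun i => Sm L K n i) :=
  ModuleCat.coprodIsoDirectSum (fun i : Idx n => Sm L K n i)

theorem ι_dsIso_hom (p q n : ℤ) (h : p + q = n) :
    ιTensorObj L K p q n h ≫ (dsIso L K n).hom =
      ModuleCat.ofHom (DirectSum.lof R (Idx n) (fun i => Sm L K n i) (mkIdx p q n h)) :=
  ModuleCat.ι_coprodIsoDirectSum_hom (fun i : Idx n => Sm L K n i) (mkIdx p q n h)

theorem dsIso_hom_tm (p q n : ℤ) (h : p + q = n) (l : L.X p) (k : K.X q) :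
    (dsIso L K n).hom (tm L K p q n h l k) =
      DirectSum.lof R (Idx n) (fun i => Sm L K n i) (mkIdx p q n h) (l ⊗ₜ[R] k) := by
  have := congrArg (fun f => f (l ⊗ₜ[R] k)) (congrArg ModuleCat.Hom.hom (ι_dsIso_hom L K p q n h))
  exact this

theorem tm_add_left (p q n : ℤ) (h : p + q = n) (l l' : L.X p) (k : K.X q) :
    tm L K p q n h (l + l') k = tm L K p q n h l k + tm L K p q n h l' k := by
  simp only [tm, TensorProduct.add_tmul, map_add]

theorem tm_add_right (p q n : ℤ) (h : p + q = n) (l : L.X p) (k k' : K.X q) :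
    tm L K p q n h l (k + k') = tm L K p q n h l k + tm L K p q n h l k' := by
  simp only [tm, TensorProduct.tmul_add, map_add]

theorem tm_smul_left (p q n : ℤ) (h : p + q = n) (r : R) (l : L.X p) (k : K.X q) :
    tm L K p q n h (r • l) k = r • tm L K p q n h l k := by
  simp only [tm, ← TensorProduct.smul_tmul', map_smul]

theorem tm_smul_right (p q n : ℤ) (h : p + q = n) (r : R) (l : L.X p) (k : K.X q) :
    tm L K p q n h l (r • k) = r • tm L K p q n h l k := by
  simp only [tm, TensorProduct.tmul_smul, map_smul]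

theorem tm_zero_left (p q n : ℤ) (h : p + q = n) (k : K.X q) :
    tm L K p q n h 0 k = 0 := by
  simp only [tm, TensorProduct.zero_tmul, map_zero]

theorem tm_zero_right (p q n : ℤ) (h : p + q = n) (l : L.X p) :
    tm L K p q n h l 0 = 0 := by
  simp only [tm, TensorProduct.tmul_zero, map_zero]

/-- The inclusion of a summand, as a linear map. -/
noncomputable def inc (p q n : ℤ) (h : p + q = n) :
    TensorProduct R (L.X p) (K.X q) →ₗ[R] ((L ⊗ K : Cx R).X n) :=
  (ιTensorObj L K p q n h).hom

theorem inc_tmul (p q n : ℤ) (h : p + q = n) (l : L.X p) (k : K.X q) :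
    inc L K p q n h (l ⊗ₜ[R] k) = tm L K p q n h l k := rfl

/-- The projection to a summand, as a linear map. -/
noncomputable def comp (p q n : ℤ) (h : p + q = n) :
    ((L ⊗ K : Cx R).X n) →ₗ[R] TensorProduct R (L.X p) (K.X q) :=
  (DirectSum.component R (Idx n) (fun i => Sm L K n i) (mkIdx p q n h)) ∘ₗ (dsIso L K n).hom.hom

theorem dsIso_hom_inc (p q n : ℤ) (h : p + q = n) (t : TensorProduct R (L.X p) (K.X q)) :
    (dsIso L K n).hom (inc L K p q n h t) =
      DirectSum.lof R (Idx n) (fun i => Sm L K n i) (mkIdx p q n h) t := by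
  have := congrArg (fun f => f t) (congrArg ModuleCat.Hom.hom (ι_dsIso_hom L K p q n h))
  exact this

theorem comp_inc_self (p q n : ℤ) (h : p + q = n) (t : TensorProduct R (L.X p) (K.X q)) :
    comp L K p q n h (inc L K p q n h t) = t := by
  change DirectSum.component R (Idx n) (fun i => Sm L K n i) (mkIdx p q n h)
    ((dsIso L K n).hom (inc L K p q n h t)) = t
  rw [dsIso_hom_inc]
  exact DirectSum.component.lof_self R (M := fun i => Sm L K n i) (mkIdx p q n h) t

theorem comp_inc_ne (p q p' q' n : ℤ) (h : p + q = n) (h' : p' + q' = n) (hne : p' ≠ p)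
    (t : TensorProduct R (L.X p') (K.X q')) :
    comp L K p q n h (inc L K p' q' n h' t) = 0 := by
  change DirectSum.component R (Idx n) (fun i => Sm L K n i) (mkIdx p q n h)
    ((dsIso L K n).hom (inc L K p' q' n h' t)) = 0
  rw [dsIso_hom_inc]
  rw [DirectSum.component.of, dif_neg]
  intro e
  apply hne
  have := congrArg (fun i : Idx n => i.1.1) e
  exact this

theorem ext_comp {n : ℤ} {x y : (L ⊗ K : Cx R).X n}
    (hxy : ∀ (p q : ℤ) (h : p + q = n), comp L K p q n h x = comp L K p q n h y) : x = y := by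
  have hinj : Function.Injective (dsIso L K n).hom :=
    (ModuleCat.mono_iff_injective _).1 inferInstance
  apply hinj
  apply DirectSum.ext_component R
  rintro ⟨⟨p, q⟩, h⟩
  exact hxy p q h

theorem tm_induction {n : ℤ} {motive : ((L ⊗ K : Cx R).X n) → Prop}
    (zero : motive 0) (add : ∀ x y, motive x → motive y → motive (x + y))
    (tm' : ∀ (p q : ℤ) (h : p + q = n) (l : L.X p) (k : K.X q), motive (tm L K p q n h l k))
    (x : (L ⊗ K : Cx R).X n) : motive x := by
  have key : ∀ (p q : ℤ) (h : p + q = n) (t : TensorProduct R (L.X p) (K.X q)),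
      motive (inc L K p q n h t) := by
    intro p q h t
    induction t using TensorProduct.induction_on with
    | zero => rw [map_zero]; exact zero
    | tmul l k => exact tm' p q h l k
    | add a b ha hb => rw [map_add]; exact add _ _ ha hb
  have hx : x = (dsIso L K n).inv ((dsIso L K n).hom x) := by
    change x = ((dsIso L K n).hom ≫ (dsIso L K n).inv) x
    rw [Iso.hom_inv_id]
    rfl
  rw [hx]
  generalize (dsIso L K n).hom x = y
  induction y using DirectSum.induction_on with
  | zero => rw [map_zero]; exact zero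
  | add a b ha hb => rw [map_add]; exact add _ _ ha hb
  | of i t =>
    obtain ⟨⟨p, q⟩, h⟩ := i
    have h1 : (dsIso L K n).inv (DirectSum.of (fun i => Sm L K n i) ⟨(p, q), h⟩ t) =
        inc L K p q n h t := by
      have h2 := dsIso_hom_inc L K p q n h t
      have h3 : (dsIso L K n).inv ((dsIso L K n).hom (inc L K p q n h t)) = inc L K p q n h t := by
        change ((dsIso L K n).hom ≫ (dsIso L K n).inv) _ = _
        rw [Iso.hom_inv_id]
        rfl
      rw [← h3, h2]
      rfl
    rw [h1]
    exact key p q h t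

theorem dsIso_inv_of (p q n : ℤ) (h : p + q = n) (t : TensorProduct R (L.X p) (K.X q)) :
    (dsIso L K n).inv (DirectSum.of (fun i => Sm L K n i) (mkIdx p q n h) t) =
      inc L K p q n h t := by
  have h2 := dsIso_hom_inc L K p q n h t
  have h3 : (dsIso L K n).inv ((dsIso L K n).hom (inc L K p q n h t)) = inc L K p q n h t := by
    change ((dsIso L K n).hom ≫ (dsIso L K n).inv) _ = _
    rw [Iso.hom_inv_id]
    rfl
  rw [← h3, h2]
  rfl

theorem dsIso_hom_bijective (n : ℤ) : Function.Bijective (dsIso L K n).hom :=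
  (ConcreteCategory.bijective_of_isIso (dsIso L K n).hom)

theorem dsIso_inv_bijective (n : ℤ) : Function.Bijective (dsIso L K n).inv :=
  (ConcreteCategory.bijective_of_isIso (dsIso L K n).inv)

theorem comp_tm_self (p q n : ℤ) (h : p + q = n) (l : L.X p) (k : K.X q) :
    comp L K p q n h (tm L K p q n h l k) = l ⊗ₜ[R] k :=
  comp_inc_self L K p q n h _

theorem comp_tm_ne (p q p' q' n : ℤ) (h : p + q = n) (h' : p' + q' = n) (hne : p' ≠ p)
    (l : L.X p') (k : K.X q') :
    comp L K p q n h (tm L K p' q' n h' l k) = 0 :=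
  comp_inc_ne L K p q p' q' n h h' hne _

/-- Linear maps out of the tensor complex are determined by their values on generators. -/
theorem lin_ext {n : ℤ} {M : Type*} [AddCommMonoid M] [Module R M]
    {f g : ((L ⊗ K : Cx R).X n) →ₗ[R] M}
    (hfg : ∀ (p q : ℤ) (h : p + q = n) (l : L.X p) (k : K.X q),
      f (tm L K p q n h l k) = g (tm L K p q n h l k)) : f = g := by
  ext x
  induction x using tm_induction L K with
  | zero => rw [map_zero, map_zero]
  | add x y hx hy => rw [map_add, map_add, hx, hy]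
  | tm' p q h l k => exact hfg p q h l k

theorem exists_finset_sum {n : ℤ} (x : (L ⊗ K : Cx R).X n) :
    ∃ s : Finset (Idx n), x = ∑ i ∈ s, inc L K i.1.1 i.1.2 n i.2 (comp L K i.1.1 i.1.2 n i.2 x) := by
  classical
  have hinj : Function.Injective (dsIso L K n).hom :=
    (ModuleCat.mono_iff_injective _).1 inferInstance
  refine ⟨DFinsupp.support ((dsIso L K n).hom x), hinj ?_⟩
  rw [map_sum]
  conv_lhs => rw [← DirectSum.sum_support_of ((dsIso L K n).hom x)]
  refine Finset.sum_congr rfl fun i _ => ?_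
  obtain ⟨⟨p, q⟩, h⟩ := i
  rw [dsIso_hom_inc]
  rfl

theorem comp_sum_inc {n : ℤ} (s : Finset (Idx n))
    (t : ∀ i : Idx n, TensorProduct R (L.X i.1.1) (K.X i.1.2)) (p q : ℤ) (h : p + q = n) :
    comp L K p q n h (∑ i ∈ s, inc L K i.1.1 i.1.2 n i.2 (t i)) =
      if mkIdx p q n h ∈ s then t (mkIdx p q n h) else 0 := by
  classical
  rw [map_sum]
  split_ifs with hmem
  · rw [Finset.sum_eq_single_of_mem (mkIdx p q n h) hmem]
    · exact comp_inc_self L K p q n h _
    · rintro ⟨⟨p', q'⟩, h'⟩ _ hne
      apply comp_inc_ne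
      intro e
      apply hne
      change p' = p at e
      subst e
      have : q' = q := by
        have h'' : p' + q' = n := h'
        omega
      subst this
      rfl
  · apply Finset.sum_eq_zero
    rintro ⟨⟨p', q'⟩, h'⟩ hmem'
    apply comp_inc_ne
    intro e
    apply hmem
    change p' = p at e
    subst e
    have : q' = q := by
      have h'' : p' + q' = n := h'
      omega
    subst this
    exact hmem'

end Basic

section Differential

variable (L K : Cx R)

theorem ι_d (p q n n' : ℤ) (h : p + q = n) (hn : n + 1 = n') :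
    ιTensorObj L K p q n h ≫ (L ⊗ K : Cx R).d n n' =
      (L.d p (p + 1) ▷ K.X q) ≫ ιTensorObj L K (p + 1) q n' (by omega) +
      (p.negOnePow : ℤˣ) • ((L.X p ◁ K.d q (q + 1)) ≫ ιTensorObj L K p (q + 1) n' (by omega)) := by
  change ιMapBifunctor L K (curriedTensor (ModuleCat.{u} R)) (ComplexShape.up ℤ) p q n h ≫
    (mapBifunctor L K (curriedTensor (ModuleCat.{u} R)) (ComplexShape.up ℤ)).d n n' = _
  rw [mapBifunctor.d_eq, Preadditive.comp_add, mapBifunctor.ι_D₁, mapBifunctor.ι_D₂]
  rw [mapBifunctor.d₁_eq L K _ _ (show (ComplexShape.up ℤ).Rel p (p + 1) from rfl) q n'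
    (show (p + 1) + q = n' by omega)]
  rw [mapBifunctor.d₂_eq L K _ _ p (show (ComplexShape.up ℤ).Rel q (q + 1) from rfl) n'
    (show p + (q + 1) = n' by omega)]
  simp only [ComplexShape.ε₁_def, one_smul]
  rfl

theorem d_tm (p q n n' : ℤ) (h : p + q = n) (hn : n + 1 = n') (l : L.X p) (k : K.X q) :
    (L ⊗ K : Cx R).d n n' (tm L K p q n h l k) =
      tm L K (p + 1) q n' (by omega) (L.d p (p + 1) l) k +
      (p.negOnePow : ℤˣ) • tm L K p (q + 1) n' (by omega) l (K.d q (q + 1) k) := by
  have := congrArg (fun f => f (l ⊗ₜ[R] k)) (congrArg ModuleCat.Hom.hom (ι_d L K p q n n' h hn))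
  exact this

end Differential

section Maps

variable {L L' K K' : Cx R}

theorem tensorHom_tm (f : L ⟶ L') (g : K ⟶ K') (p q n : ℤ) (h : p + q = n) (l : L.X p)
    (k : K.X q) :
    (f ⊗ₘ g : (L ⊗ K : Cx R) ⟶ L' ⊗ K').f n (tm L K p q n h l k) =
      tm L' K' p q n h (f.f p l) (g.f q k) := by
  have h1 := ι_mapBifunctorMap f g (curriedTensor (ModuleCat.{u} R)) (ComplexShape.up ℤ) p q n h
  have := congrArg (fun φ => φ (l ⊗ₜ[R] k)) (congrArg ModuleCat.Hom.hom h1)
  exact this

theorem whiskerLeft_tm (M : Cx R) (g : K ⟶ K') (p q n : ℤ) (h : p + q = n) (l : M.X p)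
    (k : K.X q) :
    (M ◁ g : (M ⊗ K : Cx R) ⟶ M ⊗ K').f n (tm M K p q n h l k) =
      tm M K' p q n h l (g.f q k) := by
  have := tensorHom_tm (𝟙 M) g p q n h l k
  rw [id_tensorHom] at this
  exact this

theorem whiskerRight_tm (f : L ⟶ L') (M : Cx R) (p q n : ℤ) (h : p + q = n) (l : L.X p)
    (k : M.X q) :
    (f ▷ M : (L ⊗ M : Cx R) ⟶ L' ⊗ M).f n (tm L M p q n h l k) =
      tm L' M p q n h (f.f p l) k := by
  have := tensorHom_tm f (𝟙 M) p q n h l k
  rw [tensorHom_id] at this
  exact this

theorem comp_whiskerLeft (M : Cx R) (g : K ⟶ K') (p q n : ℤ) (h : p + q = n)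
    (x : (M ⊗ K : Cx R).X n) :
    comp M K' p q n h ((M ◁ g : (M ⊗ K : Cx R) ⟶ M ⊗ K').f n x) =
      (LinearMap.lTensor (M.X p) (g.f q).hom) (comp M K p q n h x) := by
  induction x using tm_induction M K with
  | zero => simp only [map_zero]
  | add x y hx hy => simp only [map_add, hx, hy]
  | tm' p' q' h' l k =>
    rw [whiskerLeft_tm]
    by_cases hp : p' = p
    · subst hp
      have : q' = q := by omega
      subst this
      rw [comp_tm_self, comp_tm_self]
      rfl
    · rw [comp_tm_ne M K' p q p' q' n h h' hp, comp_tm_ne M K p q p' q' n h h' hp, map_zero]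

theorem comp_whiskerRight (f : L ⟶ L') (M : Cx R) (p q n : ℤ) (h : p + q = n)
    (x : (L ⊗ M : Cx R).X n) :
    comp L' M p q n h ((f ▷ M : (L ⊗ M : Cx R) ⟶ L' ⊗ M).f n x) =
      (LinearMap.rTensor (M.X q) (f.f p).hom) (comp L M p q n h x) := by
  induction x using tm_induction L M with
  | zero => simp only [map_zero]
  | add x y hx hy => simp only [map_add, hx, hy]
  | tm' p' q' h' l k =>
    rw [whiskerRight_tm]
    by_cases hp : p' = p
    · subst hp
      have : q' = q := by omega
      subst this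
      rw [comp_tm_self, comp_tm_self]
      rfl
    · rw [comp_tm_ne L' M p q p' q' n h h' hp, comp_tm_ne L M p q p' q' n h h' hp, map_zero]

theorem whiskerLeft_inc (M : Cx R) (g : K ⟶ K') (p q n : ℤ) (h : p + q = n)
    (t : TensorProduct R (M.X p) (K.X q)) :
    (M ◁ g : (M ⊗ K : Cx R) ⟶ M ⊗ K').f n (inc M K p q n h t) =
      inc M K' p q n h (LinearMap.lTensor (M.X p) (g.f q).hom t) := by
  induction t using TensorProduct.induction_on with
  | zero => simp only [map_zero]
  | tmul l k => exact whiskerLeft_tm M g p q n h l k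
  | add a b ha hb => simp only [map_add, ha, hb]

theorem whiskerRight_inc (f : L ⟶ L') (M : Cx R) (p q n : ℤ) (h : p + q = n)
    (t : TensorProduct R (L.X p) (M.X q)) :
    (f ▷ M : (L ⊗ M : Cx R) ⟶ L' ⊗ M).f n (inc L M p q n h t) =
      inc L' M p q n h (LinearMap.rTensor (M.X q) (f.f p).hom t) := by
  induction t using TensorProduct.induction_on with
  | zero => simp only [map_zero]
  | tmul l k => exact whiskerRight_tm f M p q n h l k
  | add a b ha hb => simp only [map_add, ha, hb]

end Maps

section CompD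

variable (L K : Cx R)

theorem comp_d_aux (p q n : ℤ) (h : (p + 1) + (q + 1) = n + 1) (z : (L ⊗ K : Cx R).X n) :
    comp L K (p + 1) (q + 1) (n + 1) h ((L ⊗ K : Cx R).d n (n + 1) z) =
      LinearMap.rTensor (K.X (q + 1)) (L.d p (p + 1)).hom (comp L K p (q + 1) n (by omega) z) +
      ((p + 1).negOnePow : ℤˣ) •
        LinearMap.lTensor (L.X (p + 1)) (K.d q (q + 1)).hom (comp L K (p + 1) q n (by omega) z) := by
  induction z using tm_induction L K with
  | zero => simp only [map_zero, smul_zero, add_zero]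
  | add x y hx hy =>
    simp only [map_add, hx, hy, smul_add]
    abel
  | tm' p₀ q₀ h₀ l k =>
    rw [d_tm L K p₀ q₀ n (n + 1) h₀ rfl l k, map_add, map_zsmul_unit]
    by_cases h1 : p₀ = p
    · subst h1
      have hq : q₀ = q + 1 := by omega
      subst hq
      rw [comp_tm_self, comp_tm_self]
      rw [comp_tm_ne L K (p₀ + 1) (q + 1) p₀ (q + 1 + 1) (n + 1) h (by omega) (by omega)]
      rw [comp_tm_ne L K (p₀ + 1) q p₀ (q + 1) n (by omega) h₀ (by omega)]
      simp only [smul_zero, add_zero, map_zero]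
      rfl
    · by_cases h2 : p₀ = p + 1
      · subst h2
        have hq : q₀ = q := by omega
        subst hq
        rw [comp_tm_self, comp_tm_self]
        rw [comp_tm_ne L K (p + 1) (q₀ + 1) (p + 1 + 1) q₀ (n + 1) h (by omega) (by omega)]
        rw [comp_tm_ne L K p (q₀ + 1) (p + 1) q₀ n (by omega) h₀ (by omega)]
        simp only [map_zero, zero_add]
        rfl
      · rw [comp_tm_ne L K (p + 1) (q + 1) (p₀ + 1) q₀ (n + 1) h (by omega) (by omega)]
        rw [comp_tm_ne L K (p + 1) (q + 1) p₀ (q₀ + 1) (n + 1) h (by omega) (by omega)]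
        rw [comp_tm_ne L K p (q + 1) p₀ q₀ n (by omega) h₀ (by omega)]
        rw [comp_tm_ne L K (p + 1) q p₀ q₀ n (by omega) h₀ (by omega)]
        simp only [map_zero, smul_zero, add_zero]

theorem comp_d (p p' q q' n n' : ℤ) (hp : p + 1 = p') (hq : q + 1 = q') (hn : n + 1 = n')
    (h : p' + q' = n') (z : (L ⊗ K : Cx R).X n) :
    comp L K p' q' n' h ((L ⊗ K : Cx R).d n n' z) =
      LinearMap.rTensor (K.X q') (L.d p p').hom (comp L K p q' n (by omega) z) +
      (p'.negOnePow : ℤˣ) •
        LinearMap.lTensor (L.X p') (K.d q q').hom (comp L K p' q n (by omega) z) := by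
  subst hp hq hn
  exact comp_d_aux L K p q n h z

end CompD

end Groth.Agent.Lib.Helper25.TensorCx
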