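import Groth.Agent.Lib.Helper25.KFlat
import Mathlib.Algebra.Module.Projective
import Mathlib.LinearAlgebra.DirectSum.Basis
import Mathlib.RingTheory.Finiteness.Prod
import Mathlib.Data.Int.Interval

/-!
# Finiteness properties of the terms of a tensor product of complexes
-/

set_option autoImplicit false
universe u

namespace Groth.Agent.Lib.Helper25.TensorFin

open CategoryTheory CategoryTheory.Limits MonoidalCategory HomologicalComplex TensorProduct
open Groth.Agent.Lib.Helper25.TensorCx

variable {R : Type u} [CommRing R] (L K : Cx R)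

theorem projective_tensor (hL : ∀ i, Module.Projective R (L.X i))
    (hK : ∀ i, Module.Projective R (K.X i)) (n : ℤ) :
    Module.Projective R ((L ⊗ K : Cx R).X n) := by
  have : ∀ i : Idx n, Module.Projective R (Sm L K n i) := fun i => by
    have := hL i.1.1
    have := hK i.1.2
    change Module.Projective R (TensorProduct R (L.X i.1.1) (K.X i.1.2))
    infer_instance
  exact Module.Projective.of_equiv (dsIso L K n).toLinearEquiv.symm

theorem free_tensor (hL : ∀ i, Module.Free R (L.X i))
    (hK : ∀ i, Module.Free R (K.X i)) (n : ℤ) :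
    Module.Free R ((L ⊗ K : Cx R).X n) := by
  have : ∀ i : Idx n, Module.Free R (Sm L K n i) := fun i => by
    have := hL i.1.1
    have := hK i.1.2
    change Module.Free R (TensorProduct R (L.X i.1.1) (K.X i.1.2))
    infer_instance
  exact Module.Free.of_equiv (dsIso L K n).toLinearEquiv.symm

theorem isZero_tensor_of_forall (n : ℤ)
    (h : ∀ p q : ℤ, p + q = n → IsZero (L.X p) ∨ IsZero (K.X q)) :
    IsZero ((L ⊗ K : Cx R).X n) := by
  have hz : ∀ x : (L ⊗ K : Cx R).X n, x = 0 := by
    intro x
    induction x using tm_induction L K with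
    | zero => rfl
    | add x y hx hy => rw [hx, hy, add_zero]
    | tm' p q hpq l k =>
      rcases h p q hpq with hp | hq
      · have := ModuleCat.subsingleton_of_isZero hp
        rw [Subsingleton.elim l 0, tm_zero_left]
      · have := ModuleCat.subsingleton_of_isZero hq
        rw [Subsingleton.elim k 0, tm_zero_right]
  have : Subsingleton ((L ⊗ K : Cx R).X n) := ⟨fun x y => by rw [hz x, hz y]⟩
  exact ModuleCat.isZero_of_subsingleton _

theorem isZero_tensor_above (b b' : ℤ) (hL : ∀ i, b < i → IsZero (L.X i))
    (hK : ∀ i, b' < i → IsZero (K.X i)) (n : ℤ) (hn : b + b' < n) :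
    IsZero ((L ⊗ K : Cx R).X n) := by
  apply isZero_tensor_of_forall
  intro p q hpq
  by_cases hp : b < p
  · exact Or.inl (hL p hp)
  · exact Or.inr (hK q (by omega))

theorem isZero_tensor_below (a a' : ℤ) (hL : ∀ i, i < a → IsZero (L.X i))
    (hK : ∀ i, i < a' → IsZero (K.X i)) (n : ℤ) (hn : n < a + a') :
    IsZero ((L ⊗ K : Cx R).X n) := by
  apply isZero_tensor_of_forall
  intro p q hpq
  by_cases hp : p < a
  · exact Or.inl (hL p hp)
  · exact Or.inr (hK q (by omega))

theorem finite_tensor (b b' : ℤ) (hLb : ∀ i, b < i → IsZero (L.X i))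
    (hKb : ∀ i, b' < i → IsZero (K.X i)) (hL : ∀ i, Module.Finite R (L.X i))
    (hK : ∀ i, Module.Finite R (K.X i)) (n : ℤ) :
    Module.Finite R ((L ⊗ K : Cx R).X n) := by
  classical
  let S : Finset ℤ := Finset.Icc (n - b') b
  let φ : ((p : S) → TensorProduct R (L.X p.1) (K.X (n - p.1))) →ₗ[R] ((L ⊗ K : Cx R).X n) :=
    ∑ p : S, (inc L K p.1 (n - p.1) n (by omega)) ∘ₗ LinearMap.proj p
  have hφ : Function.Surjective φ := by
    intro x
    induction x using tm_induction L K with
    | zero => exact ⟨0, map_zero _⟩
    | add x y hx hy =>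
      obtain ⟨x', rfl⟩ := hx
      obtain ⟨y', rfl⟩ := hy
      exact ⟨x' + y', map_add _ _ _⟩
    | tm' p q hpq l k =>
      obtain rfl : q = n - p := by omega
      by_cases hp : p ∈ S
      · refine ⟨Pi.single (⟨p, hp⟩ : S) (l ⊗ₜ[R] k), ?_⟩
        simp only [φ, LinearMap.sum_apply, LinearMap.comp_apply, LinearMap.proj_apply]
        rw [Finset.sum_eq_single (⟨p, hp⟩ : S)]
        · rw [Pi.single_eq_same]
          rfl
        · intro p' _ hne
          rw [Pi.single_eq_of_ne hne, map_zero]
        · intro h
          exact absurd (Finset.mem_univ _) h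
      · refine ⟨0, ?_⟩
        rw [map_zero]
        have hp' : b < p ∨ b' < n - p := by
          simp only [S, Finset.mem_Icc, not_and_or, not_le] at hp
          omega
        rcases hp' with h | h
        · have := ModuleCat.subsingleton_of_isZero (hLb p h)
          rw [Subsingleton.elim l 0, tm_zero_left]
        · have := ModuleCat.subsingleton_of_isZero (hKb _ h)
          rw [Subsingleton.elim k 0, tm_zero_right]
  have : ∀ p : S, Module.Finite R (TensorProduct R (L.X p.1) (K.X (n - p.1))) := fun p => by
    have := hL p.1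
    have := hK (n - p.1)
    infer_instance
  exact Module.Finite.of_surjective φ hφ

end Groth.Agent.Lib.Helper25.TensorFin
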