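import Groth.Agent.Lib.Helper25.TorsionOrth
import Groth.Agent.Lib.Helper25.KFlatQis

/-!
# Flat base change `A → B` with `A/I ≅ B/IB`: modules killed by `I` do not see the difference
-/

set_option autoImplicit false
universe u

open CategoryTheory CategoryTheory.Limits CategoryTheory.Pretriangulated DerivedCategory
open DRing MonoidalCategory
open scoped TensorProduct

attribute [local instance] HasDerivedCategory.standard

namespace Groth.Agent.Lib.Helper25.TorsionBC

open Groth.Agent.Lib.Helper84 Groth.Agent.Lib.Helper84.TensCx Groth.Agent.Lib.Helper84.NilTorAmp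
open Groth.Agent.Lib.Helper25.DNak Groth.Agent.Lib.Helper25.KFlat

variable {A B : Type u} [CommRing A] [CommRing B] [Algebra A B] (I : Ideal A)

section ModuleLevel

variable (hs : Function.Surjective
    ((Ideal.Quotient.mk (I.map (algebraMap A B))).comp (algebraMap A B)))
  (hk : RingHom.ker ((Ideal.Quotient.mk (I.map (algebraMap A B))).comp (algebraMap A B)) = I)

/-- the ring isomorphism `A/I ≃ B/IB` -/
noncomputable def quotEquiv : (A ⧸ I) ≃+* (B ⧸ I.map (algebraMap A B)) :=
  (Ideal.quotEquivOfEq hk.symm).trans (RingHom.quotientKerEquivOfSurjective hs)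

theorem quotEquiv_mk (a : A) :
    quotEquiv I hs hk (Ideal.Quotient.mk I a) =
      Ideal.Quotient.mk (I.map (algebraMap A B)) (algebraMap A B a) := by
  unfold quotEquiv
  rw [RingEquiv.trans_apply, Ideal.quotEquivOfEq_mk]
  rfl

/-- the retraction `B → A/I` -/
noncomputable def retr : B →+* A ⧸ I :=
  (quotEquiv I hs hk).symm.toRingHom.comp (Ideal.Quotient.mk (I.map (algebraMap A B)))

theorem retr_algebraMap (a : A) : retr I hs hk (algebraMap A B a) = Ideal.Quotient.mk I a := by
  unfold retr
  rw [RingHom.comp_apply, ← quotEquiv_mk I hs hk a]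
  exact (quotEquiv I hs hk).symm_apply_apply _

variable {T : Type u} [AddCommGroup T] [Module A T] (hT : ∀ a ∈ I, ∀ x : T, a • x = 0)

include hT in
theorem tmul_eq_zero_of_mem (t : T) (c : B) (hc : c ∈ I.map (algebraMap A B)) :
    t ⊗ₜ[A] c = 0 := by
  have hc' : c ∈ (I • ⊤ : Submodule A B) := by
    rw [Ideal.smul_top_eq_map]
    exact hc
  refine Submodule.smul_induction_on hc' ?_ ?_
  · intro x hx b _
    rw [← TensorProduct.smul_tmul, hT x hx t, TensorProduct.zero_tmul]
  · intro x y hx hy
    rw [TensorProduct.tmul_add, hx, hy, add_zero]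

include hs hT in
theorem surjective_tmul_one :
    Function.Surjective (fun t : T => t ⊗ₜ[A] (1 : B)) := by
  intro z
  induction z using TensorProduct.induction_on with
  | zero => exact ⟨0, TensorProduct.zero_tmul _ _⟩
  | tmul t b =>
    obtain ⟨a, ha⟩ := hs (Ideal.Quotient.mk _ b)
    have hmem : b - algebraMap A B a ∈ I.map (algebraMap A B) := by
      rw [← Ideal.Quotient.eq]
      exact ha.symm
    refine ⟨a • t, ?_⟩
    have h1 := tmul_eq_zero_of_mem I hT t _ hmem
    rw [TensorProduct.tmul_sub, sub_eq_zero] at h1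
    change (a • t) ⊗ₜ[A] (1 : B) = t ⊗ₜ[A] b
    rw [h1, TensorProduct.smul_tmul, Algebra.smul_def, mul_one]
  | add x y hx hy =>
    obtain ⟨x', hx'⟩ := hx
    obtain ⟨y', hy'⟩ := hy
    refine ⟨x' + y', ?_⟩
    change (x' + y') ⊗ₜ[A] (1 : B) = _
    rw [TensorProduct.add_tmul]
    exact congrArg₂ (· + ·) hx' hy'

include hs hk hT in
theorem injective_tmul_one :
    Function.Injective (fun t : T => t ⊗ₜ[A] (1 : B)) := by
  have hTs : Module.IsTorsionBySet A T (I : Set A) := by
    intro x a
    exact hT a.1 a.2 x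
  let _ : Module (A ⧸ I) T := hTs.module
  have : IsScalarTower A (A ⧸ I) T := hTs.isScalarTower
  let β : T →ₗ[A] B →ₗ[A] T := LinearMap.mk₂ A (fun t b => retr I hs hk b • t)
    (fun t t' b => smul_add _ _ _)
    (fun a t b => smul_comm _ _ _)
    (fun t b b' => by rw [map_add, add_smul])
    (fun a t b => by
      rw [Algebra.smul_def, map_mul, retr_algebraMap, mul_smul]
      exact algebraMap_smul (A ⧸ I) a _)
  let ρ : T ⊗[A] B →ₗ[A] T := TensorProduct.lift β
  intro t t' h
  have h' := congrArg ρ h
  simp only [ρ, TensorProduct.lift.tmul, β, LinearMap.mk₂_apply, map_one, one_smul] at h'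
  exact h'

end ModuleLevel

section Cat

variable (hs : Function.Surjective
    ((Ideal.Quotient.mk (I.map (algebraMap A B))).comp (algebraMap A B)))
  (hk : RingHom.ker ((Ideal.Quotient.mk (I.map (algebraMap A B))).comp (algebraMap A B)) = I)

variable (A B) in
/-- `B` as an `A`-module -/
abbrev BA : ModuleCat.{u} A := ModuleCat.of A B

variable (A B) in
/-- the unit `A → B` as a map of `A`-modules -/
noncomputable abbrev uAB : 𝟙_ (ModuleCat.{u} A) ⟶ BA A B :=
  ModuleCat.ofHom (Algebra.linearMap A B)

include hs hk in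
theorem isIso_whiskerLeft_uAB (T : ModuleCat.{u} A) (hT : ∀ a ∈ I, ∀ x : T, a • x = 0) :
    IsIso (T ◁ uAB A B) := by
  rw [ConcreteCategory.isIso_iff_bijective]
  have hbij : Function.Bijective (fun t : T => t ⊗ₜ[A] (1 : B)) :=
    ⟨injective_tmul_one I hs hk hT, surjective_tmul_one I hs hT⟩
  have hrid : Function.Bijective (TensorProduct.rid A T) := (TensorProduct.rid A T).bijective
  have hcomp : (fun t : T => t ⊗ₜ[A] (1 : B)) ∘ (TensorProduct.rid A T) =
      (T ◁ uAB A B : _ ⟶ _).hom := by
    funext z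
    induction z using TensorProduct.induction_on with
    | zero => simp
    | tmul t a =>
      change (a • t) ⊗ₜ[A] (1 : B) = t ⊗ₜ[A] (algebraMap A B a)
      rw [TensorProduct.smul_tmul, Algebra.smul_def, mul_one]
    | add x y hx hy =>
      simp only [Function.comp_apply, map_add] at hx hy ⊢
      rw [TensorProduct.add_tmul, hx, hy]
  have := hbij.comp hrid
  rw [hcomp] at this
  exact this

include hs hk in
/-- for `T` killed by `I`, `T ⊗ (A ⊗ P) → T ⊗ (B ⊗ P)` is an isomorphism of complexes -/
theorem isIso_tens_map_tensMap (T : ModuleCat.{u} A) (hT : ∀ a ∈ I, ∀ x : T, a • x = 0)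
    (P : Cx A) : IsIso ((tens T).map (tensMap (uAB A B) P)) := by
  have := isIso_whiskerLeft_uAB I hs hk T hT
  have : ∀ i, IsIso (((tens T).map (tensMap (uAB A B) P)).f i) := by
    intro i
    have h1 : ((tens T).map (tensMap (uAB A B) P)).f i = T ◁ (uAB A B ▷ P.X i) := rfl
    have h2 : T ◁ (uAB A B ▷ P.X i) =
        (α_ T _ (P.X i)).inv ≫ ((T ◁ uAB A B) ▷ P.X i) ≫ (α_ T _ (P.X i)).hom := by
      rw [whisker_assoc, Category.assoc, Category.assoc, Iso.inv_hom_id, Category.comp_id,
        Iso.inv_hom_id_assoc]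
    rw [h1, h2]
    have e1 : IsIso ((T ◁ uAB A B) ▷ P.X i) := inferInstance
    have e2 : IsIso ((T ◁ uAB A B) ▷ P.X i ≫ (α_ T (BA A B) (P.X i)).hom) :=
      IsIso.comp_isIso' e1 inferInstance
    exact IsIso.comp_isIso' inferInstance e2
  exact HomologicalComplex.Hom.isIso_of_components _

include hs hk in
/-- the cone of `A ⊗ P → B ⊗ P` is killed by `T ⊗ -`, `T` an `A/I`-module -/
theorem torVanS_cone (s : Finset A) (hsI : Ideal.span (s : Set A) = I) (P : Cx A) (b : ℤ) :
    TorVanS (CochainComplex.mappingCone (tensMap (uAB A B) P)) s b := by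
  intro T hT i _
  have hT' : ∀ a ∈ I, ∀ x : T, a • x = 0 := by
    intro a ha x
    rw [← hsI] at ha
    induction ha using Submodule.span_induction with
    | mem y hy => exact hT y hy x
    | zero => exact zero_smul _ _
    | add y z _ _ hy hz => rw [add_smul, hy, hz, add_zero]
    | smul r y _ hy => rw [smul_eq_mul, mul_smul, hy, smul_zero]
  rw [_root_.exactAt_iff_of_quasiIsoAt
    (CochainComplex.mappingCone.mapHomologicalComplexIso (tensMap (uAB A B) P) (tensorLeft T)).hom i]
  have := isIso_tens_map_tensMap I hs hk T hT' P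
  have hq : QuasiIso ((tens T).map (tensMap (uAB A B) P)) := quasiIso_of_isIso _
  have hac := (quasiIso_iff_acyclic_mappingCone _).1 hq
  rw [HomologicalComplex.exactAt_iff_isZero_homology]
  exact hac i

end Cat

end Groth.Agent.Lib.Helper25.TorsionBC
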