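import Groth.Agent.Lib.Helper25.TorsionBC
import Groth.Agent.Lib.Helper15.KProjRes
import Groth.Agent.Lib.Helper15.LBCAdj
import Groth.Agent.Lib.Helper15.PseudoCohBC

/-!
# `Ext_A(M, N) ≅ Ext_B(M ⊗ B, N ⊗ B)` for `I`-power torsion `M` (S1731)
-/

set_option autoImplicit false
universe u

open CategoryTheory CategoryTheory.Limits CategoryTheory.Pretriangulated DerivedCategory
open DRing MonoidalCategory
open scoped TensorProduct

attribute [local instance] HasDerivedCategory.standard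

namespace Groth.Agent.Lib.Helper25.TorsionExt

open Groth.Agent.Lib.Helper84 Groth.Agent.Lib.Helper84.TensCx Groth.Agent.Lib.Helper84.NilTorAmp
open Groth.Agent.Lib.Helper25.DNak Groth.Agent.Lib.Helper25.KFlat
open Groth.Agent.Lib.Helper25.DCompTri Groth.Agent.Lib.Helper25.TorsionOrth
open Groth.Agent.Lib.Helper25.TorsionBC Groth.Agent.Lib.Helper25.SingleTensor

section Tri

variable {C : Type*} [Category C] [Preadditive C] [HasZeroObject C] [HasShift C ℤ]
  [∀ n : ℤ, (shiftFunctor C n).Additive] [Pretriangulated C]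

/-- postcomposition with an isomorphism -/
def postcompAddEquiv (L : C) {Y Y' : C} (e : Y ≅ Y') : (L ⟶ Y) ≃+ (L ⟶ Y') where
  toFun φ := φ ≫ e.hom
  invFun ψ := ψ ≫ e.inv
  left_inv φ := by simp
  right_inv ψ := by simp
  map_add' φ ψ := Preadditive.add_comp _ _ _ _ _ _

/-- precomposition with an isomorphism -/
def precompAddEquiv {L L' : C} (e : L ≅ L') (Y : C) : (L ⟶ Y) ≃+ (L' ⟶ Y) where
  toFun φ := e.inv ≫ φ
  invFun ψ := e.hom ≫ ψ
  left_inv φ := by simp
  right_inv ψ := by simp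
  map_add' φ ψ := Preadditive.comp_add _ _ _ _ _ _

/-- if `L` is orthogonal to the cone of `mor₁`, composition with `mor₁` is bijective on maps
from `L` -/
theorem bijective_postcomp_of_orth (T : Triangle C) (hT : T ∈ distTriang C) (L : C)
    (h₃ : Orth L T.obj₃) (n : ℤ) :
    Function.Bijective (fun φ : L ⟶ T.obj₁⟦n⟧ => φ ≫ T.mor₁⟦n⟧') := by
  constructor
  · intro a b hab
    have hab' : a ≫ T.mor₁⟦n⟧' = b ≫ T.mor₁⟦n⟧' := hab
    have hφ : (a - b) ≫ T.mor₁⟦n⟧' = 0 := by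
      rw [Preadditive.sub_comp, hab', sub_self]
    have hT' := Triangle.shift_distinguished _ hT (n - 1)
    let e : T.obj₁⟦n⟧ ≅ (T.obj₁⟦n - 1⟧)⟦(1 : ℤ)⟧ :=
      (shiftFunctorAdd' C (n - 1) 1 n (by omega)).app T.obj₁
    let e' : T.obj₂⟦n⟧ ≅ (T.obj₂⟦n - 1⟧)⟦(1 : ℤ)⟧ :=
      (shiftFunctorAdd' C (n - 1) 1 n (by omega)).app T.obj₂
    have hnat : T.mor₁⟦n⟧' ≫ e'.hom = e.hom ≫ (T.mor₁⟦n - 1⟧')⟦(1 : ℤ)⟧' :=
      (shiftFunctorAdd' C (n - 1) 1 n (by omega)).hom.naturality T.mor₁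
    have h0 : ((a - b) ≫ e.hom) ≫
        ((Triangle.shiftFunctor C (n - 1)).obj T).mor₁⟦(1 : ℤ)⟧' = 0 := by
      change ((a - b) ≫ e.hom) ≫ ((n - 1).negOnePow • T.mor₁⟦n - 1⟧')⟦(1 : ℤ)⟧' = 0
      have h3 : ((a - b) ≫ e.hom) ≫ (T.mor₁⟦n - 1⟧')⟦(1 : ℤ)⟧' = 0 := by
        rw [Category.assoc, ← hnat, ← Category.assoc, hφ, zero_comp]
      rcases Int.units_eq_one_or ((n - 1).negOnePow) with hu | hu
      · rw [hu, one_smul]
        exact h3
      · rw [hu, Units.neg_smul, one_smul, CategoryTheory.Functor.map_neg, Preadditive.comp_neg,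
          h3, neg_zero]
    obtain ⟨ψ, hψ⟩ := Triangle.coyoneda_exact₁ _ hT' ((a - b) ≫ e.hom) h0
    have hψ0 : ψ = 0 := (h₃ (n - 1)).elim _ _
    rw [hψ0, zero_comp] at hψ
    have : a - b = 0 := (cancel_mono e.hom).1 (hψ.trans zero_comp.symm)
    exact sub_eq_zero.1 this
  · intro ψ
    have hT' := Triangle.shift_distinguished _ hT n
    have h0 : ψ ≫ ((Triangle.shiftFunctor C n).obj T).mor₂ = 0 := (h₃ n).elim _ _
    obtain ⟨g, hg⟩ := Triangle.coyoneda_exact₂ _ hT' ψ h0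
    have hg' : ψ = g ≫ (n.negOnePow • T.mor₁⟦n⟧') := hg
    rcases Int.units_eq_one_or (n.negOnePow) with hu | hu
    · refine ⟨g, ?_⟩
      show g ≫ T.mor₁⟦n⟧' = ψ
      rw [hg', hu, one_smul]
    · refine ⟨-g, ?_⟩
      show (-g) ≫ T.mor₁⟦n⟧' = ψ
      rw [hg', hu, Units.neg_smul, one_smul]
      exact (Preadditive.neg_comp _ _).trans (Preadditive.comp_neg _ _).symm

end Tri

variable {A B : Type u} [CommRing A] [CommRing B] [Algebra A B] [Module.Flat A B] (I : Ideal A)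

section Res

variable (A B) in
/-- the identity, as a linear equivalence between the two `A`-module structures on `B ⊗ N` -/
noncomputable def resTensorEquiv (N : Type u) [AddCommGroup N] [Module A N] :
    @LinearEquiv A A _ _ (RingHom.id A) (RingHom.id A) _ _ (B ⊗[A] N) (B ⊗[A] N) _ _
      (Module.compHom (B ⊗[A] N) (algebraMap A B)) _ :=
  @LinearEquiv.mk A A _ _ (RingHom.id A) (RingHom.id A) _ _ (B ⊗[A] N) (B ⊗[A] N) _ _
    (Module.compHom (B ⊗[A] N) (algebraMap A B)) _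
    (@LinearMap.mk A A _ _ (RingHom.id A) (B ⊗[A] N) (B ⊗[A] N) _ _
      (Module.compHom (B ⊗[A] N) (algebraMap A B)) _
      (AddHom.mk id (fun _ _ => rfl)) (fun a z => algebraMap_smul B a z))
    id (fun _ => rfl) (fun _ => rfl)

variable (A B) in
/-- `res (B ⊗ N) ≅ B ⊗ N` as `A`-modules -/
noncomputable def resTensorIso (N : Type u) [AddCommGroup N] [Module A N] :
    (ModuleCat.restrictScalars.{u} (algebraMap A B)).obj (ModuleCat.of B (B ⊗[A] N)) ≅
      (BA A B ⊗ ModuleCat.of A N : ModuleCat.{u} A) :=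
  @LinearEquiv.toModuleIso A _ (B ⊗[A] N) (B ⊗[A] N) _ _
    (Module.compHom (B ⊗[A] N) (algebraMap A B)) _ (resTensorEquiv A B N)

end Res

variable (hs : Function.Surjective
    ((Ideal.Quotient.mk (I.map (algebraMap A B))).comp (algebraMap A B)))
  (hk : RingHom.ker ((Ideal.Quotient.mk (I.map (algebraMap A B))).comp (algebraMap A B)) = I)

include hs hk in
/-- the comparison on the `A`-side -/
theorem nonempty_addEquiv_A (hI : I.FG) (M N : Type u) [AddCommGroup M] [Module A M]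
    [AddCommGroup N] [Module A N] (hM : LocCoh.IsPowerTorsion I M) (i : ℤ) :
    Nonempty ((Dual.inD A M ⟶ (Dual.inD A N)⟦i⟧) ≃+
      (Dual.inD A M ⟶ ((singleFunctor (ModuleCat.{u} A) 0).obj
        (BA A B ⊗ ModuleCat.of A N : ModuleCat.{u} A))⟦i⟧)) := by
  classical
  obtain ⟨s, hsI⟩ := hI
  obtain ⟨P, π, _, hπ, _, hPf, -⟩ :=
    Groth.Agent.Lib.Helper15.KProjRes.exists_kprojective_resolution (sgl (ModuleCat.of A N))
  let g := tensMap (uAB A B) P
  -- termwise flatness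
  have hfl1 : TermwiseFlat ((tens (𝟙_ (ModuleCat.{u} A))).obj P) := by
    intro j
    haveI := hPf j
    exact flat_of_iso (λ_ (P.X j)).symm
  have hfl2 : TermwiseFlat ((tens (BA A B)).obj P) := by
    intro j
    haveI := hPf j
    change Module.Flat A (B ⊗[A] (P.X j))
    infer_instance
  have hflX : TermwiseFlat (CochainComplex.mappingCone g) := termwiseFlat_mappingCone g hfl1 hfl2
  have hTor : ∀ b : ℤ, TorVanS (CochainComplex.mappingCone g) s b :=
    fun b => torVanS_cone I hs hk s hsI P b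
  have htors : ∀ x : (ModuleCat.of A M), ∀ f ∈ s, ∃ n : ℕ, f ^ n • x = 0 := by
    intro x f hf
    obtain ⟨n, hn⟩ := hM x
    refine ⟨n, hn _ (Ideal.pow_mem_pow ?_ n)⟩
    rw [← hsI]
    exact Ideal.subset_span hf
  have horth := orth_of_torVanS s _ hflX hTor (ModuleCat.of A M) htors
  have hbij := bijective_postcomp_of_orth _ (mappingCone_triangle_distinguished g) _ horth i
  -- the identifications
  have hiso1 : IsIso (Q.map π) := by rw [isIso_Q_map_iff_quasiIso]; exact hπ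
  let a : Q.obj ((tens (𝟙_ (ModuleCat.{u} A))).obj P) ≅ Dual.inD A N :=
    Q.mapIso (tensUnitIso P) ≪≫ (@asIso _ _ _ _ (Q.map π) hiso1)
  have hq : QuasiIso ((tens (BA A B)).map π) := by
    haveI := hπ
    infer_instance
  have hiso2 : IsIso (Q.map ((tens (BA A B)).map π)) := by
    rw [isIso_Q_map_iff_quasiIso]; exact hq
  let b : Q.obj ((tens (BA A B)).obj P) ≅ (singleFunctor (ModuleCat.{u} A) 0).obj
      (BA A B ⊗ ModuleCat.of A N : ModuleCat.{u} A) :=
    (@asIso _ _ _ _ (Q.map ((tens (BA A B)).map π)) hiso2) ≪≫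
    Q.mapIso ((HomologicalComplex.singleMapHomologicalComplex (tensorLeft (BA A B))
      (ComplexShape.up ℤ) 0).app (ModuleCat.of A N))
  let E2 : (Dual.inD A M ⟶ (Q.obj ((tens (𝟙_ (ModuleCat.{u} A))).obj P))⟦i⟧) ≃+
      (Dual.inD A M ⟶ (Q.obj ((tens (BA A B)).obj P))⟦i⟧) :=
    AddEquiv.ofBijective (Preadditive.rightComp (Dual.inD A M) ((Q.map g)⟦i⟧')) hbij
  exact ⟨(postcompAddEquiv _ ((shiftFunctor _ i).mapIso a)).symm.trans
    (E2.trans (postcompAddEquiv _ ((shiftFunctor _ i).mapIso b)))⟩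

/-- the adjunction step -/
theorem nonempty_addEquiv_B (M N : Type u) [AddCommGroup M] [Module A M]
    [AddCommGroup N] [Module A N] (i : ℤ) :
    Nonempty ((Dual.inD A M ⟶ ((singleFunctor (ModuleCat.{u} A) 0).obj
        (BA A B ⊗ ModuleCat.of A N : ModuleCat.{u} A))⟦i⟧) ≃+
      (Dual.inD B (B ⊗[A] M) ⟶ (Dual.inD B (B ⊗[A] N))⟦i⟧)) := by
  let φ := algebraMap A B
  let adj := Groth.Agent.Lib.Helper15.LBCAdj.adj φ
  haveI : (DRing.LBaseChange φ).Additive := adj.left_adjoint_additive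
  -- `restrictD (inD B (B ⊗ N)[i]) ≅ inD A (B ⊗ N)[i]`
  let c : (DRing.restrictD φ).obj ((Dual.inD B (B ⊗[A] N))⟦i⟧) ≅
      ((singleFunctor (ModuleCat.{u} A) 0).obj
        (BA A B ⊗ ModuleCat.of A N : ModuleCat.{u} A))⟦i⟧ :=
    ((DRing.restrictD φ).commShiftIso i).app _ ≪≫
      (shiftFunctor _ i).mapIso
        (((ModuleCat.restrictScalars.{u} φ).mapDerivedCategorySingleFunctor 0).app
          (ModuleCat.of B (B ⊗[A] N)) ≪≫
        (singleFunctor (ModuleCat.{u} A) 0).mapIso (resTensorIso A B N))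
  let d : (DRing.LBaseChange φ).obj (Dual.inD A M) ≅ Dual.inD B (B ⊗[A] M) :=
    Groth.Agent.Lib.Helper15.PseudoCohBC.lbcModuleIso A B M
  exact ⟨(postcompAddEquiv _ c).symm.trans
    ((adj.homAddEquiv (Dual.inD A M) ((Dual.inD B (B ⊗[A] N))⟦i⟧)).symm.trans
      (precompAddEquiv d _))⟩

include hs hk in
/-- S1731 -/
theorem aux1731 (hI : I.FG) (M N : Type u) [AddCommGroup M] [Module A M]
    [AddCommGroup N] [Module A N] (hM : LocCoh.IsPowerTorsion I M) (i : ℤ) :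
    Nonempty ((Dual.inD A M ⟶ (Dual.inD A N)⟦i⟧) ≃+
      (Dual.inD B (B ⊗[A] M) ⟶ (Dual.inD B (B ⊗[A] N))⟦i⟧)) := by
  obtain ⟨e1⟩ := nonempty_addEquiv_A I hs hk hI M N hM i
  obtain ⟨e2⟩ := nonempty_addEquiv_B (A := A) (B := B) M N i
  exact ⟨e1.trans e2⟩

end Groth.Agent.Lib.Helper25.TorsionExt
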