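import Groth.Agent.Lib.Helper25.TelescopeD
import Groth.Agent.Lib.Helper25.DNak

/-!
# Maps from torsion modules into complexes killed by `- ⊗ N`, `N` an `A/(s)`-module
-/

set_option autoImplicit false
universe u

open CategoryTheory CategoryTheory.Limits CategoryTheory.Pretriangulated DerivedCategory
open DRing MonoidalCategory

attribute [local instance] HasDerivedCategory.standard

namespace Groth.Agent.Lib.Helper25.TorsionOrth

open Groth.Agent.Lib.Helper84 Groth.Agent.Lib.Helper84.TensCx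
open Groth.Agent.Lib.Helper25.DCompTri Groth.Agent.Lib.Helper25.TelescopeD
open Groth.Agent.Lib.Helper25.DNak

section Lin

variable {A : Type u} [CommRing A]
variable {C : Type*} [Category C] [Preadditive C] [HasZeroObject C] [HasShift C ℤ]
  [∀ n : ℤ, (shiftFunctor C n).Additive] [Pretriangulated C] [Linear A C]
  [∀ n : ℤ, (shiftFunctor C n).Linear A]

/-- if `Y'` is a cone of `f` on `Y` and `L` is orthogonal to `Y'`, then `f` acts injectively on
`Hom(L, Y[n])`. -/
theorem eq_zero_of_smul_eq_zero (f : A) {Y Y' : C} (u : Y ⟶ Y) (hu : u = f • 𝟙 Y) (g : Y ⟶ Y')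
    (h : Y' ⟶ Y⟦(1 : ℤ)⟧) (hT : Triangle.mk u g h ∈ distTriang C) (L : C) (hL : Orth L Y') (n : ℤ)
    (φ : L ⟶ Y⟦n⟧) (hφ : f • φ = 0) : φ = 0 := by
  subst hu
  have hT' := Triangle.shift_distinguished _ hT (n - 1)
  let e : Y⟦n⟧ ≅ (Y⟦n - 1⟧)⟦(1 : ℤ)⟧ := (shiftFunctorAdd' C (n - 1) 1 n (by omega)).app Y
  have h0 : (φ ≫ e.hom) ≫
      ((Triangle.shiftFunctor C (n - 1)).obj (Triangle.mk (f • 𝟙 Y) g h)).mor₁⟦(1 : ℤ)⟧' = 0 := by
    change (φ ≫ e.hom) ≫ ((n - 1).negOnePow • (f • 𝟙 Y)⟦n - 1⟧')⟦(1 : ℤ)⟧' = 0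
    have h3 : (φ ≫ e.hom) ≫ ((f • 𝟙 Y)⟦n - 1⟧')⟦(1 : ℤ)⟧' = 0 := by
      rw [CategoryTheory.Functor.map_smul, CategoryTheory.Functor.map_id,
        CategoryTheory.Functor.map_smul, CategoryTheory.Functor.map_id, Linear.comp_smul,
        Category.comp_id, ← Linear.smul_comp, hφ, zero_comp]
    rcases Int.units_eq_one_or ((n - 1).negOnePow) with hu | hu
    · rw [hu, one_smul]
      exact h3
    · rw [hu, Units.neg_smul, one_smul, CategoryTheory.Functor.map_neg, Preadditive.comp_neg, h3,
        neg_zero]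
  obtain ⟨ψ, hψ⟩ := Triangle.coyoneda_exact₁ _ hT' (φ ≫ e.hom) h0
  have hψ0 : ψ = 0 := (hL (n - 1)).elim _ _
  rw [hψ0, zero_comp] at hψ
  exact (cancel_mono e.hom).1 (hψ.trans zero_comp.symm)

/-- if moreover a power of `f` kills `L`, then `L` is orthogonal to `Y`. -/
theorem orth_of_pow_smul_eq_zero (f : A) {Y Y' : C} (u : Y ⟶ Y) (hu : u = f • 𝟙 Y) (g : Y ⟶ Y')
    (h : Y' ⟶ Y⟦(1 : ℤ)⟧) (hT : Triangle.mk u g h ∈ distTriang C) (L : C) (hL : Orth L Y')
    (k : ℕ) (hk : f ^ k • 𝟙 L = 0) : Orth L Y := by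
  intro n
  have key : ∀ φ : L ⟶ Y⟦n⟧, φ = 0 := by
    intro φ
    have h1 : ∀ j : ℕ, j ≤ k → f ^ (k - j) • φ = 0 := by
      intro j
      induction j with
      | zero =>
        intro _
        have : f ^ k • φ = (f ^ k • 𝟙 L) ≫ φ := by rw [Linear.smul_comp, Category.id_comp]
        rw [Nat.sub_zero, this, hk, zero_comp]
      | succ j ih =>
        intro hj
        have h2 := ih (by omega)
        have h3 : f ^ (k - j) • φ = f • (f ^ (k - (j + 1)) • φ) := by
          rw [smul_smul, ← pow_succ']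
          congr 2
          omega
        rw [h3] at h2
        exact eq_zero_of_smul_eq_zero f u hu g h hT L hL n _ h2
    have := h1 k le_rfl
    simpa using this
  constructor
  intro a b
  rw [key a, key b]

end Lin

variable {A : Type u} [CommRing A]

/-- the `f^n`-torsion submodule -/
def tors (M : ModuleCat.{u} A) (f : A) (n : ℕ) : Submodule A M :=
  LinearMap.ker (LinearMap.lsmul A M (f ^ n))

theorem mem_tors (M : ModuleCat.{u} A) (f : A) (n : ℕ) (x : M) :
    x ∈ tors M f n ↔ f ^ n • x = 0 := by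
  unfold tors
  rw [LinearMap.mem_ker]
  rfl

theorem tors_mono (M : ModuleCat.{u} A) (f : A) : Monotone (tors M f) := by
  intro n m hnm x hx
  rw [mem_tors] at hx ⊢
  obtain ⟨d, rfl⟩ := Nat.exists_eq_add_of_le hnm
  rw [pow_add, mul_comm, mul_smul, hx, smul_zero]

/-- The main induction: if `N ⊗ P` is acyclic for every module `N` killed by `s`, then there are
no maps (in any degree) from an `s`-power torsion module to `P`. -/
theorem orth_of_torVanS [DecidableEq A] (s : Finset A) : ∀ (P : Cx A), TermwiseFlat P →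
    (∀ b : ℤ, TorVanS P s b) → ∀ M : ModuleCat.{u} A,
      (∀ x : M, ∀ f ∈ s, ∃ n : ℕ, f ^ n • x = 0) →
      Orth ((singleFunctor (ModuleCat.{u} A) 0).obj M) (Q.obj P) := by
  induction s using Finset.induction_on with
  | empty =>
    intro P _ hT M _
    have hex : ∀ i, P.ExactAt i := by
      intro i
      have := hT (i - 1) (𝟙_ (ModuleCat.{u} A)) (by simp) i (by omega)
      exact (_root_.exactAt_iff_of_quasiIsoAt (tensUnitIso P).hom i).1 this
    have hz : IsZero (Q.obj P) := isZero_Q_obj_of_acyclic P hex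
    intro n
    have hz' : IsZero ((Q.obj P)⟦n⟧) := (shiftFunctor _ n).map_isZero hz
    exact ⟨fun a b => hz'.eq_of_tgt a b⟩
  | insert f s' hfs ih =>
    intro P hP hT M hM
    have hP' : TermwiseFlat (CochainComplex.mappingCone (f • 𝟙 P)) :=
      termwiseFlat_mappingCone _ hP hP
    have hT' : ∀ b : ℤ, TorVanS (CochainComplex.mappingCone (f • 𝟙 P)) s' b :=
      fun b N hN i hi => exactAt_tens_cone hP f s' b (hT b) N hN i hi
    have IH := ih _ hP' hT'
    have hdist := mappingCone_triangle_distinguished (f • 𝟙 P)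
    apply orth_of_union M (tors M f) (tors_mono M f)
    · intro x
      obtain ⟨n, hn⟩ := hM x f (Finset.mem_insert_self f s')
      exact ⟨n, (mem_tors M f n x).2 hn⟩
    · intro n
      have h1 : Orth ((singleFunctor (ModuleCat.{u} A) 0).obj (ModuleCat.of A (tors M f n)))
          (Q.obj (CochainComplex.mappingCone (f • 𝟙 P))) := by
        apply IH
        intro x g hg
        obtain ⟨m, hm⟩ := hM x.1 g (Finset.mem_insert_of_mem hg)
        refine ⟨m, Subtype.ext ?_⟩
        exact hm
      refine orth_of_pow_smul_eq_zero (C := DerivedCategory (ModuleCat.{u} A)) f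
        (Q.map (f • 𝟙 P)) (by rw [CategoryTheory.Functor.map_smul, CategoryTheory.Functor.map_id]) _ _ hdist _ h1 n ?_
      have h2 : f ^ n • 𝟙 (ModuleCat.of A (tors M f n)) = 0 := by
        apply ModuleCat.hom_ext
        apply LinearMap.ext
        intro x
        exact Subtype.ext ((mem_tors M f n x.1).1 x.2)
      have h3 : f ^ n • 𝟙 ((singleFunctor (ModuleCat.{u} A) 0).obj (ModuleCat.of A (tors M f n))) =
          (singleFunctor (ModuleCat.{u} A) 0).map (f ^ n • 𝟙 (ModuleCat.of A (tors M f n))) := by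
        rw [CategoryTheory.Functor.map_smul, CategoryTheory.Functor.map_id]
      rw [h3, h2, CategoryTheory.Functor.map_zero]

end Groth.Agent.Lib.Helper25.TorsionOrth
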