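import Groth.Prelude.Def_NonAbH1

set_option autoImplicit false
universe w' w v u

namespace Groth.Agent.Lib.Helper25.TorsorCech

open CategoryTheory Opposite

variable {C : Type u} [Category.{v} C] {J : GrothendieckTopology C} {G : Sheaf J GrpCat.{w}}

theorem smul_cancel {P : NonAbH1.GSheaf G} (hP : P.IsPseudoTorsor) {U : Cᵒᵖ}
    {g g' : G.obj.obj U} {p : P.P.obj.obj U} (h : P.smul g p = P.smul g' p) : g = g' :=
  (hP U p (P.smul g' p)).unique h rfl

theorem map_comp_op (P : NonAbH1.GSheaf G) {T T' X : C} (φ : T ⟶ T') (a : T' ⟶ X)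
    (s : P.P.obj.obj (op X)) :
    P.P.obj.map (φ ≫ a).op s = P.P.obj.map φ.op (P.P.obj.map a.op s) := by
  rw [op_comp, FunctorToTypes.map_comp_apply]

/-- The cocycle cut out by a family of sections of a pseudo-torsor. -/
noncomputable def cocycleOf (P : NonAbH1.GSheaf G) (hP : P.IsPseudoTorsor) {I : Type w'}
    (U : I → C) (s : ∀ i, P.P.obj.obj (op (U i))) : PresheafOfGroups.OneCocycle G.obj U where
  ev i j T a b := (hP (op T) (P.P.obj.map b.op (s j)) (P.P.obj.map a.op (s i))).choose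
  ev_precomp i j T T' φ a b := by
    have h1 := (hP (op T') (P.P.obj.map b.op (s j)) (P.P.obj.map a.op (s i))).choose_spec.1
    have h2 := (hP (op T) (P.P.obj.map (φ ≫ b).op (s j))
      (P.P.obj.map (φ ≫ a).op (s i))).choose_spec.1
    apply smul_cancel hP (p := P.P.obj.map (φ ≫ b).op (s j))
    rw [h2, map_comp_op, map_comp_op, ← P.map_smul, h1]
  ev_trans i j k T a b c := by
    have h1 := (hP (op T) (P.P.obj.map b.op (s j)) (P.P.obj.map a.op (s i))).choose_spec.1
    have h2 := (hP (op T) (P.P.obj.map c.op (s k)) (P.P.obj.map b.op (s j))).choose_spec.1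
    have h3 := (hP (op T) (P.P.obj.map c.op (s k)) (P.P.obj.map a.op (s i))).choose_spec.1
    apply smul_cancel hP (p := P.P.obj.map c.op (s k))
    rw [P.mul_smul, h2, h1, h3]

theorem isCocycleOf_cocycleOf (P : NonAbH1.GSheaf G) (hP : P.IsPseudoTorsor) {I : Type w'}
    (U : I → C) (s : ∀ i, P.P.obj.obj (op (U i))) :
    P.IsCocycleOf U s (cocycleOf P hP U s) := fun i j T a b =>
  (hP (op T) (P.P.obj.map b.op (s j)) (P.P.obj.map a.op (s i))).choose_spec.1

theorem class_eq_of_isCocycleOf (P : NonAbH1.GSheaf G) (hP : P.IsPseudoTorsor) {I : Type w'}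
    (U : I → C) (s s' : ∀ i, P.P.obj.obj (op (U i)))
    (γ γ' : PresheafOfGroups.OneCocycle G.obj U) (h : P.IsCocycleOf U s γ)
    (h' : P.IsCocycleOf U s' γ') : γ.class = γ'.class := by
  apply PresheafOfGroups.OneCocycle.IsCohomologous.class_eq
  refine ⟨fun i => (hP (op (U i)) (s i) (s' i)).choose, fun i j T a b => ?_⟩
  have hα : ∀ i, P.smul (hP (op (U i)) (s i) (s' i)).choose (s i) = s' i :=
    fun i => (hP (op (U i)) (s i) (s' i)).choose_spec.1
  apply smul_cancel hP (p := P.P.obj.map b.op (s j))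
  rw [P.mul_smul, P.mul_smul, h i j a b, ← P.map_smul, hα i, ← P.map_smul, hα j, h' i j a b]

theorem existsUnique_hasCechClass (P : NonAbH1.GSheaf G) (hP : P.IsPseudoTorsor) {I : Type w'}
    (U : I → C) (hU : P.TrivialisedBy U) :
    ∃! c : PresheafOfGroups.H1 G.obj U, P.HasCechClass U c := by
  refine ⟨(cocycleOf P hP U (fun i => (hU i).some)).class,
    ⟨_, _, isCocycleOf_cocycleOf P hP U _, rfl⟩, ?_⟩
  rintro c ⟨s', γ', hγ', rfl⟩
  exact class_eq_of_isCocycleOf P hP U _ _ _ _ hγ' (isCocycleOf_cocycleOf P hP U _)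

end Groth.Agent.Lib.Helper25.TorsorCech
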