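import Groth.Prelude.Def_NonAbH1
import Groth.Agent.Lib.Helper25.TorsorCech
import Mathlib.CategoryTheory.Sites.CoversTop.Basic

set_option autoImplicit false
universe w' w v u

namespace Groth.Agent.Lib.Helper25.TorsorIso

open CategoryTheory Opposite Groth.Agent.Lib.Helper25.TorsorCech

variable {C : Type u} [Category.{v} C] {J : GrothendieckTopology C} {G : Sheaf J GrpCat.{w}}

/-- Changing the trivialising sections by a zero-cochain changes the cocycle to a cohomologous one. -/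
theorem isCocycleOf_smul (P : NonAbH1.GSheaf G) {I : Type w'} (U : I → C)
    (s : ∀ i, P.P.obj.obj (op (U i))) (γ γ' : PresheafOfGroups.OneCocycle G.obj U)
    (α : PresheafOfGroups.ZeroCochain G.obj U)
    (hα : PresheafOfGroups.OneCohomologyRelation γ.toOneCochain γ'.toOneCochain α)
    (h : P.IsCocycleOf U s γ) : P.IsCocycleOf U (fun i => P.smul (α i) (s i)) γ' := by
  intro i j T a b
  have h1 := hα i j a b
  have h2 := h i j a b
  change P.smul (γ'.ev i j a b) (P.P.obj.map b.op (P.smul (α j) (s j))) =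
    P.P.obj.map a.op (P.smul (α i) (s i))
  rw [P.map_smul, P.map_smul, ← P.mul_smul]
  erw [← h1]
  rw [P.mul_smul, h2]

section

variable {P Q : NonAbH1.GSheaf G} {I : Type w'} {U : I → C}
  (s : ∀ i, P.P.obj.obj (op (U i))) (t : ∀ i, Q.P.obj.obj (op (U i)))

/-- The relation "q corresponds to p" determined by the local sections `s` and `t`. -/
def Rel {X : C} (p : P.P.obj.obj (op X)) (q : Q.P.obj.obj (op X)) : Prop :=
  ∀ ⦃T : C⦄ (h : T ⟶ X) (i : I) (a : T ⟶ U i) (g : G.obj.obj (op T)),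
    P.smul g (P.P.obj.map a.op (s i)) = P.P.obj.map h.op p →
      Q.smul g (Q.P.obj.map a.op (t i)) = Q.P.obj.map h.op q

variable {s t}

theorem Rel.symm (hP : P.IsPseudoTorsor) (hQ : Q.IsPseudoTorsor) {X : C}
    {p : P.P.obj.obj (op X)} {q : Q.P.obj.obj (op X)} (h : Rel s t p q) : Rel t s q p := by
  intro T k i a g hg
  obtain ⟨g', hg', -⟩ := hP (op T) (P.P.obj.map a.op (s i)) (P.P.obj.map k.op p)
  have h2 := h k i a g' hg'
  rw [← hg] at h2
  have := smul_cancel hQ h2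
  subst this
  exact hg'

theorem Rel.unique (hU : J.CoversTop U) (hP : P.IsPseudoTorsor) {X : C}
    {p : P.P.obj.obj (op X)} {q q' : Q.P.obj.obj (op X)} (h : Rel s t p q) (h' : Rel s t p q') :
    q = q' := by
  apply (((isSheaf_iff_isSheaf_of_type _ _).1 Q.P.property).isSeparated _ (hU X)).ext
  rintro T k ⟨i, ⟨a⟩⟩
  obtain ⟨g, hg, -⟩ := hP (op T) (P.P.obj.map a.op (s i)) (P.P.obj.map k.op p)
  rw [← h k i a g hg, ← h' k i a g hg]

theorem Rel.map {X X' : C} (k : X' ⟶ X)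
    {p : P.P.obj.obj (op X)} {q : Q.P.obj.obj (op X)} (h : Rel s t p q) :
    Rel s t (P.P.obj.map k.op p) (Q.P.obj.map k.op q) := by
  intro T l i a g hg
  rw [← map_comp_op] at hg ⊢
  exact h (l ≫ k) i a g hg

theorem Rel.smul {X : C} (g₀ : G.obj.obj (op X))
    {p : P.P.obj.obj (op X)} {q : Q.P.obj.obj (op X)} (h : Rel s t p q) :
    Rel s t (P.smul g₀ p) (Q.smul g₀ q) := by
  intro T l i a g hg
  rw [P.map_smul] at hg
  rw [Q.map_smul]
  have h1 : P.smul ((G.obj.map l.op g₀)⁻¹ * g) (P.P.obj.map a.op (s i)) = P.P.obj.map l.op p := by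
    rw [P.mul_smul, hg, ← P.mul_smul, inv_mul_cancel, P.one_smul]
  have h2 := h l i a _ h1
  rw [← h2, ← Q.mul_smul, mul_inv_cancel_left]

/-- Transfer: a relation between translates of the `s i` holds for the `t i`, when both families
cut out the same cocycle. -/
theorem transfer (hP : P.IsPseudoTorsor) (γ : PresheafOfGroups.OneCocycle G.obj U)
    (hs : P.IsCocycleOf U s γ) (ht : Q.IsCocycleOf U t γ) {T : C} (i j : I)
    (a : T ⟶ U i) (b : T ⟶ U j) (g g' : G.obj.obj (op T))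
    (h : P.smul g (P.P.obj.map a.op (s i)) = P.smul g' (P.P.obj.map b.op (s j))) :
    Q.smul g (Q.P.obj.map a.op (t i)) = Q.smul g' (Q.P.obj.map b.op (t j)) := by
  rw [← hs i j a b, ← P.mul_smul] at h
  have := smul_cancel hP h
  rw [← ht i j a b, ← Q.mul_smul, this]

theorem Rel.exists (hU : J.CoversTop U) (hP : P.IsPseudoTorsor)
    (γ : PresheafOfGroups.OneCocycle G.obj U)
    (hs : P.IsCocycleOf U s γ) (ht : Q.IsCocycleOf U t γ) {X : C}
    (p : P.P.obj.obj (op X)) : ∃ q : Q.P.obj.obj (op X), Rel s t p q := by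
  have hQsh := (isSheaf_iff_isSheaf_of_type _ _).1 Q.P.property
  -- choices
  have key : ∀ ⦃T : C⦄ (k : T ⟶ X) (hk : Sieve.ofObjects U X k),
      ∃ y : Q.P.obj.obj (op T), ∀ (i : I) (a : T ⟶ U i) (g : G.obj.obj (op T)),
        P.smul g (P.P.obj.map a.op (s i)) = P.P.obj.map k.op p →
          Q.smul g (Q.P.obj.map a.op (t i)) = y := by
    rintro T k ⟨i, ⟨a⟩⟩
    obtain ⟨g, hg, -⟩ := hP (op T) (P.P.obj.map a.op (s i)) (P.P.obj.map k.op p)
    refine ⟨Q.smul g (Q.P.obj.map a.op (t i)), fun i' a' g' hg' => ?_⟩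
    exact transfer hP γ hs ht i' i a' a g' g (hg'.trans hg.symm)
  let y : Presieve.FamilyOfElements Q.P.obj (Sieve.ofObjects U X).arrows :=
    fun T k hk => (key k hk).choose
  have hy : ∀ ⦃T : C⦄ (k : T ⟶ X) (hk : Sieve.ofObjects U X k) (i : I) (a : T ⟶ U i)
      (g : G.obj.obj (op T)), P.smul g (P.P.obj.map a.op (s i)) = P.P.obj.map k.op p →
          Q.smul g (Q.P.obj.map a.op (t i)) = y k hk := fun T k hk => (key k hk).choose_spec
  have hcompat : y.Compatible := by
    rw [Presieve.compatible_iff_sieveCompatible]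
    intro T T' k φ hk
    obtain ⟨i, ⟨a⟩⟩ := hk
    obtain ⟨g, hg, -⟩ := hP (op T) (P.P.obj.map a.op (s i)) (P.P.obj.map k.op p)
    rw [← hy k ⟨i, ⟨a⟩⟩ i a g hg]
    rw [Q.map_smul, ← map_comp_op]
    symm
    refine hy (φ ≫ k) ((Sieve.ofObjects U X).downward_closed ⟨i, ⟨a⟩⟩ φ) i (φ ≫ a) _ ?_
    rw [map_comp_op, map_comp_op, ← P.map_smul, hg]
  obtain ⟨q, hq⟩ := (hQsh _ (hU X) y hcompat).exists
  refine ⟨q, fun T k i a g hg => ?_⟩
  rw [hq k ⟨i, ⟨a⟩⟩]
  exact hy k ⟨i, ⟨a⟩⟩ i a g hg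

theorem Rel.existsUnique (hU : J.CoversTop U) (hP : P.IsPseudoTorsor)
    (γ : PresheafOfGroups.OneCocycle G.obj U)
    (hs : P.IsCocycleOf U s γ) (ht : Q.IsCocycleOf U t γ) {X : C}
    (p : P.P.obj.obj (op X)) : ∃! q : Q.P.obj.obj (op X), Rel s t p q := by
  obtain ⟨q, hq⟩ := Rel.exists hU hP γ hs ht p
  exact ⟨q, hq, fun q' hq' => Rel.unique hU hP hq' hq⟩

end

end Groth.Agent.Lib.Helper25.TorsorIso

namespace Groth.Agent.Lib.Helper25.TorsorIso

open CategoryTheory Opposite Groth.Agent.Lib.Helper25.TorsorCech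

variable {C : Type u} [Category.{v} C] {J : GrothendieckTopology C} {G : Sheaf J GrpCat.{w}}

section

variable {P Q : NonAbH1.GSheaf G} {I : Type w'} {U : I → C}
  {s : ∀ i, P.P.obj.obj (op (U i))} {t : ∀ i, Q.P.obj.obj (op (U i))}
  (hU : J.CoversTop U) (hP : P.IsPseudoTorsor)
  (γ : PresheafOfGroups.OneCocycle G.obj U)
  (hs : P.IsCocycleOf U s γ) (ht : Q.IsCocycleOf U t γ)

/-- The image of a section under the glued map. -/
noncomputable def img {X : C} (p : P.P.obj.obj (op X)) : Q.P.obj.obj (op X) :=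
  (Rel.exists hU hP γ hs ht p).choose

theorem img_rel {X : C} (p : P.P.obj.obj (op X)) : Rel s t p (img hU hP γ hs ht p) :=
  (Rel.exists hU hP γ hs ht p).choose_spec

theorem img_eq {X : C} {p : P.P.obj.obj (op X)} {q : Q.P.obj.obj (op X)} (h : Rel s t p q) :
    img hU hP γ hs ht p = q :=
  Rel.unique hU hP (img_rel hU hP γ hs ht p) h

/-- The glued equivariant morphism. -/
noncomputable def gluedHom : P ⟶ Q where
  hom := ObjectProperty.homMk
    { app := fun X => TypeCat.ofHom (fun p => img hU hP γ hs ht (X := X.unop) p)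
      naturality := by
        intro X Y f
        ext p
        change img hU hP γ hs ht (P.P.obj.map f p) = Q.P.obj.map f (img hU hP γ hs ht p)
        exact img_eq hU hP γ hs ht ((img_rel hU hP γ hs ht p).map f.unop) }
  map_smul := by
    intro X g p
    change img hU hP γ hs ht (X := X.unop) (P.smul g p) = Q.smul g (img hU hP γ hs ht (X := X.unop) p)
    exact img_eq hU hP γ hs ht ((img_rel hU hP γ hs ht (X := X.unop) p).smul g)

theorem gluedHom_app {X : C} (p : P.P.obj.obj (op X)) :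
    (gluedHom hU hP γ hs ht).hom.hom.app (op X) p = img hU hP γ hs ht p := rfl

end

theorem nonempty_iso {P Q : NonAbH1.GSheaf G} {I : Type w'} {U : I → C}
    {s : ∀ i, P.P.obj.obj (op (U i))} {t : ∀ i, Q.P.obj.obj (op (U i))}
    (hU : J.CoversTop U) (hP : P.IsPseudoTorsor) (hQ : Q.IsPseudoTorsor)
    (γ : PresheafOfGroups.OneCocycle G.obj U)
    (hs : P.IsCocycleOf U s γ) (ht : Q.IsCocycleOf U t γ) : Nonempty (P ≅ Q) := by
  refine ⟨⟨gluedHom hU hP γ hs ht, gluedHom hU hQ γ ht hs, ?_, ?_⟩⟩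
  · apply NonAbH1.GSheaf.hom_ext
    apply Sheaf.hom_ext
    ext X p
    change img hU hQ γ ht hs (X := X.unop) (img hU hP γ hs ht (X := X.unop) p) = p
    exact img_eq hU hQ γ ht hs ((img_rel hU hP γ hs ht (X := X.unop) p).symm hP hQ)
  · apply NonAbH1.GSheaf.hom_ext
    apply Sheaf.hom_ext
    ext X q
    change img hU hP γ hs ht (X := X.unop) (img hU hQ γ ht hs (X := X.unop) q) = q
    exact img_eq hU hP γ hs ht ((img_rel hU hQ γ ht hs (X := X.unop) q).symm hQ hP)

theorem nonempty_iso_of_hasCechClass {P Q : NonAbH1.GSheaf G} {I : Type w'} {U : I → C}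
    (hU : J.CoversTop U) (hP : P.IsPseudoTorsor) (hQ : Q.IsPseudoTorsor)
    (c : PresheafOfGroups.H1 G.obj U) (hPc : P.HasCechClass U c) (hQc : Q.HasCechClass U c) :
    Nonempty (P ≅ Q) := by
  obtain ⟨s, γ, hs, rfl⟩ := hPc
  obtain ⟨t, γ', ht, hc⟩ := hQc
  obtain ⟨α, hα⟩ := (PresheafOfGroups.OneCocycle.class_eq_iff _ _).1 hc
  exact nonempty_iso hU hP hQ γ hs (isCocycleOf_smul Q U t γ' γ α hα ht)

end Groth.Agent.Lib.Helper25.TorsorIso
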