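import Groth.Prelude.Def_NonAbH1
import Groth.Agent.Lib.Helper25.TorsorCech
import Mathlib.CategoryTheory.Sites.CoversTop.Basic
import Mathlib.Algebra.Category.Grp.ForgetCorepresentable
import Mathlib.CategoryTheory.ShrinkYoneda

set_option autoImplicit false
universe w' w v u

namespace Groth.Agent.Lib.Helper25.TorsorTwist

open CategoryTheory Opposite Groth.Agent.Lib.Helper25.TorsorCech

variable {C : Type u} [Category.{v} C] {J : GrothendieckTopology C}

section Grp

variable (G : Sheaf J GrpCat.{w})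

theorem isSheaf_forget : Presieve.IsSheaf J (G.obj ⋙ forget GrpCat.{w}) :=
  Presieve.isSheaf_iso J (Functor.isoWhiskerLeft G.obj GrpCat.coyonedaObjIsoForget) (G.property _)

theorem grp_sep {T : C} (S : Sieve T) (hS : S ∈ J T) (g g' : G.obj.obj (op T))
    (h : ∀ ⦃T' : C⦄ (φ : T' ⟶ T), S φ → G.obj.map φ.op g = G.obj.map φ.op g') : g = g' := by
  apply ((isSheaf_forget G).isSeparated S hS).ext (t₁ := g) (t₂ := g')
  intro T' φ hφ
  exact h φ hφ

theorem grp_glue {T : C} (S : Sieve T) (hS : S ∈ J T)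
    (fam : ∀ ⦃T' : C⦄ (φ : T' ⟶ T), S φ → G.obj.obj (op T'))
    (hfam : ∀ ⦃T' T'' : C⦄ (φ : T' ⟶ T) (ψ : T'' ⟶ T') (hφ : S φ),
      G.obj.map ψ.op (fam φ hφ) = fam (ψ ≫ φ) (S.downward_closed hφ ψ)) :
    ∃ g : G.obj.obj (op T), ∀ ⦃T' : C⦄ (φ : T' ⟶ T) (hφ : S φ), G.obj.map φ.op g = fam φ hφ := by
  have := (isSheaf_forget G) S hS
  let x : Presieve.FamilyOfElements (G.obj ⋙ forget GrpCat.{w}) S.arrows :=
    fun T' φ hφ => fam φ hφ
  have hx : x.Compatible := by
    rw [Presieve.compatible_iff_sieveCompatible]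
    intro T' T'' φ ψ hφ
    exact (hfam φ ψ hφ).symm
  obtain ⟨g, hg⟩ := (this x hx).exists
  exact ⟨g, fun T' φ hφ => hg φ hφ⟩

theorem grp_map_comp {T T' T'' : C} (φ : T' ⟶ T) (ψ : T'' ⟶ T') (g : G.obj.obj (op T)) :
    G.obj.map (ψ ≫ φ).op g = G.obj.map ψ.op (G.obj.map φ.op g) := by
  rw [op_comp, Functor.map_comp]
  rfl

theorem grp_map_id {T : C} (g : G.obj.obj (op T)) :
    G.obj.map (𝟙 T).op g = g := by
  rw [op_id, CategoryTheory.Functor.map_id]
  rfl

end Grp

variable {G : Sheaf J GrpCat.{w}} {I : Type w'} {U : I → C}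
  (γ : PresheafOfGroups.OneCocycle G.obj U)

/-- Sections of the twisted sheaf attached to a cocycle. -/
structure Big (X : C) : Type (max u v w w') where
  val : ∀ ⦃T : C⦄ (_ : T ⟶ X) (i : I) (_ : T ⟶ U i), G.obj.obj (op T)
  map_val : ∀ ⦃T T' : C⦄ (φ : T' ⟶ T) (h : T ⟶ X) (i : I) (a : T ⟶ U i),
    G.obj.map φ.op (val h i a) = val (φ ≫ h) i (φ ≫ a)
  val_mul : ∀ ⦃T : C⦄ (h : T ⟶ X) (i j : I) (a : T ⟶ U i) (b : T ⟶ U j),
    val h i a * γ.ev i j a b = val h j b

variable {γ}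

theorem Big.ext {X : C} {x y : Big γ X}
    (h : ∀ ⦃T : C⦄ (k : T ⟶ X) (i : I) (a : T ⟶ U i), x.val k i a = y.val k i a) : x = y := by
  cases x; cases y
  congr
  funext T k i a
  exact h k i a

/-- Restriction. -/
def Big.map {X X' : C} (k : X' ⟶ X) (x : Big γ X) : Big γ X' where
  val T h i a := x.val (h ≫ k) i a
  map_val := by
    intro T T' φ h i a
    rw [x.map_val, Category.assoc]
  val_mul := fun T h i j a b => x.val_mul _ i j a b

/-- The action. -/
def Big.smul {X : C} (g : G.obj.obj (op X)) (x : Big γ X) : Big γ X where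
  val T h i a := G.obj.map h.op g * x.val h i a
  map_val := by
    intro T T' φ h i a
    rw [map_mul, x.map_val, grp_map_comp]
  val_mul := by
    intro T h i j a b
    rw [mul_assoc, x.val_mul]

theorem Big.val_congr {X : C} (x : Big γ X) {T : C} {h h' : T ⟶ X} (e : h = h') {i : I}
    {a a' : T ⟶ U i} (e' : a = a') : x.val h i a = x.val h' i a' := by
  subst e; subst e'; rfl

variable (γ) in
/-- The twisted presheaf, before shrinking. -/
def bigFunctor : Cᵒᵖ ⥤ Type (max u v w w') where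
  obj X := Big γ X.unop
  map f := TypeCat.ofHom (Big.map f.unop)
  map_id X := by
    ext x
    apply Big.ext
    intro T k i a
    exact x.val_congr (Category.comp_id _) rfl
  map_comp f g := by
    ext x
    apply Big.ext
    intro T k i a
    exact x.val_congr (Category.assoc _ _ _).symm rfl

theorem bigFunctor_map_apply {X Y : Cᵒᵖ} (f : X ⟶ Y) (x : Big γ X.unop) :
    (bigFunctor γ).map f x = Big.map f.unop x := rfl

theorem big_sep {X : C} (S : Sieve X) (hS : S ∈ J X) (x x' : Big γ X)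
    (h : ∀ ⦃Y : C⦄ (f : Y ⟶ X), S f → Big.map f x = Big.map f x') : x = x' := by
  apply Big.ext
  intro T k i a
  apply grp_sep G (S.pullback k) (J.pullback_stable k hS)
  intro T' φ hφ
  rw [x.map_val, x'.map_val]
  have := congrArg (fun z => Big.val z (𝟙 T') i (φ ≫ a)) (h (φ ≫ k) hφ)
  simp only [Big.map] at this
  rw [x.val_congr (Category.id_comp _) rfl, x'.val_congr (Category.id_comp _) rfl] at this
  exact this

theorem big_glue {X : C} (S : Sieve X) (hS : S ∈ J X)
    (xs : ∀ ⦃Y : C⦄ (f : Y ⟶ X), S f → Big γ Y)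
    (hxs : ∀ ⦃Y Z : C⦄ (f : Y ⟶ X) (k : Z ⟶ Y) (hf : S f),
      Big.map k (xs f hf) = xs (k ≫ f) (S.downward_closed hf k)) :
    ∃ x : Big γ X, ∀ ⦃Y : C⦄ (f : Y ⟶ X) (hf : S f), Big.map f x = xs f hf := by
  -- flexible form of compatibility
  have hxs' : ∀ ⦃Y Z : C⦄ (f : Y ⟶ X) (k : Z ⟶ Y) (hf : S f) (f' : Z ⟶ X) (hf' : S f')
      (_ : f' = k ≫ f) ⦃T : C⦄ (h : T ⟶ Z) (i : I) (a : T ⟶ U i),
      (xs f' hf').val h i a = (xs f hf).val (h ≫ k) i a := by
    intro Y Z f k hf f' hf' e T h i a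
    subst e
    rw [← hxs f k hf]
    rfl
  have hcongr : ∀ ⦃Y : C⦄ (f f' : Y ⟶ X) (hf : S f) (hf' : S f') (_ : f = f')
      ⦃T : C⦄ (h : T ⟶ Y) (i : I) (a a' : T ⟶ U i) (_ : a = a'),
      (xs f hf).val h i a = (xs f' hf').val h i a' := by
    intro Y f f' hf hf' e T h i a a' e'
    subst e; subst e'; rfl
  -- the local families
  have key : ∀ ⦃T : C⦄ (h : T ⟶ X) (i : I) (a : T ⟶ U i),
      ∃ g : G.obj.obj (op T), ∀ ⦃T' : C⦄ (φ : T' ⟶ T) (hφ : S (φ ≫ h)),
        G.obj.map φ.op g = (xs (φ ≫ h) hφ).val (𝟙 T') i (φ ≫ a) := by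
    intro T h i a
    refine grp_glue G (S.pullback h) (J.pullback_stable h hS)
      (fun T' φ hφ => (xs (φ ≫ h) hφ).val (𝟙 T') i (φ ≫ a)) ?_
    intro T' T'' φ ψ hφ
    rw [(xs (φ ≫ h) hφ).map_val]
    rw [hxs' (φ ≫ h) ψ hφ ((ψ ≫ φ) ≫ h) _ (Category.assoc _ _ _)]
    exact Big.val_congr _ (by simp) (by simp)
  choose val hval using key
  refine ⟨⟨val, ?_, ?_⟩, ?_⟩
  · intro T T' φ₀ h i a
    apply grp_sep G (S.pullback (φ₀ ≫ h)) (J.pullback_stable _ hS)
    intro T'' ψ hψ
    rw [← grp_map_comp, hval h i a (ψ ≫ φ₀) (by simpa using hψ), hval (φ₀ ≫ h) i (φ₀ ≫ a) ψ hψ]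
    exact hcongr _ _ _ _ (Category.assoc _ _ _) _ _ _ _ (Category.assoc _ _ _)
  · intro T h i j a b
    apply grp_sep G (S.pullback h) (J.pullback_stable _ hS)
    intro T' φ hφ
    rw [map_mul, hval h i a φ hφ, hval h j b φ hφ]
    have := γ.ev_precomp i j φ a b
    erw [this]
    exact (xs (φ ≫ h) hφ).val_mul _ i j _ _
  · intro Y f hf
    apply Big.ext
    intro T h i a
    change val (h ≫ f) i a = _
    have h1 := hval (h ≫ f) i a (𝟙 T) (by simpa using S.downward_closed hf h)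
    rw [grp_map_id] at h1
    rw [h1, hxs' f h hf (𝟙 T ≫ h ≫ f) _ (Category.id_comp _)]
    exact Big.val_congr _ (by simp) (by simp)


variable (γ) in
theorem isSheaf_bigFunctor : Presieve.IsSheaf J (bigFunctor γ) := by
  intro X S hS
  refine Presieve.IsSeparatedFor.isSheafFor ?_ ?_
  · intro xs t₁ t₂ h₁ h₂
    refine big_sep S hS t₁ t₂ (fun Y f hf => ?_)
    exact (h₁ f hf).trans (h₂ f hf).symm
  · intro xs hxs
    rw [Presieve.compatible_iff_sieveCompatible] at hxs
    obtain ⟨x, hx⟩ := big_glue S hS (fun Y f hf => xs f hf)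
      (fun Y Z f k hf => (hxs f k hf).symm)
    exact ⟨x, fun Y f hf => hx f hf⟩

theorem Big.smul_val {X : C} (g : G.obj.obj (op X)) (x : Big γ X) ⦃T : C⦄ (h : T ⟶ X) (i : I)
    (a : T ⟶ U i) : (Big.smul g x).val h i a = G.obj.map h.op g * x.val h i a := rfl

theorem Big.map_val' {X X' : C} (k : X' ⟶ X) (x : Big γ X) ⦃T : C⦄ (h : T ⟶ X') (i : I)
    (a : T ⟶ U i) : (Big.map k x).val h i a = x.val (h ≫ k) i a := rfl

theorem Big.one_smul {X : C} (x : Big γ X) : Big.smul 1 x = x := by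
  apply Big.ext
  intro T k i a
  rw [Big.smul_val, map_one, one_mul]

theorem Big.mul_smul {X : C} (g g' : G.obj.obj (op X)) (x : Big γ X) :
    Big.smul (g * g') x = Big.smul g (Big.smul g' x) := by
  apply Big.ext
  intro T k i a
  rw [Big.smul_val, Big.smul_val, Big.smul_val, map_mul, mul_assoc]

theorem Big.map_smul {X X' : C} (k : X' ⟶ X) (g : G.obj.obj (op X)) (x : Big γ X) :
    Big.map k (Big.smul g x) = Big.smul (G.obj.map k.op g) (Big.map k x) := by
  apply Big.ext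
  intro T h i a
  rw [Big.map_val', Big.smul_val, Big.smul_val, Big.map_val', grp_map_comp]

theorem Big.existsUnique_smul (hU : J.CoversTop U) {X : C} (x y : Big γ X) :
    ∃! g : G.obj.obj (op X), Big.smul g x = y := by
  have hind : ∀ ⦃T : C⦄ (h : T ⟶ X) (i j : I) (a : T ⟶ U i) (b : T ⟶ U j),
      y.val h i a * (x.val h i a)⁻¹ = y.val h j b * (x.val h j b)⁻¹ := by
    intro T h i j a b
    rw [← x.val_mul h i j a b, ← y.val_mul h i j a b, mul_inv_rev, mul_assoc,
      mul_inv_cancel_left]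
  have key : ∃ g : G.obj.obj (op X), ∀ ⦃T : C⦄ (φ : T ⟶ X) (hφ : Sieve.ofObjects U X φ),
      G.obj.map φ.op g =
        y.val φ hφ.choose hφ.choose_spec.some * (x.val φ hφ.choose hφ.choose_spec.some)⁻¹ := by
    refine grp_glue G (Sieve.ofObjects U X) (hU X) (fun T φ hφ =>
      y.val φ hφ.choose hφ.choose_spec.some * (x.val φ hφ.choose hφ.choose_spec.some)⁻¹) ?_
    intro T' T'' φ ψ hφ
    rw [map_mul, map_inv, y.map_val, x.map_val]
    exact hind _ _ _ _ _
  obtain ⟨g, hg⟩ := key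
  have hg' : ∀ ⦃T : C⦄ (φ : T ⟶ X) (i : I) (a : T ⟶ U i),
      G.obj.map φ.op g = y.val φ i a * (x.val φ i a)⁻¹ := by
    intro T φ i a
    rw [hg φ ⟨i, ⟨a⟩⟩]
    exact hind _ _ _ _ _
  refine ⟨g, ?_, ?_⟩
  · apply Big.ext
    intro T k i a
    rw [Big.smul_val, hg' k i a, inv_mul_cancel_right]
  · intro g' hg''
    apply grp_sep G (Sieve.ofObjects U X) (hU X)
    rintro T φ ⟨i, ⟨a⟩⟩
    rw [hg' φ i a, ← hg'', Big.smul_val, mul_inv_cancel_right]

/-- The canonical sections over the covering objects. -/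
def Big.sec (i : I) : Big γ (U i) where
  val T h j b := γ.ev i j h b
  map_val := by
    intro T T' φ h j b
    exact γ.ev_precomp i j φ h b
  val_mul := by
    intro T h j k a b
    exact γ.ev_trans i j k h a b

theorem Big.sec_cocycle (i j : I) ⦃T : C⦄ (a : T ⟶ U i) (b : T ⟶ U j) :
    Big.smul (γ.ev i j a b) (Big.map b (Big.sec (γ := γ) j)) = Big.map a (Big.sec i) := by
  apply Big.ext
  intro T' h k c
  rw [Big.smul_val, Big.map_val', Big.map_val']
  change G.obj.map h.op (γ.ev i j a b) * γ.ev j k (h ≫ b) c = γ.ev i k (h ≫ a) c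
  have := γ.ev_precomp i j h a b
  erw [this]
  exact γ.ev_trans i j k _ _ _

theorem small_big (hU : J.CoversTop U) (X : C) : Small.{w} (Big γ X) := by
  by_cases h : Nonempty (Big γ X)
  · obtain ⟨x₀⟩ := h
    refine small_of_injective (β := G.obj.obj (op X))
      (f := fun y => (Big.existsUnique_smul hU x₀ y).choose) ?_
    intro y y' hyy'
    have h1 := (Big.existsUnique_smul hU x₀ y).choose_spec.1
    have h2 := (Big.existsUnique_smul hU x₀ y').choose_spec.1
    simp only at hyy'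
    rw [← h1, ← h2, hyy']
  · have := not_nonempty_iff.1 h
    infer_instance


section Shrink

variable (γ) (hU : J.CoversTop U)

/-- The twisted sheaf (shrunk to the right universe). -/
noncomputable def twistSheaf : Sheaf J (Type w) :=
  haveI : FunctorToTypes.Small.{w} (bigFunctor γ) := fun X => small_big hU X.unop
  ⟨FunctorToTypes.shrink.{w} (bigFunctor γ), (isSheaf_iff_isSheaf_of_type _ _).2
    (Presieve.isSheaf_of_nat_equiv (P₁ := bigFunctor γ)
      (P₂ := FunctorToTypes.shrink.{w} (bigFunctor γ)) (fun X => equivShrink _)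
      (fun X Y f x => by simp [FunctorToTypes.shrink_map]) (isSheaf_bigFunctor γ))⟩

/-- Sections of the twisted sheaf are the compatible families. -/
noncomputable def eqv (X : Cᵒᵖ) : Big γ X.unop ≃ (twistSheaf γ hU).obj.obj X :=
  haveI := small_big (γ := γ) hU X.unop
  equivShrink _

theorem eqv_map {X Y : Cᵒᵖ} (f : X ⟶ Y) (x : Big γ X.unop) :
    (twistSheaf γ hU).obj.map f (eqv γ hU X x) = eqv γ hU Y (Big.map f.unop x) := by
  haveI : FunctorToTypes.Small.{w} (bigFunctor γ) := fun X => small_big hU X.unop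
  change (FunctorToTypes.shrink.{w} (bigFunctor γ)).map f (equivShrink _ x) = equivShrink _ _
  simp [FunctorToTypes.shrink_map]
  rfl

/-- The twisted torsor attached to a cocycle. -/
noncomputable def twist : NonAbH1.GSheaf G where
  P := twistSheaf γ hU
  smul {X} g p := eqv γ hU X (Big.smul g ((eqv γ hU X).symm p))
  one_smul p := by rw [Big.one_smul, Equiv.apply_symm_apply]
  mul_smul g h p := by rw [Big.mul_smul, Equiv.symm_apply_apply]
  map_smul {X Y} f g p := by
    obtain ⟨x, rfl⟩ := (eqv γ hU X).surjective p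
    rw [Equiv.symm_apply_apply, eqv_map, eqv_map, Equiv.symm_apply_apply]
    congr 1
    exact Big.map_smul f.unop g x

theorem twist_smul_eqv {X : Cᵒᵖ} (g : G.obj.obj X) (x : Big γ X.unop) :
    (twist γ hU).smul g (eqv γ hU X x) = eqv γ hU X (Big.smul g x) := by
  change eqv γ hU X (Big.smul g ((eqv γ hU X).symm (eqv γ hU X x))) = _
  rw [Equiv.symm_apply_apply]

theorem twist_isPseudoTorsor : (twist γ hU).IsPseudoTorsor := by
  intro X p q
  obtain ⟨x, rfl⟩ := (eqv γ hU X).surjective p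
  obtain ⟨y, rfl⟩ := (eqv γ hU X).surjective q
  obtain ⟨g, hg, hg'⟩ := Big.existsUnique_smul hU x y
  refine ⟨g, ?_, ?_⟩
  · change (twist γ hU).smul g (eqv γ hU X x) = _
    rw [twist_smul_eqv, hg]
  · intro g' h'
    apply hg'
    have h'' : (twist γ hU).smul g' (eqv γ hU X x) = eqv γ hU X y := h'
    rw [twist_smul_eqv] at h''
    exact (eqv γ hU X).injective h''

theorem twist_isTorsor : (twist γ hU).IsTorsor := by
  refine ⟨twist_isPseudoTorsor γ hU, fun X => ⟨Sieve.ofObjects U X, hU X, ?_⟩⟩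
  rintro V f ⟨i, ⟨a⟩⟩
  exact ⟨eqv γ hU (op V) (Big.map a (Big.sec i))⟩

theorem twist_trivialisedBy : (twist γ hU).TrivialisedBy U :=
  fun i => ⟨eqv γ hU (op (U i)) (Big.sec i)⟩

theorem twist_isCocycleOf :
    (twist γ hU).IsCocycleOf U (fun i => eqv γ hU (op (U i)) (Big.sec i)) γ := by
  intro i j T a b
  change (twist γ hU).smul (γ.ev i j a b)
    ((twistSheaf γ hU).obj.map b.op (eqv γ hU (op (U j)) (Big.sec j))) =
    (twistSheaf γ hU).obj.map a.op (eqv γ hU (op (U i)) (Big.sec i))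
  rw [eqv_map, eqv_map, twist_smul_eqv]
  congr 1
  exact Big.sec_cocycle i j a b

end Shrink

theorem exists_torsor (G : Sheaf J GrpCat.{w}) {I : Type w'} (U : I → C) (hU : J.CoversTop U)
    (c : PresheafOfGroups.H1 G.obj U) :
    ∃ P : NonAbH1.Torsor G, P.TrivialisedBy U ∧ P.HasCechClass U c := by
  obtain ⟨γ, rfl⟩ := Quot.exists_rep c
  exact ⟨⟨twist γ hU, twist_isTorsor γ hU⟩, twist_trivialisedBy γ hU,
    _, γ, twist_isCocycleOf γ hU, rfl⟩

end Groth.Agent.Lib.Helper25.TorsorTwist
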