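import Groth.Agent.Lib.Helper84.HomFinite
import Groth.Agent.Lib.Helper25.WayOutCx

/-!
# Right adjoints of restriction of scalars on derived categories ("trivial duality")

For a finite ring map `φ : A → B` of Noetherian rings and a right adjoint `R` of
`restrictD φ : D(B) ⥤ D(A)`: `R` preserves `D^{≥ a}` and sends bounded below objects with finite
cohomology to objects with finite cohomology.
-/

set_option autoImplicit false
universe u

open CategoryTheory CategoryTheory.Limits CategoryTheory.Pretriangulated DerivedCategory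
  CategoryTheory.Triangulated
open DRing

attribute [local instance] HasDerivedCategory.standard

namespace Groth.Agent.Lib.Helper25.TrivDual

open Groth.Agent.Lib.Helper84.HomFinite Groth.Agent.Lib.Helper84

section Noeth

variable {A : Type u} [CommRing A] [IsNoetherianRing A]

/-- `Hom(M[-i], K)` is a Noetherian module for `M` finite and `K` bounded below with finite
cohomology. -/
theorem noeth_single_of_isGE (M : ModuleCat.{u} A) [Module.Finite A M] (i : ℤ) (K : Dual.D A)
    (a : ℤ) [K.IsGE a] (hK : ∀ j : ℤ, Module.Finite A (Dual.HD A K j)) :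
    IsNoetherian A ((DerivedCategory.singleFunctor (ModuleCat.{u} A) i).obj M ⟶ K) := by
  let t : TStructure (Dual.D A) := TStructure.t
  let K' := (t.truncLT (i + 1)).obj K
  have hT := t.triangleLTGE_distinguished (i + 1) K
  haveI hK'LE : t.IsLE K' i := t.isLE_truncLT_obj K (i + 1) i
  have hiso : ∀ j : ℤ, j < i + 1 → IsIso ((DerivedCategory.homologyFunctor (ModuleCat.{u} A) j).map
      ((t.truncLTι (i + 1)).app K)) := fun j hj => DerivedT.isIso_homologyMap_truncLTι K (i + 1) j hj
  have hK'b : BddFin K' := by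
    refine ⟨⟨a, i, ?_⟩, ?_⟩
    · intro j hj
      rcases hj with hj | hj
      · by_cases hj' : j < i + 1
        · haveI := hiso j hj'
          exact IsZero.of_iso (isZero_of_isGE K a j hj)
            (asIso ((DerivedCategory.homologyFunctor (ModuleCat.{u} A) j).map
              ((t.truncLTι (i + 1)).app K)))
        · exact isZero_of_isLE K' i j (by lia)
      · exact isZero_of_isLE K' i j hj
    · intro j
      by_cases hj : j < i + 1
      · haveI := hiso j hj
        exact finite_of_iso_homology
          (asIso ((DerivedCategory.homologyFunctor (ModuleCat.{u} A) j).map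
            ((t.truncLTι (i + 1)).app K))).symm (hK j)
      · exact finite_of_isZero (isZero_of_isLE K' i j (by lia))
  have h1 : IsNoetherian A ((DerivedCategory.singleFunctor (ModuleCat.{u} A) i).obj M ⟶ K') :=
    noeth_of_iso (Iso.refl _) ((shiftFunctorZero (Dual.D A) ℤ).app K')
      (noeth_single_left M i K' hK'b 0)
  refine isNoetherian_of_surjective
    (Linear.rightComp A ((DerivedCategory.singleFunctor (ModuleCat.{u} A) i).obj M)
      ((t.truncLTι (i + 1)).app K)) ?_
  rw [LinearMap.range_eq_top]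
  intro f
  have h0 : f ≫ (t.truncGEπ (i + 1)).app K = 0 :=
    t.zero _ i (i + 1) (by lia)
  obtain ⟨g, hg⟩ := Triangle.coyoneda_exact₂ _ hT f h0
  exact ⟨g, hg.symm⟩

end Noeth

section Semilinear

variable {A B : Type u} [CommRing A] [CommRing B] (φ : A →+* B)

theorem resCx_map_smul_id (Y : Cx B) (a : A) :
    ((ModuleCat.restrictScalars.{u} φ).mapHomologicalComplex (ComplexShape.up ℤ)).map
      (φ a • 𝟙 Y) = a • 𝟙 _ := by
  ext n x
  rfl

theorem restrictD_map_smul_id (Y : Dual.D B) (a : A) :
    (DRing.restrictD φ).map (φ a • 𝟙 Y) = a • 𝟙 _ := by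
  let Y0 := Q.objPreimage Y
  let e : Q.obj Y0 ≅ Y := Q.objObjPreimageIso Y
  have h1 : φ a • 𝟙 Y = e.inv ≫ Q.map (φ a • 𝟙 Y0) ≫ e.hom := by
    rw [Functor.map_smul, CategoryTheory.Functor.map_id, Linear.smul_comp, Linear.comp_smul, Category.id_comp,
      e.inv_hom_id]
  rw [h1, Functor.map_comp, Functor.map_comp]
  have h2 := (ModuleCat.restrictScalars.{u} φ).mapDerivedCategoryFactors_hom_naturality
    (φ a • 𝟙 Y0)
  have h3 : (DRing.restrictD φ).map (Q.map (φ a • 𝟙 Y0)) =
      a • 𝟙 _ := by
    rw [← cancel_mono ((ModuleCat.restrictScalars.{u} φ).mapDerivedCategoryFactors.hom.app Y0)]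
    erw [h2]
    rw [resCx_map_smul_id, Functor.map_smul, CategoryTheory.Functor.map_id, Linear.comp_smul, Linear.smul_comp]
    erw [Category.comp_id, Category.id_comp]
  rw [h3, Linear.smul_comp, Linear.comp_smul, Category.id_comp, ← Functor.map_comp, e.inv_hom_id,
    CategoryTheory.Functor.map_id]

theorem restrictD_map_smul {X Y : Dual.D B} (f : X ⟶ Y) (a : A) :
    (DRing.restrictD φ).map (φ a • f) = a • (DRing.restrictD φ).map f := by
  have h : φ a • f = f ≫ (φ a • 𝟙 Y) := by rw [Linear.comp_smul, Category.comp_id]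
  rw [h, Functor.map_comp, restrictD_map_smul_id, Linear.comp_smul, Category.comp_id]

end Semilinear

section HomSgl

open Groth.Agent.Lib.Helper25.WayOutCx Groth.Agent.Lib.Helper25.DerAdj HomologicalComplex

variable {B : Type u} [CommRing B]

theorem cocycleMap_ext (X : Cx B) (i : ℤ) (f g : sglA B i ⟶ X) (h : f.f i (gen i) = g.f i (gen i)) :
    f = g := by
  apply HomologicalComplex.from_single_hom_ext
  rw [← cancel_epi (singleObjXSelf (ComplexShape.up ℤ) i (ModuleCat.of B B)).inv]
  apply ModuleCat.hom_ext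
  apply LinearMap.ext_ring
  exact h

/-- the `B`-linear map from `i`-cocycles of `X` to `Hom(B[-i], X)` in `D(B)` -/
noncomputable def cocycleHom (X : Cx B) (i : ℤ) :
    LinearMap.ker (X.d i (i + 1)).hom →ₗ[B] (Q.obj (sglA B i) ⟶ Q.obj X) where
  toFun z := Q.map (cocycleMap X i z.1 (LinearMap.mem_ker.1 z.2))
  map_add' z z' := by
    rw [← Functor.map_add]
    congr 1
    apply cocycleMap_ext
    rw [HomologicalComplex.add_f_apply, cocycleMap_f_gen]
    simp only [ModuleCat.hom_add, LinearMap.add_apply]
    rw [cocycleMap_f_gen, cocycleMap_f_gen]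
    rfl
  map_smul' b z := by
    rw [RingHom.id_apply, ← Functor.map_smul]
    congr 1
    apply cocycleMap_ext
    rw [HomologicalComplex.smul_f_apply, cocycleMap_f_gen]
    simp only [ModuleCat.hom_smul, LinearMap.smul_apply]
    rw [cocycleMap_f_gen]
    rfl

theorem cocycleHom_surjective (X : Cx B) (i : ℤ) : Function.Surjective (cocycleHom X i) := by
  intro g
  obtain ⟨φ, rfl⟩ := exists_map_eq (sglA B i) X g
  have hz : (X.d i (i + 1)).hom (φ.f i (gen i)) = 0 := by
    have h1 := φ.comm i (i + 1)
    have hd : (sglA B i).d i (i + 1) = 0 :=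
      (isZero_single_obj_X (ComplexShape.up ℤ) i (ModuleCat.of B B) (i + 1) (by omega)).eq_of_tgt _ _
    rw [hd, zero_comp] at h1
    have := congrArg (fun ψ => ψ.hom (gen i)) h1
    exact this
  refine ⟨⟨φ.f i (gen i), LinearMap.mem_ker.2 hz⟩, ?_⟩
  change Q.map _ = Q.map φ
  congr 1
  apply cocycleMap_ext
  rw [cocycleMap_f_gen]

theorem mem_range_of_cocycleHom_eq_zero (X : Cx B) (i i' : ℤ) (hi : i' + 1 = i)
    (z : LinearMap.ker (X.d i (i + 1)).hom) (hz : cocycleHom X i z = 0) :
    ∃ y : X.X i', (X.d i' i).hom y = z.1 := by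
  obtain ⟨ht⟩ := (Qmap_eq_zero_iff _ _ _).1 hz
  refine ⟨(ht.hom i i').hom (gen i), ?_⟩
  have hc := ht.comm i
  rw [dNext_eq ht.hom (show (ComplexShape.up ℤ).Rel i (i + 1) from rfl),
    prevD_eq ht.hom (show (ComplexShape.up ℤ).Rel i' i from hi)] at hc
  have hd : (sglA B i).d i (i + 1) = 0 :=
    (isZero_single_obj_X (ComplexShape.up ℤ) i (ModuleCat.of B B) (i + 1) (by omega)).eq_of_tgt _ _
  rw [hd, zero_comp, zero_add, HomologicalComplex.zero_f, add_zero] at hc
  have := congrArg (fun φ => φ.hom (gen i)) hc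
  dsimp at this
  rw [cocycleMap_f_gen] at this
  exact this.symm

/-- If `Hom(B[-i], Y)` is a finite `B`-module then so is `H^i(Y)`. -/
theorem finite_homology_of_finite_hom (Y : Dual.D B) (i : ℤ)
    (h : Module.Finite B (Q.obj (sglA B i) ⟶ Y)) :
    Module.Finite B ((DerivedCategory.homologyFunctor (ModuleCat.{u} B) i).obj Y) := by
  let Y0 := Q.objPreimage Y
  let e : Q.obj Y0 ≅ Y := Q.objObjPreimageIso Y
  have h' : Module.Finite B (Q.obj (sglA B i) ⟶ Q.obj Y0) :=
    Module.Finite.equiv (Linear.homCongr B (Iso.refl (Q.obj (sglA B i))) e.symm)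
  let S := Y0.sc' (i - 1) i (i + 1)
  let eH : (DerivedCategory.homologyFunctor (ModuleCat.{u} B) i).obj Y ≅
      S.moduleCatLeftHomologyData.H :=
    (DerivedCategory.homologyFunctor (ModuleCat.{u} B) i).mapIso e.symm ≪≫
      (DerivedCategory.homologyFunctorFactors (ModuleCat.{u} B) i).app Y0 ≪≫
      Y0.homologyIsoSc' (i - 1) i (i + 1) (by simp) (by simp) ≪≫ S.moduleCatHomologyIso
  suffices hfin : Module.Finite B (LinearMap.ker S.g.hom ⧸ LinearMap.range S.moduleCatToCycles) by
    have hfin' : Module.Finite B ↑S.moduleCatLeftHomologyData.H := hfin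
    exact Module.Finite.equiv eH.symm.toLinearEquiv
  let Ψ : LinearMap.ker S.g.hom →ₗ[B] (Q.obj (sglA B i) ⟶ Q.obj Y0) := cocycleHom Y0 i
  have hΨ : Function.Surjective Ψ := cocycleHom_surjective Y0 i
  have hker : LinearMap.ker Ψ ≤ LinearMap.ker (LinearMap.range S.moduleCatToCycles).mkQ := by
    intro z hz
    rw [Submodule.ker_mkQ]
    obtain ⟨y, hy⟩ := mem_range_of_cocycleHom_eq_zero Y0 i (i - 1) (by omega) z
      (LinearMap.mem_ker.1 hz)
    exact ⟨y, Subtype.ext hy⟩
  haveI : Module.Finite B (LinearMap.ker S.g.hom ⧸ LinearMap.ker Ψ) :=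
    Module.Finite.equiv (LinearMap.quotKerEquivOfSurjective Ψ hΨ).symm
  refine Module.Finite.of_surjective
    ((LinearMap.ker Ψ).liftQ (LinearMap.range S.moduleCatToCycles).mkQ hker) ?_
  intro x
  obtain ⟨z, rfl⟩ := Submodule.mkQ_surjective _ x
  exact ⟨Submodule.Quotient.mk z, rfl⟩

end HomSgl

section Main

open Groth.Agent.Lib.Helper25.WayOutCx

variable {A B : Type u} [CommRing A] [CommRing B] (φ : A →+* B)

lemma isLE_restrictD (Y : Dual.D B) (n : ℤ) [Y.IsLE n] : ((DRing.restrictD φ).obj Y).IsLE n := by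
  obtain ⟨K, hK, ⟨e⟩⟩ := DerivedCategory.exists_iso_Q_obj_of_isLE Y n
  let K' : CochainComplex (ModuleCat.{u} A) ℤ :=
    ((ModuleCat.restrictScalars.{u} φ).mapHomologicalComplex (ComplexShape.up ℤ)).obj K
  have : K'.IsStrictlyLE n := inferInstance
  have h1 : (Q.obj K').IsLE n := inferInstance
  have e' : Q.obj K' ≅ (DRing.restrictD φ).obj Y :=
    ((ModuleCat.restrictScalars.{u} φ).mapDerivedCategoryFactors.app K).symm ≪≫
      (DRing.restrictD φ).mapIso e.symm
  exact DerivedCategory.TStructure.t.isLE_of_iso e' n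

variable {φ} (R : Dual.D A ⥤ Dual.D B) (adj : DRing.restrictD φ ⊣ R)

include adj in
/-- A right adjoint of restriction of scalars preserves `D^{≥ a}`. -/
theorem isGE_rightAdjoint (K : Dual.D A) (a : ℤ) [K.IsGE a] : (R.obj K).IsGE a := by
  change DerivedCategory.TStructure.t.IsGE (R.obj K) a
  rw [DerivedCategory.TStructure.t.isGE_iff_orthogonal (a - 1) a (by omega)]
  intro Y f hY
  haveI : Y.IsLE (a - 1) := hY
  haveI := isLE_restrictD φ Y (a - 1)
  apply (adj.homEquiv Y K).symm.injective
  rw [DerivedCategory.TStructure.t.zero ((adj.homEquiv Y K).symm f) (a - 1) a (by omega)]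
  exact (DerivedCategory.TStructure.t.zero _ (a - 1) a (by omega)).symm

/-- `res (B[-i]) ≅ (B|_A)[-i]` -/
noncomputable def resSglIso (i : ℤ) :
    (DRing.restrictD φ).obj (Q.obj (sglA B i)) ≅
      (DerivedCategory.singleFunctor (ModuleCat.{u} A) i).obj
        ((ModuleCat.restrictScalars.{u} φ).obj (ModuleCat.of B B)) :=
  (ModuleCat.restrictScalars.{u} φ).mapDerivedCategoryFactors.app (sglA B i) ≪≫
    Q.mapIso ((HomologicalComplex.singleMapHomologicalComplex (ModuleCat.restrictScalars.{u} φ)
      (ComplexShape.up ℤ) i).app (ModuleCat.of B B)) ≪≫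
    ((DerivedCategory.singleFunctorIsoCompQ (ModuleCat.{u} A) i).app _).symm

/-- the semilinear adjunction bijection as an `A`-linear equivalence -/
noncomputable def adjLinearEquiv (X : Dual.D B) (K : Dual.D A) :
    letI : Module A (X ⟶ R.obj K) := Module.compHom _ φ
    (X ⟶ R.obj K) ≃ₗ[A] ((DRing.restrictD φ).obj X ⟶ K) :=
  letI : Module A (X ⟶ R.obj K) := Module.compHom _ φ
  LinearEquiv.ofBijective
    { toFun := fun f => (DRing.restrictD φ).map f ≫ adj.counit.app K
      map_add' := fun f g => by rw [Functor.map_add, Preadditive.add_comp]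
      map_smul' := fun a f => by
        change (DRing.restrictD φ).map (φ a • f) ≫ adj.counit.app K = _
        rw [restrictD_map_smul, Linear.smul_comp]
        rfl }
    (by
      have h : (fun f : X ⟶ R.obj K => (DRing.restrictD φ).map f ≫ adj.counit.app K) =
          (adj.homEquiv X K).symm := by
        funext f
        exact (adj.homEquiv_counit X K f).symm
      change Function.Bijective (fun f : X ⟶ R.obj K =>
        (DRing.restrictD φ).map f ≫ adj.counit.app K)
      rw [h]
      exact (adj.homEquiv X K).symm.bijective)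

include adj in
/-- A right adjoint of restriction of scalars along a finite map of Noetherian rings sends bounded
below objects with finite cohomology to objects with finite cohomology. -/
theorem finite_homology_rightAdjoint [IsNoetherianRing A] (hφ : φ.Finite) (K : Dual.D A) (a : ℤ)
    [K.IsGE a] (hK : ∀ j : ℤ, Module.Finite A (Dual.HD A K j)) (i : ℤ) :
    Module.Finite B (Dual.HD B (R.obj K) i) := by
  apply finite_homology_of_finite_hom
  letI := φ.toAlgebra
  haveI hfin : Module.Finite A B := hφ
  haveI : Module.Finite A ↑((ModuleCat.restrictScalars.{u} φ).obj (ModuleCat.of B B)) := hfin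
  have h1 := noeth_single_of_isGE ((ModuleCat.restrictScalars.{u} φ).obj (ModuleCat.of B B)) i K a hK
  have h2 : IsNoetherian A ((DRing.restrictD φ).obj (Q.obj (sglA B i)) ⟶ K) :=
    isNoetherian_of_linearEquiv (Linear.homCongr A (resSglIso (φ := φ) i).symm (Iso.refl K))
  letI : Module A (Q.obj (sglA B i) ⟶ R.obj K) := Module.compHom _ φ
  haveI : IsScalarTower A B (Q.obj (sglA B i) ⟶ R.obj K) :=
    ⟨fun a b f => by
      change (φ a * b) • f = φ a • (b • f)
      rw [mul_smul]⟩
  haveI : Module.Finite A (Q.obj (sglA B i) ⟶ R.obj K) :=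
    haveI : Module.Finite A ((DRing.restrictD φ).obj (Q.obj (sglA B i)) ⟶ K) :=
      Module.IsNoetherian.finite A _
    Module.Finite.equiv (adjLinearEquiv R adj (Q.obj (sglA B i)) K).symm
  exact Module.Finite.of_restrictScalars_finite A B _

end Main

end Groth.Agent.Lib.Helper25.TrivDual
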