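import Groth.Agent.Lib.Helper25.QisLift
import Groth.Agent.Lib.Helper84.FlatAmp

/-!
# The canonical truncation `τ_{≥ a}` of a K-flat complex with flat terms

If `F` is K-flat with flat terms and `H^{a-1}(N ⊗ F) = 0` for all modules `N`, then `τ_{≥ a} F`
has flat terms and is K-flat.
-/

set_option autoImplicit false
universe u

namespace Groth.Agent.Lib.Helper25.TruncKFlat

open CategoryTheory CategoryTheory.Limits HomologicalComplex MonoidalCategory
open Groth.Agent.Lib.Helper25.TensorCx Groth.Agent.Lib.Helper25.KFlat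
open Groth.Agent.Lib.Helper25.QisLift Groth.Agent.Lib.Helper84.TensCx

variable {R : Type u} [CommRing R]

theorem isIso_πTruncGE_f (F : Cx R) (a i : ℤ) (hi : a < i) : IsIso ((F.πTruncGE a).f i) := by
  obtain ⟨k, rfl⟩ : ∃ k : ℕ, i = a + k := ⟨(i - a).toNat, by omega⟩
  have h := (ComplexShape.embeddingUpIntGE a).isIso_liftExtend_f_iff
    (F.restrictionToTruncGE' (ComplexShape.embeddingUpIntGE a))
    (F.restrictionToTruncGE'_hasLift (ComplexShape.embeddingUpIntGE a)) (i := k) (i' := a + k) rfl
  refine h.2 (HomologicalComplex.isIso_restrictionToTruncGE' F _ k ?_)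
  rw [ComplexShape.boundaryGE_embeddingUpIntGE_iff]
  omega

theorem πTruncGE_f_surjective (F : Cx R) (a i : ℤ) : Function.Surjective ((F.πTruncGE a).f i).hom := by
  have : Epi ((F.πTruncGE a).f i) := by
    dsimp [CochainComplex.πTruncGE]
    infer_instance
  exact (ModuleCat.epi_iff_surjective _).1 this

/-- the terms of the truncation are flat -/
theorem flat_truncGE (F : Cx R) (a : ℤ) (hF : ∀ i, Module.Flat R (F.X i))
    (hex : ∀ N : ModuleCat.{u} R, ((tens N).obj F).ExactAt (a - 1)) (i : ℤ) :
    Module.Flat R ((F.truncGE a).X i) := by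
  rcases lt_trichotomy i a with hlt | rfl | hgt
  · exact Groth.Agent.Lib.Helper84.FlatAmp.flat_of_isZero
      (CochainComplex.isZero_of_isStrictlyGE _ a i hlt)
  · haveI := hF i
    haveI : Module.Flat R (ModuleCat.of R (F.X i ⧸ LinearMap.range (F.d (i - 1) i).hom)) :=
      Groth.Agent.Lib.Helper84.FlatAmp.flat_coker_of_exactAt F i hex
    exact flat_of_iso ((F.truncGEXIsoOpcycles i) ≪≫
      Groth.Agent.Lib.Helper84.FlatAmp.opcyclesIsoCoker F (i - 1) i (by lia)).symm
  · haveI := hF i
    exact flat_of_iso (F.truncGEXIso a i hgt).symm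

/-- the truncation of a K-flat complex with flat terms is K-flat as soon as its terms are flat -/
theorem isKFlat_truncGE (F : Cx R) (a : ℤ) (hK : IsKFlat F) (hF : ∀ i, Module.Flat R (F.X i))
    (hE : ∀ i, Module.Flat R ((F.truncGE a).X i)) : IsKFlat (F.truncGE a) := by
  have hsurj := πTruncGE_f_surjective F a
  have hS := kerSC_shortExact (F.πTruncGE a) hsurj
  have hG : IsKFlat (kerCx (F.πTruncGE a)) := by
    apply isKFlat_of_boundedAbove_of_flat _ a
    · intro q hq
      have hiso := isIso_πTruncGE_f F a q hq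
      have hinj : Function.Injective ((F.πTruncGE a).f q).hom :=
        (ModuleCat.mono_iff_injective _).1 inferInstance
      have : Subsingleton (LinearMap.ker ((F.πTruncGE a).f q).hom) := by
        rw [LinearMap.ker_eq_bot.2 hinj]
        infer_instance
      change IsZero (ModuleCat.of R (LinearMap.ker ((F.πTruncGE a).f q).hom))
      exact ModuleCat.isZero_of_subsingleton _
    · intro q
      haveI := hF q
      haveI := hE q
      exact Groth.Agent.Lib.Helper84.FlatAcyclic.flat_ker ((F.πTruncGE a).f q).hom (hsurj q)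
  exact (kflat_two_of_three (kerSC (F.πTruncGE a)) hS hE).1 hG hK

end Groth.Agent.Lib.Helper25.TruncKFlat
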