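import Groth.Agent.Lib.Helper25.WayOutCx
import Groth.Agent.Lib.Helper84.KInj

/-!
# Way-out tools in `D(A)`, II: tensor complexes in high/low degrees, cones, injective amplitude
-/

set_option autoImplicit false
universe u

namespace Groth.Agent.Lib.Helper25.WayOutCx

open CategoryTheory CategoryTheory.Limits MonoidalCategory HomologicalComplex DerivedCategory
open CategoryTheory.Pretriangulated
open Groth.Agent.Lib.Helper25.TensorCx Groth.Agent.Lib.Helper25.DerAdj

attribute [local instance] HasDerivedCategory.standard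

variable {A : Type u} [CommRing A]

/-- if `X` vanishes above `b` and `ι` is an isomorphism in degrees `≥ r`, then `X ◁ ι` is an
isomorphism in degrees `≥ b + r` -/
theorem isIso_whiskerLeft_f (X : Cx A) (b : ℤ) (hb : ∀ p, b < p → IsZero (X.X p))
    {E' E : Cx A} (ι : E' ⟶ E) (r : ℤ) (hι : ∀ q, r ≤ q → IsIso (ι.f q)) (k : ℤ)
    (hk : b + r ≤ k) :
    IsIso ((X ◁ ι : (X ⊗ E' : Cx A) ⟶ X ⊗ E).f k) := by
  rw [ConcreteCategory.isIso_iff_bijective]
  constructor
  · rw [injective_iff_map_eq_zero]
    intro z hz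
    apply ext_comp
    intro p q h
    rw [map_zero]
    have h1 := comp_whiskerLeft X ι p q k h z
    rw [hz, map_zero] at h1
    by_cases hq : r ≤ q
    · have := hι q hq
      let e : E'.X q ≃ₗ[A] E.X q := (asIso (ι.f q)).toLinearEquiv
      have hinj : Function.Injective (LinearMap.lTensor (X.X p) (ι.f q).hom) :=
        (LinearEquiv.lTensor (X.X p) e).injective
      exact hinj (h1.symm.trans (map_zero _).symm)
    · have : Subsingleton (X.X p) := ModuleCat.isZero_iff_subsingleton.1 (hb p (by omega))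
      exact Groth.Agent.Lib.Helper25.KFlat.tensor_eq_zero_of_subsingleton_left _
  · intro x
    induction x using tm_induction X E with
    | zero => exact ⟨0, map_zero _⟩
    | add x y hx hy =>
      obtain ⟨a, ha⟩ := hx
      obtain ⟨c, hc⟩ := hy
      exact ⟨a + c, by rw [map_add, ha, hc]⟩
    | tm' p q h l e =>
      by_cases hq : r ≤ q
      · have := hι q hq
        obtain ⟨e', he'⟩ := ((ConcreteCategory.isIso_iff_bijective (ι.f q)).1 this).surjective e
        exact ⟨tm X E' p q k h l e', by rw [whiskerLeft_tm, he']⟩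
      · have : Subsingleton (X.X p) := ModuleCat.isZero_iff_subsingleton.1 (hb p (by omega))
        exact ⟨0, by rw [map_zero, Subsingleton.elim l 0, tm_zero_left]⟩

/-- the tensor product of complexes vanishing below `m` and `j` vanishes below `m + j` -/
theorem isZero_tensor_X_of_lt (Z S : Cx A) (m j : ℤ) (hZ : ∀ p, p < m → IsZero (Z.X p))
    (hS : ∀ q, q < j → IsZero (S.X q)) (k : ℤ) (hk : k < m + j) :
    IsZero ((Z ⊗ S : Cx A).X k) := by
  rw [ModuleCat.isZero_iff_subsingleton]
  suffices key : ∀ x : (Z ⊗ S : Cx A).X k, x = 0 from ⟨fun a b => by rw [key a, key b]⟩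
  intro x
  induction x using tm_induction Z S with
  | zero => rfl
  | add x y hx hy => rw [hx, hy, add_zero]
  | tm' p q h l e =>
    by_cases hp : p < m
    · have : Subsingleton (Z.X p) := ModuleCat.isZero_iff_subsingleton.1 (hZ p hp)
      rw [Subsingleton.elim l 0, tm_zero_left]
    · have : Subsingleton (S.X q) := ModuleCat.isZero_iff_subsingleton.1 (hS q (by omega))
      rw [Subsingleton.elim e 0, tm_zero_right]

/-- the cone of (the image in `D(A)` of) a chain map which is an isomorphism in degrees `≥ r`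
lies in `D^{≤ r - 1}` -/
theorem isLE_obj₃_of_isIso_f_ge {E' E : Cx A} (φ : E' ⟶ E) (r : ℤ)
    (hφ : ∀ q, r ≤ q → IsIso (φ.f q)) {Z : Dual.D A} (g : Q.obj E ⟶ Z)
    (k : Z ⟶ (Q.obj E')⟦(1 : ℤ)⟧) (hT : Triangle.mk (Q.map φ) g k ∈ distTriang (Dual.D A)) :
    Z.IsLE (r - 1) := by
  rw [isLE_iff]
  intro i hi
  refine Groth.Agent.Lib.Helper25.DCompAmp.isZero_homology_obj₃ _ hT i (i + 1) rfl ?_ ?_
  · change Epi ((DerivedCategory.homologyFunctor (ModuleCat.{u} A) i).map (Q.map φ))
    rw [Groth.Agent.Lib.Helper62.epi_homologyFunctor_map_Q_iff]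
    by_cases h : i = r
    · subst h
      exact Groth.Agent.Lib.Helper62.epi_homologyMap_of_isIso_f_ge i φ hφ
    · have := Groth.Agent.Lib.Helper62.isIso_homologyMap_of_isIso_f_ge r φ hφ i (by omega)
      infer_instance
  · change Mono ((DerivedCategory.homologyFunctor (ModuleCat.{u} A) (i + 1)).map (Q.map φ))
    have : IsIso ((DerivedCategory.homologyFunctor (ModuleCat.{u} A) (i + 1)).map (Q.map φ)) := by
      rw [Groth.Agent.Lib.Helper62.isIso_homologyFunctor_map_Q_iff]
      exact Groth.Agent.Lib.Helper62.isIso_homologyMap_of_isIso_f_ge r φ hφ (i + 1) (by omega)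
    infer_instance

/-- `Hom(W, I) = 0` for `W ∈ D^{≥ d + 1}` and `I` a bounded complex of injectives vanishing
above `d` -/
theorem subsingleton_hom_of_isGE_of_injective (W : Dual.D A) (I : Cx A) (a d : ℤ)
    (hI : DRing.VanishesOutside I a d) (hinj : DRing.TermwiseInjective I) [W.IsGE (d + 1)] :
    Subsingleton (W ⟶ Q.obj I) := by
  obtain ⟨W', hW', ⟨e⟩⟩ := W.exists_iso_Q_obj_of_isGE (d + 1)
  haveI : I.IsKInjective :=
    Groth.Agent.Lib.Helper84.KInj.isKInjective_of_vanishesBelow I a (fun i hi => hI i (Or.inl hi))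
      (fun i => by
        have := hinj i
        exact Module.injective_object_of_injective_module A (I.X i))
  suffices key : ∀ g : W ⟶ Q.obj I, g = 0 from ⟨fun a b => by rw [key a, key b]⟩
  intro g
  obtain ⟨ψ, hψ⟩ := Groth.Agent.Lib.Helper84.KInj.exists_Q_map_eq W' I (e.inv ≫ g)
  have hψ0 : ψ = 0 := by
    ext i : 1
    by_cases hi : i ≤ d
    · exact (W'.isZero_of_isStrictlyGE (d + 1) i (by omega)).eq_of_src _ _
    · exact (hI i (Or.inr (by omega))).eq_of_tgt _ _
  rw [hψ0, Functor.map_zero] at hψ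
  rw [← cancel_epi e.inv, comp_zero, ← hψ]

end Groth.Agent.Lib.Helper25.WayOutCx
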