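import Mathlib
import Groth.Agent.Lib.Helper6.WeilAlg

/-!
# FT for helper6's S16770/S16790/S6064: the Weil restriction algebra of a finite type algebra is
of finite type (helper25)
-/

open TensorProduct Module

universe u

open Groth.Agent.Lib.Helper6.WeilAlg

namespace Groth.Agent.Lib.Helper25.WeilAlgFT

theorem finiteType_WAlg {R : Type u} [CommRing R] {C : Type u} [CommRing C] [Algebra R C]
    {ι : Type} [Fintype ι] (b : Basis ι R C) (B : Type u) [CommRing B] [Algebra R B]
    [Algebra.FiniteType R B] : Algebra.FiniteType R (WAlg b B) := by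
  classical
  obtain ⟨s, hs⟩ := (Algebra.FiniteType.out : (⊤ : Subalgebra R B).FG)
  let G : Finset (WAlg b B) :=
    (s ×ˢ (Finset.univ : Finset ι)).image (fun p => q b B (MvPolynomial.X (p.1, p.2)))
  let W0 : Subalgebra R (WAlg b B) := Algebra.adjoin R (G : Set (WAlg b B))
  let D : Subalgebra R (WAlg b B ⊗[R] C) :=
    (Algebra.TensorProduct.map W0.val (AlgHom.id R C)).range
  have hG : ∀ x ∈ s, ∀ i : ι, q b B (MvPolynomial.X (x, i)) ∈ W0 := by
    intro x hx i
    apply Algebra.subset_adjoin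
    rw [Finset.mem_coe, Finset.mem_image]
    exact ⟨(x, i), Finset.mem_product.2 ⟨hx, Finset.mem_univ i⟩, rfl⟩
  have hsD : ∀ x ∈ s, coev b B x ∈ D := by
    intro x hx
    rw [coev_apply]
    refine ⟨∑ i, (⟨q b B (MvPolynomial.X (x, i)), hG x hx i⟩ : W0) ⊗ₜ[R] b i, ?_⟩
    change (Algebra.TensorProduct.map W0.val (AlgHom.id R C))
      (∑ i, (⟨q b B (MvPolynomial.X (x, i)), hG x hx i⟩ : W0) ⊗ₜ[R] b i) = _
    rw [map_sum]
    refine Finset.sum_congr rfl fun i _ => ?_
    rw [Algebra.TensorProduct.map_tmul]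
    rfl
  have hall : ∀ y : B, coev b B y ∈ D := by
    intro y
    have hle : (⊤ : Subalgebra R B) ≤ D.comap (coev b B) := by
      rw [← hs]
      exact Algebra.adjoin_le (fun x hx => hsD x hx)
    exact hle Algebra.mem_top
  have hq : ∀ (y : B) (i : ι), q b B (MvPolynomial.X (y, i)) ∈ W0 := by
    intro y i
    obtain ⟨z', hz''⟩ := hall y
    have hz' : (Algebra.TensorProduct.map W0.val (AlgHom.id R C)) z' = coev b B y := hz''
    have h1 : (Algebra.TensorProduct.basis (WAlg b B) b).repr (coev b B y) i =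
        q b B (MvPolynomial.X (y, i)) := by
      rw [coev_apply, repr_sum_tmul]
    rw [← h1, ← hz']
    have h2 := repr_map b W0.val z' i
    rw [h2]
    exact Subtype.property _
  have htop : W0 = ⊤ := by
    rw [eq_top_iff]
    intro w _
    obtain ⟨p, rfl⟩ := q_surjective b B w
    have hle : (⊤ : Subalgebra R (Poly R B ι)) ≤ W0.comap (q b B) := by
      rw [← MvPolynomial.adjoin_range_X]
      apply Algebra.adjoin_le
      rintro _ ⟨⟨y, i⟩, rfl⟩
      exact hq y i
    exact hle Algebra.mem_top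
  exact ⟨⟨G, htop⟩⟩

end Groth.Agent.Lib.Helper25.WeilAlgFT
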